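import Groth.Agent.L27.EtSite.StrictLocal
import Groth.Agent.L27.EtSite.BaseChangeAux

/-! # Units on global sections along local morphisms of strictly henselian local schemes -/

universe u

open CategoryTheory CategoryTheory.Limits AlgebraicGeometry Opposite IsLocalRing

set_option backward.isDefEq.respectTransparency.types false
set_option linter.style.haveILetI false
set_option linter.unusedSectionVars false

noncomputable section

namespace Groth.L27.StalkBC

/-- Germs at a point all of whose neighbourhoods receive a section from a terminal object. -/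
theorem bijective_toPresheafFiber_of_sections {C : Type*} [Category C] [LocallySmall.{u} C] {J : GrothendieckTopology C}
    (Φ : GrothendieckTopology.Point.{u} J) {T : C} (hT : IsTerminal T) (x : Φ.fiber.obj T)
    (hs : ∀ (U : C) (y : Φ.fiber.obj U), ∃ σ : T ⟶ U, Φ.fiber.map σ x = y)
    (P : Cᵒᵖ ⥤ AddCommGrpCat.{u + 1}) : Function.Bijective (Φ.toPresheafFiber T x P) := by
  constructor
  · intro z₁ z₂ h
    obtain ⟨Y, g, y, -, hg⟩ := (Φ.toPresheafFiber_eq_iff' _ _ _ _).1 h
    obtain ⟨σ, -⟩ := hs Y y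
    have e : σ ≫ g = 𝟙 _ := hT.hom_ext _ _
    have := congrArg (P.map σ.op) hg
    rwa [← ConcreteCategory.comp_apply, ← ConcreteCategory.comp_apply, ← P.map_comp, ← op_comp, e,
      op_id, P.map_id, ConcreteCategory.id_apply, ConcreteCategory.id_apply] at this
  · intro p
    obtain ⟨U, y, t, rfl⟩ := Φ.toPresheafFiber_jointly_surjective p
    obtain ⟨σ, hσ⟩ := hs U y
    exact ⟨P.map σ.op t, by rw [GrothendieckTopology.Point.toPresheafFiber_w_apply, hσ]⟩

variable {A B : Type u} [CommRing A] [HenselianLocalRing A] [IsSepClosed (ResidueField A)]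
  [CommRing B] [HenselianLocalRing B] [IsSepClosed (ResidueField B)] (ψ : A →+* B) [IsLocalHom ψ]

theorem closedPt_comp : EtSite.closedPt B ≫ Spec.map (CommRingCat.ofHom ψ) =
    Spec.map (CommRingCat.ofHom (ResidueField.map ψ)) ≫ EtSite.closedPt A := by
  rw [← Spec.map_comp, ← Spec.map_comp]
  exact congrArg Spec.map (CommRingCat.hom_ext (ResidueField.map_comp_residue ψ).symm)

/-- The closed point of the base change of the top object. -/
abbrev bcTopPt : (Scheme.pointSmallEtale (EtSite.closedPt B)).fiber.obj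
    ((EtCoh.bc (Spec.map (CommRingCat.ofHom ψ))).obj (EtCoh.top (Spec (CommRingCat.of A)))) :=
  (Scheme.pointSmallEtale (EtSite.closedPt B)).fiber.map
    (EtCore.bcTopIso (Spec.map (CommRingCat.ofHom ψ))).inv (EtSite.topPt B)

theorem exists_section_bc (U : (Spec (CommRingCat.of B)).Etale)
    (y : (Scheme.pointSmallEtale (EtSite.closedPt B)).fiber.obj U) :
    ∃ σ : (EtCoh.bc (Spec.map (CommRingCat.ofHom ψ))).obj (EtCoh.top (Spec (CommRingCat.of A))) ⟶ U,
      (Scheme.pointSmallEtale (EtSite.closedPt B)).fiber.map σ (bcTopPt ψ) = y := by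
  obtain ⟨σ, hσ⟩ := EtSite.exists_section B U y
  refine ⟨(EtCore.bcTopIso _).hom ≫ σ, ?_⟩
  refine (Functor.map_comp_apply _ _ _ _).symm.trans ?_
  exact (congrArg (fun m => (Scheme.pointSmallEtale (EtSite.closedPt B)).fiber.map m (EtSite.topPt B))
    (Iso.inv_hom_id_assoc _ σ)).trans hσ

theorem exists_section_comap (U : (Spec (CommRingCat.of A)).Etale)
    (y : ((EtCoh.bc (Spec.map (CommRingCat.ofHom ψ))) ⋙ (Scheme.pointSmallEtale (EtSite.closedPt B)).fiber).obj U) :
    ∃ σ : EtCoh.top (Spec (CommRingCat.of A)) ⟶ U,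
      ((EtCoh.bc (Spec.map (CommRingCat.ofHom ψ))) ⋙ (Scheme.pointSmallEtale (EtSite.closedPt B)).fiber).map σ
        (bcTopPt ψ) = y := by
  let f := Spec.map (CommRingCat.ofHom ψ)
  let T := EtCoh.top (Spec (CommRingCat.of A))
  have hy : y.left ≫ pullback.snd U.hom f = EtSite.closedPt B := Over.w y
  have hx : (bcTopPt ψ).left ≫ pullback.snd T.hom f = EtSite.closedPt B := Over.w (bcTopPt ψ)
  have hz : (y.left ≫ pullback.fst U.hom f) ≫ U.hom =
      Spec.map (CommRingCat.ofHom (ResidueField.map ψ)) ≫ EtSite.closedPt A := by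
    refine ((Category.assoc _ _ _).trans ((congrArg (y.left ≫ ·) pullback.condition).trans
      ((Category.assoc _ _ _).symm.trans (congrArg (· ≫ f) hy)))).trans ?_
    exact closedPt_comp ψ
  obtain ⟨y₀, hy₀⟩ := EtSite.exists_descend (EtSite.closedPt A) U
    (Spec.map (CommRingCat.ofHom (ResidueField.map ψ))) (y.left ≫ pullback.fst U.hom f) hz
  obtain ⟨σ, hσ⟩ := EtSite.exists_section A U y₀
  refine ⟨σ, Over.OverMorphism.ext ?_⟩
  show (bcTopPt ψ).left ≫ ((EtCoh.bc f).map σ).left = y.left
  refine pullback.hom_ext ?_ (((Category.assoc _ _ _).trans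
    (congrArg ((bcTopPt ψ).left ≫ ·) (MorphismProperty.Over.w ((EtCoh.bc f).map σ)))).trans (hx.trans hy.symm))
  refine ((Category.assoc _ _ _).trans (congrArg ((bcTopPt ψ).left ≫ ·) (EtCoh.isPullback_bc_map f σ).w)).trans ?_
  refine Eq.trans ?_ hy₀
  refine Eq.trans ?_ (congrArg (fun z : (Scheme.pointSmallEtale (EtSite.closedPt A)).fiber.obj U =>
    Spec.map (CommRingCat.ofHom (ResidueField.map ψ)) ≫ z.left) hσ)
  refine Eq.trans ((Category.assoc _ _ _).symm.trans (congrArg (· ≫ σ.left) ?_)) (Category.assoc _ _ _)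
  refine Eq.trans ?_ (closedPt_comp ψ)
  have h1 : ((bcTopPt ψ).left ≫ pullback.fst T.hom f) ≫ T.hom = EtSite.closedPt B ≫ f := by
    exact (Category.assoc _ _ _).trans ((congrArg ((bcTopPt ψ).left ≫ ·) pullback.condition).trans
      ((Category.assoc _ _ _).symm.trans (congrArg (· ≫ f) hx)))
  exact (Category.comp_id _).symm.trans h1

/-- A local morphism of strictly henselian local schemes induces bijections on global sections. -/
theorem bijective_unit_top (F : EtCoh.Ab (Spec (CommRingCat.of A))) :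
    Function.Bijective (((EtCoh.pullPushAdj (Spec.map (CommRingCat.ofHom ψ))).unit.app F).hom.app
      (op (EtCoh.top (Spec (CommRingCat.of A))))) := by
  let f := Spec.map (CommRingCat.ofHom ψ)
  let Φ := Scheme.pointSmallEtale (EtSite.closedPt B)
  have hT' : IsTerminal ((EtCoh.bc f).obj (EtCoh.top (Spec (CommRingCat.of A)))) :=
    (EtSite.isTerminalTop _).ofIso (EtCore.bcTopIso f).symm
  have h₂ := bijective_toPresheafFiber_of_sections Φ hT' (bcTopPt ψ) (exists_section_bc ψ)
    ((EtCoh.pull f).obj F).obj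
  have h₁ := bijective_toPresheafFiber_of_sections (Φ.comap (EtCoh.bc f) (EtCoh.coverPreserving_bc f))
    (EtSite.isTerminalTop _) (bcTopPt ψ) (exists_section_comap ψ) F.obj
  have h := EtSite.toPresheafFiber_sheafFiberComapIso_hom Φ (EtCoh.bc f) (EtCoh.coverPreserving_bc f)
    AddCommGrpCat.{u + 1} F (EtCoh.top _) (bcTopPt ψ)
  have hb := (ConcreteCategory.bijective_of_isIso
    ((Φ.sheafFiberComapIso (EtCoh.bc f) (EtCoh.coverPreserving_bc f) AddCommGrpCat.{u + 1}).hom.app F)).comp h₁
  refine (Function.Bijective.of_comp_iff' h₂ _).1 ?_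
  exact Eq.subst (motive := Function.Bijective) (funext fun s => ConcreteCategory.congr_hom h s) hb

end Groth.L27.StalkBC
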