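import Groth.Agent.L27.StalkBC.Core
import Groth.Agent.L27.StalkBC.TopUnit
import Groth.Agent.L27.LimBC.StrictLocal
import Groth.Agent.L27.LimBC.LAFibre
import Groth.Agent.L05.Henselization.Strict
import Groth.Prelude.Def_EtCore

/-! # Base change maps are detected by pullbacks on cohomology over strictly local bases -/

universe u

open CategoryTheory CategoryTheory.Limits AlgebraicGeometry Opposite IsLocalRing

set_option backward.isDefEq.respectTransparency.types false
set_option linter.style.haveILetI false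
set_option linter.unusedSectionVars false

noncomputable section

namespace Groth.L27.StalkBC

open Groth.L27.LimCoh Groth.L27.LimBC

/-- Bijective on morphisms out of the constant sheaf. -/
def PB {X : Scheme.{u}} {F G : EtCoh.Ab X} (φ : F ⟶ G) : Prop :=
  Function.Bijective fun a : EtCoh.const X ℤ ⟶ F => a ≫ φ

theorem pb_of_isIso {X : Scheme.{u}} {F G : EtCoh.Ab X} (φ : F ⟶ G) [IsIso φ] : PB φ :=
  (asIso φ).homToEquiv.bijective

theorem pb_comp_left {X : Scheme.{u}} {F G K : EtCoh.Ab X} (a : F ⟶ G) [IsIso a] (φ : G ⟶ K) :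
    PB (a ≫ φ) ↔ PB φ := by
  refine Iff.trans ?_ (Function.Bijective.of_comp_iff _ (pb_of_isIso a))
  exact iff_of_eq (congrArg Function.Bijective (funext fun z => (Category.assoc _ _ _).symm))

theorem pb_comp_right {X : Scheme.{u}} {F G K : EtCoh.Ab X} (φ : F ⟶ G) (a : G ⟶ K) [IsIso a] :
    PB (φ ≫ a) ↔ PB φ := by
  refine Iff.trans ?_ (Function.Bijective.of_comp_iff' (pb_of_isIso a) _)
  exact iff_of_eq (congrArg Function.Bijective (funext fun z => (Category.assoc _ _ _).symm))

theorem pb_iff_top {X : Scheme.{u}} {F G : EtCoh.Ab X} (φ : F ⟶ G) :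
    PB φ ↔ Function.Bijective (φ.hom.app (op (EtCoh.top X))) := by
  refine Iff.trans ?_ (Function.Bijective.of_comp_iff _ secOf.bijective)
  refine (Function.Bijective.of_comp_iff' (secOf (X := X) (F := G)).bijective _).symm.trans ?_
  exact iff_of_eq (congrArg Function.Bijective (funext fun a => secOf_comp a φ))

theorem pb_bcQ_congr {X S Y T : Scheme.{u}} (g : T ⟶ S) (h : Y ⟶ X) {f₁ f₂ : X ⟶ S} {e₁ e₂ : Y ⟶ T}
    (hf : f₁ = f₂) (he : e₁ = e₂) [PreservesFiniteLimits (EtCoh.pull e₁)] [PreservesFiniteLimits (EtCoh.pull e₂)]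
    (w₁ : e₁ ≫ g = h ≫ f₁) (w₂ : e₂ ≫ g = h ≫ f₂) (q : ℕ) (F : EtCoh.Ab T) :
    PB (EtBC.bcQ g f₁ h e₁ w₁ q F) ↔ PB (EtBC.bcQ g f₂ h e₂ w₂ q F) := by
  subst hf he; exact Iff.rfl

section Local

variable {A B : Type u} [CommRing A] [HenselianLocalRing A] [IsSepClosed (ResidueField A)]
  [CommRing B] [HenselianLocalRing B] [IsSepClosed (ResidueField B)] (ψ : A →+* B) [IsLocalHom ψ]

theorem bijective_pullHom (M : EtCoh.Ab (Spec (CommRingCat.of A))) :
    Function.Bijective fun a : EtCoh.const (Spec (CommRingCat.of A)) ℤ ⟶ M =>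
      (EtCore.pullConst (Spec.map (CommRingCat.ofHom ψ)) ℤ).inv ≫
        (EtCoh.pull (Spec.map (CommRingCat.ofHom ψ))).map a := by
  let f := Spec.map (CommRingCat.ofHom ψ)
  haveI := EtSite.preservesFiniteLimits_pull f
  let P := (EtCoh.pull f).obj M
  refine (Function.Bijective.of_comp_iff' (secOf (X := Spec (CommRingCat.of B)) (F := P)).bijective _).1 ?_
  have h1 := ((ConcreteCategory.bijective_of_isIso (P.obj.map (EtCore.bcTopIso f).inv.op)).comp
    (bijective_unit_top ψ M)).comp (secOf (X := Spec (CommRingCat.of A)) (F := M)).bijective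
  refine Eq.subst (motive := Function.Bijective) (funext fun a => ?_) h1
  refine Eq.symm ((congrArg secOf (congrArg (_ ≫ ·) ?_)).trans ((secOf_transpose f P _).trans
    (congrArg (P.obj.map _) (secOf_comp a ((EtCoh.pullPushAdj f).unit.app M)))))
  exact ((EtCoh.pullPushAdj f).homEquiv _ _).eq_symm_apply.2 (((EtCoh.pullPushAdj f).homEquiv_unit _ _ _).trans
    ((EtCoh.pullPushAdj f).unit.naturality a).symm)

theorem projective_const (R : Type u) [CommRing R] [HenselianLocalRing R] [IsSepClosed (ResidueField R)] :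
    Projective (EtCoh.const (Spec (CommRingCat.of R)) ℤ) :=
  EtSite.projective_const R

theorem bijective_bcHom_iff {PS PX : Scheme.{u}} (g : PS ⟶ Spec (CommRingCat.of A))
    (h : PX ⟶ Spec (CommRingCat.of B)) (e : PX ⟶ PS) (w : e ≫ g = h ≫ Spec.map (CommRingCat.ofHom ψ))
    [PreservesFiniteLimits (EtCoh.pull e)] (G : EtCoh.Ab PS) (q : ℕ) :
    Function.Bijective (EtCore.Hpull e G q) ↔
      PB (EtBC.bcQ g (Spec.map (CommRingCat.ofHom ψ)) h e w q G) := by
  haveI := projective_const A
  haveI := projective_const B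
  haveI := EtSite.preservesFiniteLimits_pull (Spec.map (CommRingCat.ofHom ψ))
  haveI := EtSite.preservesFiniteLimits_pull g
  haveI := EtSite.preservesFiniteLimits_pull h
  refine (bijective_Hpull_iff_bcHom g _ h e w G q).trans ?_
  refine Iff.trans ?_ (Function.Bijective.of_comp_iff _ (bijective_pullHom ψ ((EtCoh.Rpush g q).obj G)))
  exact iff_of_eq (congrArg Function.Bijective (funext fun a => (Category.assoc _ _ _).symm))

end Local

variable {X S Y T : Scheme.{u}} (f : X ⟶ S) (g : T ⟶ S) [QuasiCompact g] [QuasiSeparated g] (h : Y ⟶ X)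
  (e : Y ⟶ T) (c : IsPullback e h g f) [PreservesFiniteLimits (EtCoh.pull e)] (F : EtCoh.Ab T) (q : ℕ) (x : X)
  (RS : Type u) [CommRing RS] [IsLocalRing RS] [Algebra (S.presheaf.stalk (f.base x)) RS]
  [IsLocalHom (algebraMap (S.presheaf.stalk (f.base x)) RS)]
  [Hensel.IsStrictHenselization (S.presheaf.stalk (f.base x)) RS]
  (RX : Type u) [CommRing RX] [IsLocalRing RX] [Algebra (X.presheaf.stalk x) RX]
  [IsLocalHom (algebraMap (X.presheaf.stalk x) RX)] [Hensel.IsStrictHenselization (X.presheaf.stalk x) RX]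
  (ψ : RS →+* RX) [IsLocalHom ψ]
  (hψ : ψ.comp (algebraMap (S.presheaf.stalk (f.base x)) RS) =
    (algebraMap (X.presheaf.stalk x) RX).comp (f.stalkMap x).hom)

include hψ in
theorem specOf_comp : Spec.map (CommRingCat.ofHom ψ) ≫ Hens2.specOf S (f.base x) RS = Hens2.specOf X x RX ≫ f := by
  show Spec.map _ ≫ Spec.map _ ≫ S.fromSpecStalk (f.base x) = (Spec.map _ ≫ X.fromSpecStalk x) ≫ f
  rw [← Spec.map_comp_assoc, Category.assoc, ← Scheme.SpecMap_stalkMap_fromSpecStalk, ← Spec.map_comp_assoc]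
  exact congrArg (fun r => Spec.map r ≫ S.fromSpecStalk (f.base x)) (CommRingCat.hom_ext hψ)

variable (PS PX : Scheme.{u}) (aS : PS ⟶ T) (bS : PS ⟶ Spec (CommRingCat.of RS))
  (cS : IsPullback aS bS g (Hens2.specOf S (f.base x) RS))
  (aX : PX ⟶ T) (bX : PX ⟶ Spec (CommRingCat.of RX)) (cX : IsPullback aX bX g (Hens2.specOf X x RX ≫ f))
  (m : PX ⟶ PS) (w : m ≫ aS = aX) (hm : m ≫ bS = bX ≫ Spec.map (CommRingCat.ofHom ψ))
  [PreservesFiniteLimits (EtCoh.pull m)]

include hψ cS cX hm in
theorem bijective_HpullVia_iff :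
    Function.Bijective (EtCore.HpullVia m aS aX w F q) ↔
      PB ((EtCoh.pull (Hens2.specOf X x RX)).map (EtBC.bcQ g f h e c.w q F)) := by
  haveI : HenselianLocalRing RS := Hensel.IsStrictHenselization.henselian (R := S.presheaf.stalk (f.base x))
  haveI : HenselianLocalRing RX := Hensel.IsStrictHenselization.henselian (R := X.presheaf.stalk x)
  haveI : IsSepClosed (ResidueField RS) :=
    (Hensel.IsStrictHenselization.isSepClosure (R := S.presheaf.stalk (f.base x)) (S := RS)).sep_closed
  haveI : IsSepClosed (ResidueField RX) :=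
    (Hensel.IsStrictHenselization.isSepClosure (R := X.presheaf.stalk x) (S := RX)).sep_closed
  let ηS := Hens2.specOf S (f.base x) RS
  let ηX := Hens2.specOf X x RX
  let ψS := Spec.map (CommRingCat.ofHom ψ)
  haveI := EtSite.preservesFiniteLimits_pull aX
  haveI := EtSite.preservesFiniteLimits_pull aS
  haveI := EtSite.preservesFiniteLimits_pull (m ≫ aS)
  let n := c.lift aX (bX ≫ ηX) (cX.w.trans (Category.assoc _ _ _).symm)
  have hne : n ≫ e = aX := c.lift_fst _ _ _
  have cn : IsPullback n bX h ηX := IsPullback.of_right (hne.symm ▸ cX) (c.lift_snd _ _ _) c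
  haveI := EtSite.preservesFiniteLimits_pull n
  haveI := EtSite.preservesFiniteLimits_pull (n ≫ e)
  have hv : Function.Bijective (EtCore.HpullVia m aS aX w F q) ↔
      Function.Bijective (EtCore.Hpull m ((EtCoh.pull aS).obj F) q) :=
    Function.Bijective.of_comp_iff' (ConcreteCategory.bijective_of_isIso ((EtCoh.HF PX q).map
      (((EtCore.pullComp m aS).symm ≪≫ EtCore.pullCongr w).app F).hom)) _
  refine hv.trans ((bijective_bcHom_iff ψ bS bX m hm _ q).trans ?_)
  have wA : (n ≫ e) ≫ g = bX ≫ (ηX ≫ f) := hne.symm ▸ cX.w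
  have wB : (m ≫ aS) ≫ g = bX ≫ (ψS ≫ ηS) := by
    rw [specOf_comp f x RS RX ψ hψ, w]; exact cX.w
  have eA : PB (EtBC.bcQ g (ηX ≫ f) bX (n ≫ e) wA q F) ↔
      PB ((EtCoh.pull ηX).map (EtBC.bcQ g f h e c.w q F)) := by
    haveI : QuasiCompact h := MorphismProperty.of_isPullback (P := @QuasiCompact) c inferInstance
    haveI : QuasiSeparated h := MorphismProperty.of_isPullback (P := @QuasiSeparated) c inferInstance
    haveI := isIso_bcQ_specOf h x RX bX n cn q ((EtCoh.pull e).obj F)
    haveI := isIso_gamma n e rfl F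
    haveI := isIso_gamma ηX f rfl ((EtCoh.Rpush g q).obj F)
    rw [← pb_comp_right _ ((EtCoh.Rpush bX q).map (gamma n e rfl F)),
      bcQ_vcomp g f h e c.w q ηX bX n cn.w wA F, pb_comp_left, pb_comp_right]
  have eB : PB (EtBC.bcQ g (ψS ≫ ηS) bX (m ≫ aS) wB q F) ↔
      PB (EtBC.bcQ bS ψS bX m hm q ((EtCoh.pull aS).obj F)) := by
    haveI := isIso_bcQ_specOf g (f.base x) RS bS aS cS q F
    haveI := isIso_gamma m aS rfl F
    haveI := isIso_gamma ψS ηS rfl ((EtCoh.Rpush g q).obj F)
    rw [← pb_comp_right _ ((EtCoh.Rpush bX q).map (gamma m aS rfl F)),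
      bcQ_vcomp g ηS bS aS cS.w q ψS bX m hm wB F, pb_comp_left, pb_comp_left]
  exact eB.symm.trans ((pb_bcQ_congr g bX (specOf_comp f x RS RX ψ hψ) (w.trans hne.symm) wB wA q F).trans eA)

omit hψ in
/-- Strict henselizations are functorial. -/
theorem exists_strictMap : ∃ (ψ : RS →+* RX) (_ : IsLocalHom ψ),
    ψ.comp (algebraMap (S.presheaf.stalk (f.base x)) RS) =
      (algebraMap (X.presheaf.stalk x) RX).comp (f.stalkMap x).hom := by
  haveI : HenselianLocalRing RX := Hensel.IsStrictHenselization.henselian (R := X.presheaf.stalk x)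
  let O := S.presheaf.stalk (f.base x)
  let f₀ : O →+* RX := (algebraMap (X.presheaf.stalk x) RX).comp (f.stalkMap x).hom
  haveI : IsLocalHom f₀ := RingHom.isLocalHom_comp _ _
  letI : Algebra (ResidueField O) (ResidueField RX) := (ResidueField.map f₀).toAlgebra
  haveI hc : IsSepClosure (ResidueField O) (ResidueField RS) := Hensel.IsStrictHenselization.isSepClosure
  haveI := hc.separable
  haveI : IsSepClosed (ResidueField RX) :=
    (Hensel.IsStrictHenselization.isSepClosure (R := X.presheaf.stalk x) (S := RX)).sep_closed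
  let τ : ResidueField RS →ₐ[ResidueField O] ResidueField RX := IsSepClosed.lift
  obtain ⟨ψ, ⟨h1, h2⟩, -⟩ := Hensel.IsStrictHenselization.universal (R := O) (S := RS) RX f₀ τ.toRingHom
    τ.comp_algebraMap
  refine ⟨ψ, ⟨fun a ha => ?_⟩, h1⟩
  by_contra hn
  exact (IsLocalRing.notMem_maximalIdeal.2 ha) ((IsLocalRing.residue_eq_zero_iff _).1 (by
    rw [h2, (IsLocalRing.residue_eq_zero_iff a).2 hn, map_zero]))

end Groth.L27.StalkBC

namespace Groth.L27.StalkBC

open Groth.L27.LimBC

/-- Bijectivity over every strict localization makes a morphism invertible. -/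
theorem isIso_of_pb {X : Scheme.{u}} {F G : EtCoh.Ab X} (φ : F ⟶ G)
    (H : ∀ (x : X) (R : Type u) [CommRing R] [IsLocalRing R] [Algebra (X.presheaf.stalk x) R]
      [IsLocalHom (algebraMap (X.presheaf.stalk x) R)] [Hensel.IsStrictHenselization (X.presheaf.stalk x) R],
      PB ((EtCoh.pull (Hens2.specOf X x R)).map φ)) : IsIso φ := by
  have key : ∀ z : X, ∃ (K : Type u) (_ : Field K) (_ : IsSepClosed K) (ξ : Spec (CommRingCat.of K) ⟶ X),
      ξ.base default = z ∧ Function.Bijective ((EtCoh.stalk ξ).map φ) := by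
    intro z
    obtain ⟨R, _, _, _, _, hR⟩ := L05.Henselization.exists_isStrictHenselization (X.presheaf.stalk z)
    haveI : HenselianLocalRing R := hR.henselian
    haveI : IsSepClosed (ResidueField R) := hR.isSepClosure.sep_closed
    refine ⟨ResidueField R, inferInstance, inferInstance, Hens2.geomPt X z R, ?_,
      bijective_stalk_geomPt z R φ ((pb_iff_top _).1 (H z R))⟩
    refine (Scheme.Hom.comp_apply _ _ _).trans (Eq.trans (congrArg (Hens2.specOf X z R) ?_) (specOf_closedPoint z R))
    rw [Subsingleton.elim (default : Spec (CommRingCat.of (ResidueField R))) (closedPoint (ResidueField R))]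
    exact IsLocalRing.comap_closedPoint (residue R)
  haveI : Mono φ := by
    have : Sheaf.IsLocallyInjective φ := EtSite.isLocallyInjective_of_some_stalks _ fun z => by
      obtain ⟨K, _, _, ξ, hξ, hb⟩ := key z
      exact ⟨K, _, inferInstance, ξ, hξ, hb.1⟩
    exact Sheaf.mono_of_isLocallyInjective _
  haveI : Epi φ :=
    (Sheaf.isLocallySurjective_iff_epi' (φ := φ)).1 (EtSite.isLocallySurjective_of_some_stalks _ fun z => by
      obtain ⟨K, _, _, ξ, hξ, hb⟩ := key z
      exact ⟨K, _, inferInstance, ξ, hξ, hb.2⟩)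
  exact isIso_of_mono_of_epi _

end Groth.L27.StalkBC
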