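import Groth.Agent.L27.StalkBC.FibreCrit

/-! # Fibre criterion over a separably closed point -/

universe u

open CategoryTheory CategoryTheory.Limits AlgebraicGeometry Opposite IsLocalRing

set_option autoImplicit false
set_option backward.isDefEq.respectTransparency.types false
set_option linter.style.haveILetI false
set_option linter.unusedSectionVars false

noncomputable section

namespace Groth.L27.StalkBC

open Groth.L27.LimCoh Groth.L27.LimBC

theorem isPullback_of_comp_mono {C : Type*} [Category C] {P X Y Z Z' : C} {a : P ⟶ X} {b : P ⟶ Y} {k : X ⟶ Z}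
    {g : Y ⟶ Z} (ι : Z ⟶ Z') [Mono ι] (c : IsPullback a b (k ≫ ι) (g ≫ ι)) : IsPullback a b k g :=
  ⟨⟨(cancel_mono ι).1 (by simpa using c.w)⟩, ⟨PullbackCone.IsLimit.mk _
    (fun s => c.lift s.fst s.snd (by simp [s.condition_assoc]))
    (fun s => c.lift_fst _ _ _) (fun s => c.lift_snd _ _ _)
    (fun s m h1 h2 => c.hom_ext (h1.trans (c.lift_fst _ _ _).symm) (h2.trans (c.lift_snd _ _ _).symm))⟩⟩

theorem fibre_criterion {X S : Scheme.{u}} (f : X ⟶ S) (x : X)
    (RS : Type u) [CommRing RS] [IsLocalRing RS] [Algebra (S.presheaf.stalk (f.base x)) RS]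
      [IsLocalHom (algebraMap (S.presheaf.stalk (f.base x)) RS)] [Hensel.IsStrictHenselization (S.presheaf.stalk (f.base x)) RS]
    (RX : Type u) [CommRing RX] [IsLocalRing RX] [Algebra (X.presheaf.stalk x) RX]
      [IsLocalHom (algebraMap (X.presheaf.stalk x) RX)] [Hensel.IsStrictHenselization (X.presheaf.stalk x) RX]
    (ψ : RS →+* RX) [IsLocalHom ψ]
    (hψ : ψ.comp (algebraMap (S.presheaf.stalk (f.base x)) RS) = (algebraMap (X.presheaf.stalk x) RX).comp (f.stalkMap x).hom)
    (K : Type u) [Field K] [IsSepClosed K] (κ : RS →+* K) (F : EtCoh.Ab (Spec (CommRingCat.of K))) (q : ℕ)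
    (PS PX : Scheme.{u}) (aS : PS ⟶ Spec (CommRingCat.of K)) (bS : PS ⟶ Spec (CommRingCat.of RS))
    (cS : IsPullback aS bS (Spec.map (CommRingCat.ofHom κ) ≫ Hens2.specOf S (f.base x) RS) (Hens2.specOf S (f.base x) RS))
    (aX : PX ⟶ Spec (CommRingCat.of K)) (bX : PX ⟶ Spec (CommRingCat.of RX))
    (cX : IsPullback aX bX (Spec.map (CommRingCat.ofHom κ) ≫ Hens2.specOf S (f.base x) RS) (Hens2.specOf X x RX ≫ f))
    (m : PX ⟶ PS) (w : m ≫ aS = aX) (hm : m ≫ bS = bX ≫ Spec.map (CommRingCat.ofHom ψ))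
    [PreservesFiniteLimits (EtCoh.pull m)] :
    Function.Bijective (EtCore.HpullVia m aS aX w F q) ↔
      ∀ (κ' : RS →+* K), κ'.comp (algebraMap (S.presheaf.stalk (f.base x)) RS) =
          κ.comp (algebraMap (S.presheaf.stalk (f.base x)) RS) →
        ∀ (Q' : Scheme.{u}) (aQ' : Q' ⟶ Spec (CommRingCat.of K)) (bQ' : Q' ⟶ Spec (CommRingCat.of RX)),
          IsPullback aQ' bQ' (Spec.map (CommRingCat.ofHom κ')) (Spec.map (CommRingCat.ofHom ψ)) →
          ∀ [PreservesFiniteLimits (EtCoh.pull aQ')], Function.Bijective (EtCore.Hpull aQ' F q) := by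
  let A := S.presheaf.stalk (f.base x)
  let σS := Hens2.specOf S (f.base x) RS
  let ψS := Spec.map (CommRingCat.ofHom ψ)
  let kS := Spec.map (CommRingCat.ofHom κ) ≫ σS
  have hσ := specOf_comp f x RS RX ψ hψ
  have cm : IsPullback m bX bS ψS := IsPullback.of_right (by rw [w, hσ]; exact cX) hm cS
  let k₀ := CommRingCat.ofHom (κ.comp (algebraMap A RS))
  have hk : kS = Spec.map k₀ ≫ S.fromSpecStalk (f.base x) := (Spec.map_comp_assoc _ _ _).symm
  have cA : IsPullback aS bS (Spec.map k₀) (Spec.map (CommRingCat.ofHom (algebraMap A RS))) :=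
    isPullback_of_comp_mono (S.fromSpecStalk (f.base x)) (hk ▸ cS)
  haveI : IsAffine PS := IsAffine.of_isIso cA.isoPullback.hom
  haveI : WeaklyEtale σS := Groth.Agent.S0754.result S (f.base x) RS
  haveI : WeaklyEtale aS := MorphismProperty.of_isPullback (P := @WeaklyEtale) cS.flip inferInstance
  have h1 : ∀ p : PS, IsClosed ({p} : Set PS) := isClosed_point_of_weaklyEtale K aS
  have h2 : ∀ p : PS, IsSepClosed (PS.residueField p) := isSepClosed_residueField_of_weaklyEtale K aS
  haveI : IsAffineHom m := MorphismProperty.of_isPullback (P := @IsAffineHom) cm.flip inferInstance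
  have hv : Function.Bijective (EtCore.HpullVia m aS aX w F q) ↔
      Function.Bijective (EtCore.Hpull m ((EtCoh.pull aS).obj F) q) :=
    Function.Bijective.of_comp_iff' (ConcreteCategory.bijective_of_isIso ((EtCoh.HF PX q).map
      (((EtCore.pullComp m aS).symm ≪≫ EtCore.pullCongr w).app F).hom)) _
  refine hv.trans ((bijective_Hpull_iff_fibres h1 h2 m _ q).trans ?_)
  constructor
  · intro H κ' hκ' Q' aQ' bQ' cQ _
    have hkS : 𝟙 _ ≫ kS = Spec.map (CommRingCat.ofHom κ') ≫ σS := by
      refine (Category.id_comp _).trans (hk.trans ?_)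
      show _ = Spec.map _ ≫ Spec.map _ ≫ S.fromSpecStalk (f.base x)
      rw [← Spec.map_comp_assoc]
      exact congrArg (fun r => Spec.map r ≫ _) (CommRingCat.hom_ext hκ'.symm)
    let s := cS.lift (𝟙 _) (Spec.map (CommRingCat.ofHom κ')) hkS
    obtain ⟨R, _, _, _, _, hR⟩ := L05.Henselization.exists_isStrictHenselization (PS.presheaf.stalk (s (closedPoint K)))
    let η := Hens2.specOf PS (s (closedPoint K)) R
    haveI hu : IsIso (η ≫ aS) := isIso_specOf_comp K aS _ R
    obtain ⟨g, hg⟩ := exists_lift_specOf K s R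
    have hs : inv (η ≫ aS) ≫ η = s := by
      refine Eq.trans (congrArg (· ≫ η) ?_) hg
      refine IsIso.inv_eq_of_inv_hom_id ?_
      rw [← Category.assoc, hg]
      exact cS.lift_fst _ _ _
    let n := cm.lift (aQ' ≫ s) bQ' (by rw [Category.assoc, cS.lift_snd]; exact cQ.w)
    have c1 : IsPullback n aQ' m s := by
      refine IsPullback.of_right ?_ (cm.lift_fst _ _ _) cm.flip
      rw [cm.lift_snd, cS.lift_snd]
      exact cQ.flip
    let u := asIso (η ≫ aS)
    have c2 : IsPullback n (aQ' ≫ u.inv) m η := by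
      refine c1.of_iso (Iso.refl _) (Iso.refl _) u.symm (Iso.refl _) (by simp) (by simp) (by simp) ?_
      rw [Iso.symm_hom, Iso.refl_hom, Category.comp_id, ← hs]
      rfl
    haveI := EtSite.preservesFiniteLimits_pull (aQ' ≫ u.inv)
    haveI := isIso_gamma η aS rfl F
    have h3 := bijective_Hpull_congr (aQ' ≫ u.inv) (asIso (gamma η aS rfl F)).symm q (H _ R Q' _ n c2)
    exact (bijective_Hpull_comp_iso (aQ' ≫ u.inv) (η ≫ aS) (by simp [u]) F q).1 h3
  · intro H p R _ _ _ _ _ W bX₀ n₀ c₀ _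
    let η := Hens2.specOf PS p R
    haveI hu : IsIso (η ≫ aS) := isIso_specOf_comp K aS p R
    let u := asIso (η ≫ aS)
    let s := u.inv ≫ η
    obtain ⟨φ, hφ⟩ := Spec.map_surjective (s ≫ bS)
    have hκ' : φ.hom.comp (algebraMap A RS) = κ.comp (algebraMap A RS) := by
      have e : Spec.map φ ≫ σS = kS := by
        rw [hφ, Category.assoc, ← cS.w, ← Category.assoc]
        refine (congrArg (· ≫ kS) ?_).trans (Category.id_comp _)
        exact (Category.assoc _ _ _).trans u.inv_hom_id
      rw [hk] at e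
      change Spec.map φ ≫ Spec.map _ ≫ _ = _ at e
      rw [← Spec.map_comp_assoc, cancel_mono] at e
      exact congrArg CommRingCat.Hom.hom (Spec.map_injective e)
    have c1 : IsPullback n₀ (bX₀ ≫ u.hom) m s := by
      refine c₀.of_iso (Iso.refl _) (Iso.refl _) u (Iso.refl _) (by simp) (by simp) (by simp) ?_
      exact (Category.comp_id _).trans ((u.hom_inv_id_assoc η).symm)
    have cQ := (c1.paste_horiz cm.flip).flip
    rw [← hφ] at cQ
    haveI := EtSite.preservesFiniteLimits_pull (bX₀ ≫ u.hom)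
    have h3 := (bijective_Hpull_comp_iso bX₀ (η ≫ aS) (k := bX₀ ≫ u.hom) rfl F q).2 (H φ.hom hκ' W _ _ cQ)
    haveI := isIso_gamma η aS rfl F
    exact bijective_Hpull_congr bX₀ (asIso (gamma η aS rfl F)) q h3

end Groth.L27.StalkBC
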