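import Groth.Agent.L27.StalkBC.BCStep
import Groth.Agent.L27.AffineEfface.SepPoint
import Groth.Agent.L10.BigColim.ExtRep
import Groth.Agent.L27.Colim.Etale
import Mathlib.GroupTheory.FiniteAbelian.Basic
import Mathlib.Data.Finset.Order

/-! # Vanishing of cohomology for sheaves on separably closed points from cyclic constant sheaves -/

universe u

open CategoryTheory CategoryTheory.Limits AlgebraicGeometry Opposite CategoryTheory.Abelian

set_option backward.defeqAttrib.useBackward true
set_option backward.isDefEq.respectTransparency false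
set_option backward.isDefEq.respectTransparency.types false
set_option linter.style.haveILetI false
set_option linter.unusedSectionVars false

noncomputable section

namespace Groth.L27.StalkBC

section Sub

variable (M : AddCommGrpCat.{u + 1})

/-- The finitely generated subgroups. -/
def subD : Finset M ⥤ AddCommGrpCat.{u + 1} where
  obj s := AddCommGrpCat.of (AddSubgroup.closure (s : Set M))
  map {s t} h := AddCommGrpCat.ofHom (AddSubgroup.inclusion (AddSubgroup.closure_mono (Finset.coe_subset.2 (leOfHom h))))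
  map_id _ := rfl
  map_comp _ _ := rfl

/-- The inclusions of the finitely generated subgroups. -/
def subC : Cocone (subD M) where
  pt := M
  ι := { app := fun s => AddCommGrpCat.ofHom (AddSubgroup.closure (s : Set M)).subtype
         naturality := fun _ _ _ => rfl }

/-- A group is the colimit of its finitely generated subgroups. -/
def isColimitSubC : IsColimit (subC M) :=
  haveI : DecidableEq M := Classical.decEq M
  let el (t : Cocone (subD M)) (s : Finset M) (x : M) (hx : x ∈ AddSubgroup.closure (s : Set M)) : t.pt :=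
    (t.ι.app s).hom ⟨x, hx⟩
  have key : ∀ (t : Cocone (subD M)) (s s' : Finset M) (x : M) (hx : x ∈ AddSubgroup.closure (s : Set M))
      (hx' : x ∈ AddSubgroup.closure (s' : Set M)), el t s x hx = el t s' x hx' := by
    intro t s s' x hx hx'
    have step : ∀ {a b : Finset M} (hab : a ⊆ b) (ha : x ∈ AddSubgroup.closure (a : Set M)),
        el t b x (AddSubgroup.closure_mono (Finset.coe_subset.2 hab) ha) = el t a x ha := fun hab ha =>
      congr($(t.w (homOfLE hab)).hom ⟨x, ha⟩)
    exact (step Finset.subset_union_left hx).symm.trans (step Finset.subset_union_right hx')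
  have mem1 : ∀ x : M, x ∈ AddSubgroup.closure (({x} : Finset M) : Set M) := fun x =>
    AddSubgroup.subset_closure (by simp)
  let d (t : Cocone (subD M)) : M →+ t.pt :=
    AddMonoidHom.mk' (fun x => el t {x} x (mem1 x)) fun x y => by
      have hx : x ∈ AddSubgroup.closure (({x, y} : Finset M) : Set M) := AddSubgroup.subset_closure (by simp)
      have hy : y ∈ AddSubgroup.closure (({x, y} : Finset M) : Set M) := AddSubgroup.subset_closure (by simp)
      show el t {x + y} (x + y) _ = el t {x} x _ + el t {y} y _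
      rw [key t {x + y} {x, y} (x + y) _ (add_mem hx hy), key t {x} {x, y} x _ hx, key t {y} {x, y} y _ hy]
      exact map_add (t.ι.app ({x, y} : Finset M)).hom ⟨x, hx⟩ ⟨y, hy⟩
  { desc := fun t => AddCommGrpCat.ofHom (d t)
    fac := fun t s => AddCommGrpCat.hom_ext (AddMonoidHom.ext fun ⟨x, hx⟩ => key t {x} s x (mem1 x) hx)
    uniq := fun t m hm => AddCommGrpCat.hom_ext (AddMonoidHom.ext fun x =>
      congr($(hm {x}).hom ⟨x, mem1 x⟩)) }

end Sub

section Rep

/-- Maps out of the constant sheaf of the integers are global sections. -/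
def secMap (P : Scheme.{u}) (F : EtCoh.Ab P) : (EtCoh.const P ℤ ⟶ F) →+ F.obj.obj (op (EtCoh.top P)) :=
  AddMonoidHom.mk'
    (fun φ => φ.hom.app (op (EtCoh.top P)) (((EtCore.constAdj P).unit.app _).hom (ULift.up 1)))
    fun _ _ => rfl

theorem secMap_bijective (P : Scheme.{u}) (F : EtCoh.Ab P) : Function.Bijective (secMap P F) := by
  let e := (EtCore.constAdj P).homEquiv (AddCommGrpCat.of (ULift.{u + 1} ℤ)) F
  have he : ∀ φ, secMap P F φ = (e φ).hom (ULift.up 1) := fun φ => by
    rw [Adjunction.homEquiv_unit]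
    rfl
  refine ⟨fun a b hab => e.injective (AddCommGrpCat.hom_ext (AddMonoidHom.ext fun ⟨z⟩ => ?_)), fun y => ?_⟩
  · rw [he, he] at hab
    have h1 : (ULift.up z : ULift.{u + 1} ℤ) = z • ULift.up 1 := by ext; simp
    rw [h1, map_zsmul, map_zsmul, hab]
  · let ψ : AddCommGrpCat.of (ULift.{u + 1} ℤ) ⟶ (EtCore.gsec P).obj F :=
      AddCommGrpCat.ofHom ((zmultiplesHom _ y).comp AddEquiv.ulift.toAddMonoidHom)
    refine ⟨e.symm ψ, ?_⟩
    rw [he, Equiv.apply_symm_apply]
    exact one_zsmul y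

/-- The constant sheaf of the integers represents global sections. -/
def repTop (P : Scheme.{u}) :
    Colim.ExtRep.Rep (J := P.smallEtaleTopology) (EtCoh.top P) (EtCoh.const P ℤ) where
  equiv F := AddEquiv.ofBijective (secMap P F) (secMap_bijective P F)
  nat _ _ := rfl

end Rep

section Finite

variable {P : Scheme.{u}} (Ψ : AddCommGrpCat.{u + 1} ⥤ EtCoh.Ab P) [Ψ.Additive] (q : ℕ) {n : ℕ}
  (hd : ∀ d : ℕ, d ∣ n → Subsingleton (EtCoh.H P (Ψ.obj (AddCommGrpCat.of (ULift.{u + 1} (ZMod d)))) q))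

include hd in
theorem subsingleton_H_finite (G : AddCommGrpCat.{u + 1}) [Finite G] (hn : ∀ x : G, n • x = 0) :
    Subsingleton (EtCoh.H P (Ψ.obj G) q) := by
  classical
  obtain ⟨ι, _, p, _, e, ⟨f⟩⟩ := AddCommGroup.equiv_directSum_zmod_of_finite G
  let d (i : ι) : ℕ := p i ^ e i
  have hdn : ∀ i, d i ∣ n := fun i => by
    have h := congrArg (DFinsupp.evalAddMonoidHom i) (congrArg f (hn (f.symm (DirectSum.of _ i 1))))
    rw [map_nsmul, f.apply_symm_apply, map_nsmul, map_zero, map_zero] at h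
    have h1 : (DFinsupp.evalAddMonoidHom i) (DirectSum.of (fun i => ZMod (d i)) i 1) = 1 := DirectSum.of_eq_same i 1
    rw [h1, nsmul_one] at h
    exact (ZMod.natCast_eq_zero_iff n (d i)).1 h
  let π (i : ι) : G ⟶ AddCommGrpCat.of (ULift.{u + 1} (ZMod (d i))) :=
    AddCommGrpCat.ofHom ((AddEquiv.ulift.symm.toAddMonoidHom.comp (DFinsupp.evalAddMonoidHom i)).comp f.toAddMonoidHom)
  let inj (i : ι) : AddCommGrpCat.of (ULift.{u + 1} (ZMod (d i))) ⟶ G :=
    AddCommGrpCat.ofHom ((f.symm.toAddMonoidHom.comp (DirectSum.of (fun i => ZMod (d i)) i)).comp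
      AddEquiv.ulift.toAddMonoidHom)
  have hid : 𝟙 G = ∑ i, π i ≫ inj i := by
    refine AddCommGrpCat.hom_ext (AddMonoidHom.ext fun x => f.injective ?_)
    rw [show ((∑ i, π i ≫ inj i).hom x) = ∑ i, (π i ≫ inj i).hom x from
      map_sum ((AddMonoidHom.mk' (fun (g : G ⟶ G) => g.hom x) fun _ _ => rfl)) _ _, map_sum]
    simp [π, inj]
    exact (DirectSum.sum_univ_of (f x)).symm
  refine subsingleton_of_forall_eq 0 fun x => ?_
  let φ : (Ψ.obj G ⟶ Ψ.obj G) →+ EtCoh.H P (Ψ.obj G) q :=
    AddMonoidHom.mk' (fun a => (x : EtCoh.H P (Ψ.obj G) q).comp (Ext.mk₀ a) (add_zero q)) fun a b => by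
      simp [Ext.mk₀_add]
  have e₁ : φ (𝟙 _) = x := Ext.comp_mk₀_id x
  rw [← e₁, ← Ψ.map_id, hid, Ψ.map_sum, map_sum]
  refine Finset.sum_eq_zero fun i _ => ?_
  show x.comp (Ext.mk₀ (Ψ.map (π i ≫ inj i))) (add_zero q) = 0
  rw [Ψ.map_comp, ← Ext.mk₀_comp_mk₀, ← Ext.comp_assoc_of_second_deg_zero]
  haveI := hd (d i) (hdn i)
  rw [Subsingleton.elim (x.comp (Ext.mk₀ (Ψ.map (π i))) (add_zero q) : EtCoh.H P _ q) 0]
  exact Ext.zero_comp _ _ _ _ _

include hd in
theorem subsingleton_H_colimit [CompactSpace P] [QuasiSeparatedSpace P] [PreservesColimitsOfSize.{u + 1, u + 1} Ψ]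
    (hn₀ : 0 < n) (M : AddCommGrpCat.{u + 1}) (hM : ∀ x : M, n • x = 0) : Subsingleton (EtCoh.H P (Ψ.obj M) q) := by
  classical
  haveI : IsFiltered (Finset M) := inferInstance
  have hc : IsColimit (Ψ.mapCocone (subC M)) := isColimitOfPreserves Ψ (isColimitSubC M)
  refine subsingleton_of_forall_eq 0 fun ξ => ?_
  obtain ⟨s, η, hη⟩ := (L10.BigColim.ExtRep.commutes Colim.good
    (repTop P) (T := EtCoh.top P) ⟨‹_›, ‹_›⟩ q (subD M ⋙ Ψ) _ hc).1 ξ
  haveI : AddGroup.FG ((subD M).obj s) := (AddGroup.fg_iff_addSubgroup_fg _).2 ⟨s, rfl⟩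
  have hs : ∀ x : (subD M).obj s, n • x = 0 := fun x => Subtype.ext (hM x.1)
  haveI : Finite ((subD M).obj s) := AddCommGroup.finite_of_fg_isAddTorsion _ fun x =>
    isOfFinAddOrder_iff_nsmul_eq_zero.2 ⟨n, hn₀, hs x⟩
  haveI := subsingleton_H_finite Ψ q hd ((subD M).obj s) hs
  rw [← hη, show η = (0 : EtCoh.H P (Ψ.obj ((subD M).obj s)) q) from
    Subsingleton.elim (α := EtCoh.H P (Ψ.obj ((subD M).obj s)) q) η 0]
  exact map_zero _

end Finite

end Groth.L27.StalkBC
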