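import Groth.Agent.L27.StalkBC.Core

/-! # Cohomology as global sections of higher direct images over strictly local bases -/

universe u

open CategoryTheory CategoryTheory.Limits AlgebraicGeometry Opposite CategoryTheory.Abelian HomologicalComplex

set_option backward.defeqAttrib.useBackward true
set_option backward.isDefEq.respectTransparency false
set_option backward.isDefEq.respectTransparency.types false
set_option linter.style.haveILetI false
set_option linter.unusedSectionVars false

noncomputable section

namespace Groth.L27.StalkBC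

open Groth.L27.LimCoh Groth.L27.LimBC

variable {S T : Scheme.{u}} (g : T ⟶ S) {G G' : EtCoh.Ab T} {q : ℕ}

/-- Cohomology classes as morphisms out of the constant sheaf to the higher direct image. -/
def κ (x : EtCoh.H T G q) : EtCoh.const S ℤ ⟶ (EtCoh.Rpush g q).obj G :=
  (cls_surjective (injectiveResolution G) q x).choose.out g

variable [Projective (EtCoh.const S ℤ)]

theorem κ_cls (z : Cyc (injectiveResolution G) q) : κ g z.cls = z.out g :=
  (out_eq_iff g _ z).2 ((cls_eq_iff _ z).1 (cls_surjective (injectiveResolution G) q z.cls).choose_spec)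

variable (G q) in
theorem κ_bijective : Function.Bijective (κ g : EtCoh.H T G q → _) := by
  refine ⟨fun x y h => ?_, fun a => ?_⟩
  · obtain ⟨z, rfl⟩ := cls_surjective (injectiveResolution G) q x
    obtain ⟨z', rfl⟩ := cls_surjective (injectiveResolution G) q y
    rw [κ_cls, κ_cls] at h
    exact (cls_eq_iff z z').2 ((out_eq_iff g z z').1 h)
  · obtain ⟨z, rfl⟩ := out_surjective g (injectiveResolution G) q a
    exact ⟨z.cls, κ_cls g z⟩

/-- The image of a cocycle under a morphism of sheaves. -/
def Cyc.map {R : InjectiveResolution G} {R' : InjectiveResolution G'} {φ : G ⟶ G'}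
    (Φ : InjectiveResolution.Hom R R' φ) (z : Cyc R q) : Cyc R' q :=
  ⟨z.1 ≫ Φ.hom.f q, by rw [Category.assoc, Φ.hom.comm, reassoc_of% z.2, zero_comp]⟩

omit [Projective (EtCoh.const S ℤ)] in
theorem Cyc.out_map {R : InjectiveResolution G} {R' : InjectiveResolution G'} {φ : G ⟶ G'}
    (Φ : InjectiveResolution.Hom R R' φ) (z : Cyc R q) :
    (z.map Φ).out g = z.out g ≫ (EtCoh.Rpush g q).map φ := by
  have h := InjectiveResolution.isoRightDerivedObj_inv_naturality φ R R' Φ.hom (by simp) (EtCoh.push g) q
  rw [Cyc.out, Cyc.out, Category.assoc, Category.assoc]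
  erw [h]
  simp only [Functor.comp_map, homologyFunctor_map]
  rw [homologyπ_naturality_assoc, ← Category.assoc (z.lift g)]
  refine congrArg (· ≫ _) ?_
  rw [← cancel_mono (HomologicalComplex.iCycles _ q), Category.assoc, Cyc.lift_i, cyclesMap_i,
    reassoc_of% (z.lift_i g)]
  exact (trn_comp g z.1 (Φ.hom.f q)).symm

theorem κ_map (φ : G ⟶ G') (x : EtCoh.H T G q) :
    κ g ((EtCoh.HF T q).map φ x) = κ g x ≫ (EtCoh.Rpush g q).map φ := by
  obtain ⟨z, rfl⟩ := cls_surjective (injectiveResolution G) q x
  let Φ : InjectiveResolution.Hom (injectiveResolution G) (injectiveResolution G') φ :=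
    { hom := InjectiveResolution.desc φ (injectiveResolution G') (injectiveResolution G)
      ι_f_zero_comp_hom_f_zero := by simp }
  rw [κ_cls, ← Cyc.out_map g Φ, ← κ_cls]
  refine congrArg (κ g) ?_
  rw [EtSite.HF_map_apply]
  exact InjectiveResolution.extMk_comp_mk₀ _ _ _ _ Φ

theorem κ_zero : κ g (0 : EtCoh.H T G q) = 0 := by
  let z : Cyc (injectiveResolution G) q := ⟨0, zero_comp⟩
  have h0 : z.cls = (0 : EtCoh.H T G q) := InjectiveResolution.extMk_zero _ _ _
  have h1 : z.lift g = 0 := by
    rw [← cancel_mono (HomologicalComplex.iCycles _ q), Cyc.lift_i, zero_comp]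
    exact trn_zero g
  rw [← h0, κ_cls, Cyc.out, h1, zero_comp]

variable {X Y : Scheme.{u}} (f : X ⟶ S) (h : Y ⟶ X) (e : Y ⟶ T) (w : e ≫ g = h ≫ f)
  [PreservesFiniteLimits (EtCoh.pull f)] [PreservesFiniteLimits (EtCoh.pull g)]
  [PreservesFiniteLimits (EtCoh.pull h)] [PreservesFiniteLimits (EtCoh.pull e)] [Projective (EtCoh.const X ℤ)]

theorem bcHom_κ (x : EtCoh.H T G q) : bcHom g f h e w G q (κ g x) = κ h (EtCore.Hpull e G q x) := by
  obtain ⟨z, rfl⟩ := cls_surjective (injectiveResolution G) q x
  rw [κ_cls, bcHom_out g f h e w _ (injectiveResolution ((EtCoh.pull e).obj G)), Hpull_cls e _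
    (injectiveResolution ((EtCoh.pull e).obj G)), κ_cls]

end Groth.L27.StalkBC
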