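import Groth.Agent.L27.StalkBC.Criterion
import Groth.Agent.L27.StalkBC.Kappa

/-! # Base change maps and pullback on cohomology over strictly local bases -/

universe u

open CategoryTheory CategoryTheory.Limits AlgebraicGeometry Opposite IsLocalRing

set_option backward.isDefEq.respectTransparency.types false
set_option linter.style.haveILetI false
set_option linter.unusedSectionVars false

noncomputable section

namespace Groth.L27.StalkBC

open Groth.L27.LimCoh Groth.L27.LimBC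

theorem bcQ_vcomp' {X S Y T W Z : Scheme.{u}} (g : T ⟶ S) (f : X ⟶ S) (h : Y ⟶ X) (e : Y ⟶ T)
    (w : e ≫ g = h ≫ f) (q : ℕ) (i : W ⟶ X) (j : Z ⟶ W) (k : Z ⟶ Y) (w' : k ≫ h = j ≫ i)
    {u : W ⟶ S} (hu : i ≫ f = u) {r : Z ⟶ T} (hr : k ≫ e = r) (w'' : r ≫ g = j ≫ u)
    [PreservesFiniteLimits (EtCoh.pull e)] [PreservesFiniteLimits (EtCoh.pull k)]
    [PreservesFiniteLimits (EtCoh.pull r)] (F : EtCoh.Ab T) :
    EtBC.bcQ g u j r w'' q F ≫ (EtCoh.Rpush j q).map (gamma k e hr F) =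
      gamma i f hu ((EtCoh.Rpush g q).obj F) ≫ (EtCoh.pull i).map (EtBC.bcQ g f h e w q F) ≫
        EtBC.bcQ h i j k w' q ((EtCoh.pull e).obj F) := by
  subst hu hr
  exact bcQ_vcomp g f h e w q i j k w' w'' F

theorem henselian_strict {X : Scheme.{u}} (x : X) (R : Type u) [CommRing R] [IsLocalRing R]
    [Algebra (X.presheaf.stalk x) R] [IsLocalHom (algebraMap (X.presheaf.stalk x) R)]
    [Hensel.IsStrictHenselization (X.presheaf.stalk x) R] :
    HenselianLocalRing R ∧ IsSepClosed (ResidueField R) :=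
  ⟨Hensel.IsStrictHenselization.henselian (R := X.presheaf.stalk x),
    (Hensel.IsStrictHenselization.isSepClosure (R := X.presheaf.stalk x) (S := R)).sep_closed⟩

theorem projective_const_strict {X : Scheme.{u}} (x : X) (R : Type u) [CommRing R] [IsLocalRing R]
    [Algebra (X.presheaf.stalk x) R] [IsLocalHom (algebraMap (X.presheaf.stalk x) R)]
    [Hensel.IsStrictHenselization (X.presheaf.stalk x) R] :
    Projective (EtCoh.const (Spec (CommRingCat.of R)) ℤ) := by
  obtain ⟨_, _⟩ := henselian_strict x R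
  exact projective_const R

variable {X Y : Scheme.{u}} (h : Y ⟶ X) [QuasiCompact h] [QuasiSeparated h] (x : X)
  (RX : Type u) [CommRing RX] [IsLocalRing RX] [Algebra (X.presheaf.stalk x) RX]
  [IsLocalHom (algebraMap (X.presheaf.stalk x) RX)] [Hensel.IsStrictHenselization (X.presheaf.stalk x) RX]
  {PX : Scheme.{u}} (bX : PX ⟶ Spec (CommRingCat.of RX)) (n : PX ⟶ Y)
  (cn : IsPullback n bX h (Hens2.specOf X x RX)) [PreservesFiniteLimits (EtCoh.pull n)] {q : ℕ}

/-- Cohomology of the strictly local fibre as sections of the restricted higher direct image. -/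
def σ {M : EtCoh.Ab Y} (v : EtCoh.H PX ((EtCoh.pull n).obj M) q) :
    EtCoh.const (Spec (CommRingCat.of RX)) ℤ ⟶ (EtCoh.pull (Hens2.specOf X x RX)).obj ((EtCoh.Rpush h q).obj M) :=
  haveI := isIso_bcQ_specOf h x RX bX n cn q M
  κ bX v ≫ inv (EtBC.bcQ h (Hens2.specOf X x RX) bX n cn.w q M)

variable (q) in
theorem σ_bijective (M : EtCoh.Ab Y) :
    Function.Bijective (σ h x RX bX n cn : EtCoh.H PX ((EtCoh.pull n).obj M) q → _) := by
  haveI := projective_const_strict x RX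
  haveI := isIso_bcQ_specOf h x RX bX n cn q M
  exact (pb_of_isIso (inv (EtBC.bcQ h (Hens2.specOf X x RX) bX n cn.w q M))).comp (κ_bijective bX _ q)

theorem σ_map {M M' : EtCoh.Ab Y} (φ : M ⟶ M') (v : EtCoh.H PX ((EtCoh.pull n).obj M) q) :
    σ h x RX bX n cn ((EtCoh.HF PX q).map ((EtCoh.pull n).map φ) v) =
      σ h x RX bX n cn v ≫ (EtCoh.pull (Hens2.specOf X x RX)).map ((EtCoh.Rpush h q).map φ) := by
  haveI := projective_const_strict x RX
  haveI := isIso_bcQ_specOf h x RX bX n cn q M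
  haveI := isIso_bcQ_specOf h x RX bX n cn q M'
  rw [σ, σ, κ_map, Category.assoc, Category.assoc]
  refine congrArg (_ ≫ ·) ?_
  rw [IsIso.eq_inv_comp, ← Category.assoc, IsIso.comp_inv_eq]
  exact bcQ_naturality h (Hens2.specOf X x RX) bX n cn.w q φ

theorem σ_zero (M : EtCoh.Ab Y) :
    σ h x RX bX n cn (0 : EtCoh.H PX ((EtCoh.pull n).obj M) q) = 0 := by
  haveI := projective_const_strict x RX
  rw [σ, κ_zero, zero_comp]

end Groth.L27.StalkBC

namespace Groth.L27.StalkBC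

open Groth.L27.LimCoh Groth.L27.LimBC

variable {X S Y T : Scheme.{u}} (f : X ⟶ S) (g : T ⟶ S) [QuasiCompact g] [QuasiSeparated g] (h : Y ⟶ X)
  [QuasiCompact h] [QuasiSeparated h]
  (e : Y ⟶ T) (w₀ : e ≫ g = h ≫ f) [PreservesFiniteLimits (EtCoh.pull e)] (F : EtCoh.Ab T) (q : ℕ) (x : X)
  (RS : Type u) [CommRing RS] [IsLocalRing RS] [Algebra (S.presheaf.stalk (f.base x)) RS]
  [IsLocalHom (algebraMap (S.presheaf.stalk (f.base x)) RS)]
  [Hensel.IsStrictHenselization (S.presheaf.stalk (f.base x)) RS]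
  (RX : Type u) [CommRing RX] [IsLocalRing RX] [Algebra (X.presheaf.stalk x) RX]
  [IsLocalHom (algebraMap (X.presheaf.stalk x) RX)] [Hensel.IsStrictHenselization (X.presheaf.stalk x) RX]
  (ψ : RS →+* RX) [IsLocalHom ψ]
  (hψ : ψ.comp (algebraMap (S.presheaf.stalk (f.base x)) RS) =
    (algebraMap (X.presheaf.stalk x) RX).comp (f.stalkMap x).hom)
  {PS PX : Scheme.{u}} (aS : PS ⟶ T) (bS : PS ⟶ Spec (CommRingCat.of RS))
  (cS : IsPullback aS bS g (Hens2.specOf S (f.base x) RS))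
  (aX : PX ⟶ T) (bX : PX ⟶ Spec (CommRingCat.of RX))
  (n : PX ⟶ Y) (cn : IsPullback n bX h (Hens2.specOf X x RX)) (hne : n ≫ e = aX)
  (m : PX ⟶ PS) (w : m ≫ aS = aX) (hm : m ≫ bS = bX ≫ Spec.map (CommRingCat.ofHom ψ))
  [PreservesFiniteLimits (EtCoh.pull m)] [PreservesFiniteLimits (EtCoh.pull n)]

/-- The two iterated inverse images along the sides of the square agree. -/
def sideIso : (EtCoh.pull m).obj ((EtCoh.pull aS).obj F) ⟶ (EtCoh.pull n).obj ((EtCoh.pull e).obj F) :=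
  haveI := isIso_gamma m aS w F
  inv (gamma m aS w F) ≫ gamma n e hne F

theorem sideIso_nat {F F' : EtCoh.Ab T} (φ : F ⟶ F') :
    (EtCoh.pull m).map ((EtCoh.pull aS).map φ) ≫ sideIso e F' aS aX n hne m w =
      sideIso e F aS aX n hne m w ≫ (EtCoh.pull n).map ((EtCoh.pull e).map φ) := by
  haveI := isIso_gamma m aS w F
  haveI := isIso_gamma m aS w F'
  rw [sideIso, sideIso, Category.assoc, ← gamma_nat n e hne φ, IsIso.eq_inv_comp, ← Category.assoc,
    ← Category.assoc, ← gamma_nat m aS w φ, Category.assoc, Category.assoc, IsIso.hom_inv_id_assoc]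

/-- The pullback map on cohomology along the square. -/
def Hp (v : EtCoh.H PS ((EtCoh.pull aS).obj F) q) :
    EtCoh.H PX ((EtCoh.pull n).obj ((EtCoh.pull e).obj F)) q :=
  (EtCoh.HF PX q).map (sideIso e F aS aX n hne m w) (EtCore.Hpull m _ q v)

include hψ cS hm in
theorem exists_σ_Hp : ∃ β : EtCoh.H PS ((EtCoh.pull aS).obj F) q →
      (EtCoh.const (Spec (CommRingCat.of RX)) ℤ ⟶
        (EtCoh.pull (Hens2.specOf X x RX)).obj ((EtCoh.pull f).obj ((EtCoh.Rpush g q).obj F))),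
    Function.Bijective β ∧ ∀ v, σ h x RX bX n cn (Hp e F q aS aX n hne m w v) =
      β v ≫ (EtCoh.pull (Hens2.specOf X x RX)).map (EtBC.bcQ g f h e w₀ q F) := by
  obtain ⟨_, _⟩ := henselian_strict x RX
  obtain ⟨_, _⟩ := henselian_strict (X := S) (f.base x) RS
  haveI := projective_const RS
  haveI := projective_const RX
  let ηS := Hens2.specOf S (f.base x) RS
  let ηX := Hens2.specOf X x RX
  let ψS := Spec.map (CommRingCat.ofHom ψ)
  haveI := EtSite.preservesFiniteLimits_pull aS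
  haveI := EtSite.preservesFiniteLimits_pull aX
  haveI := EtSite.preservesFiniteLimits_pull ψS
  haveI := EtSite.preservesFiniteLimits_pull bS
  haveI := EtSite.preservesFiniteLimits_pull bX
  haveI := isIso_bcQ_specOf g (f.base x) RS bS aS cS q F
  haveI := isIso_bcQ_specOf h x RX bX n cn q ((EtCoh.pull e).obj F)
  haveI := isIso_gamma m aS w F
  let R₀ := (EtCoh.Rpush g q).obj F
  obtain ⟨u, hu'⟩ : ∃ u, ηX ≫ f = u := ⟨_, rfl⟩
  have hu : ψS ≫ ηS = u := (specOf_comp f x RS RX ψ hψ).trans hu'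
  haveI := isIso_gamma ψS ηS hu R₀
  haveI := isIso_gamma ηX f hu' R₀
  refine ⟨fun v => ((EtCore.pullConst ψS ℤ).inv ≫
      (EtCoh.pull ψS).map (κ bS v ≫ inv (EtBC.bcQ g ηS bS aS cS.w q F))) ≫
        inv (gamma ψS ηS hu R₀) ≫ gamma ηX f hu' R₀,
    (pb_of_isIso (inv (gamma ψS ηS hu R₀) ≫ gamma ηX f hu' R₀)).comp ((bijective_pullHom ψ _).comp
      ((pb_of_isIso (inv (EtBC.bcQ g ηS bS aS cS.w q F))).comp (κ_bijective bS _ q))), fun v => ?_⟩
  have w'' : aX ≫ g = bX ≫ u := by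
    rw [← hu', ← hne, Category.assoc, w₀, ← Category.assoc, cn.w, Category.assoc]
  have eA := bcQ_vcomp' g f h e w₀ q ηX bX n cn.w hu' hne w'' F
  have eB := bcQ_vcomp' g ηS bS aS cS.w q ψS bX m hm hu w w'' F
  rw [σ, Hp, κ_map, ← bcHom_κ bS ψS bX m hm v, bcHom]
  simp only [Category.assoc]
  refine congrArg ((EtCore.pullConst ψS ℤ).inv ≫ ·) ?_
  rw [Functor.map_comp, Category.assoc]
  refine congrArg ((EtCoh.pull ψS).map (κ bS v) ≫ ·) ?_
  rw [Functor.map_inv, IsIso.eq_inv_comp, IsIso.eq_inv_comp, ← reassoc_of% eB, sideIso, Functor.map_comp,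
    Functor.map_inv, Category.assoc, IsIso.hom_inv_id_assoc, reassoc_of% eA, IsIso.hom_inv_id, Category.comp_id]

end Groth.L27.StalkBC
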