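import Groth.Agent.L27.StalkBC.BCIntegral
import Groth.Agent.L27.EtSite.Reflect
import Groth.Agent.L27.EtSite.PropA
import Mathlib.CategoryTheory.Abelian.Exact

/-! # Base change maps and integral changes of the base -/

universe u

open CategoryTheory CategoryTheory.Limits AlgebraicGeometry Opposite

set_option backward.defeqAttrib.useBackward true
set_option backward.isDefEq.respectTransparency false
set_option backward.isDefEq.respectTransparency.types false
set_option linter.style.haveILetI false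
set_option linter.unusedSectionVars false

noncomputable section

namespace Groth.L27.StalkBC

open Groth.L27.LimCoh Groth.L27.LimBC Groth.L10.EtBCComp

attribute [local instance] preservesInjectiveObjects_push

/-- The direct image along an integral morphism is exact. -/
theorem preservesFiniteColimits_push_integral {T S : Scheme.{u}} (π : T ⟶ S) [IsIntegralHom π] :
    PreservesFiniteColimits (EtCoh.push π) := by
  haveI := EtSite.preservesEpimorphisms_push π (EtSite.propB_of_isIntegralHom π)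
  haveI : PreservesLimitsOfSize.{0, 0} (EtCoh.push π) := (EtCoh.pullPushAdj π).rightAdjoint_preservesLimits
  haveI : PreservesFiniteLimits (EtCoh.push π) := PreservesLimitsOfSize.preservesFiniteLimits _
  haveI : (EtCoh.push π).PreservesHomology := Functor.preservesHomology_of_preservesEpis_and_kernels _
  exact Functor.preservesFiniteColimits_of_preservesHomology _

theorem isIso_of_push_integral {T S : Scheme.{u}} (π : T ⟶ S) [IsIntegralHom π] {F G : EtCoh.Ab T} (φ : F ⟶ G)
    [IsIso ((EtCoh.push π).map φ)] : IsIso φ := by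
  haveI := EtSite.mono_of_mono_push π (EtSite.propA_of_isIntegralHom π) φ
  haveI := EtSite.epi_of_epi_push π (EtSite.propA_of_isIntegralHom π) φ
  exact isIso_of_mono_of_epi _

variable {S'' S' T : Scheme.{u}} (π : S'' ⟶ S') [IsIntegralHom π] (g' : T ⟶ S'') (k : T ⟶ S')
  (w : 𝟙 T ≫ k = g' ≫ π) (q : ℕ) (A : EtCoh.Ab T)

/-- Higher direct images of a composite with an integral morphism on the right. -/
theorem isIso_Θ_unit₀ : IsIso (Θ k π g' (𝟙 T) w q (pushUnit₀ (𝟙 T) rfl A)) := by
  haveI := isIso_pushUnit₀ A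
  haveI := L28.Edge.isIso_edgeIn (EtCoh.push (𝟙 T)) (EtCoh.push k) q A
    (fun a ha => EtSite.isZero_Rpush_of_propB (𝟙 T) (EtSite.propB_of_isIntegralHom (𝟙 T)) A a ha)
  haveI := preservesFiniteColimits_push_integral π
  haveI := L10.EtLocalBC.isIso_homologyComparison (EtCoh.push π)
    (((EtCoh.push g').mapHomologicalComplex _).obj (injectiveResolution A).cocomplex) q
  unfold Θ sqMap RDer.edgeOut
  infer_instance

variable {X' X'' Y : Scheme.{u}} (f' : X' ⟶ S') (f'' : X'' ⟶ S'') (π' : X'' ⟶ X') (hX'' : IsPullback π' f'' f' π)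
  (h' : Y ⟶ X'') (e : Y ⟶ T) (win : e ≫ g' = h' ≫ f'') (wout : e ≫ g' ≫ π = (h' ≫ π') ≫ f')
  [PreservesFiniteLimits (EtCoh.pull e)] (F : EtCoh.Ab T)

include hX'' in
/-- Base change passes to integral changes of the base. -/
theorem isIso_bcQ_integral_base (hiso : IsIso (EtBC.bcQ (g' ≫ π) f' (h' ≫ π') e wout q F)) :
    IsIso (EtBC.bcQ g' f'' h' e win q F) := by
  haveI : IsIntegralHom π' := MorphismProperty.of_isPullback (P := @IsIntegralHom) hX''.flip inferInstance
  have wT : 𝟙 T ≫ (g' ≫ π) = g' ≫ π := Category.id_comp _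
  have wY : 𝟙 Y ≫ (h' ≫ π') = h' ≫ π' := Category.id_comp _
  have w₃ : e ≫ g' ≫ π = h' ≫ π' ≫ f' := wout.trans (Category.assoc _ _ _)
  let θT := Θ (g' ≫ π) π g' (𝟙 T) wT q (pushUnit₀ (𝟙 T) rfl F)
  let θY := Θ (h' ≫ π') π' h' (𝟙 Y) wY q (pushUnit₀ (𝟙 Y) rfl ((EtCoh.pull e).obj F))
  haveI : IsIso θT := isIso_Θ_unit₀ π g' (g' ≫ π) wT q F
  haveI : IsIso θY := isIso_Θ_unit₀ π' h' (h' ≫ π') wY q ((EtCoh.pull e).obj F)
  let bin := EtBC.bcQ g' f'' h' e win q F
  let bout := EtBC.bcQ (g' ≫ π) f' (h' ≫ π') e wout q F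
  let Z := (EtCoh.Rpush g' q).obj F
  have h₁ := Θ_comp (g' ≫ π) (h' ≫ π') h' (u₁ := f') (u₂ := π') wout wY w₃ rfl (Category.id_comp e) q (un e F)
    (pushUnit₀ (𝟙 Y) rfl ((EtCoh.pull e).obj F))
  have h₂ := Θ_comp (g' ≫ π) g' h' (u₁ := π) (u₂ := f'') wT win w₃ hX''.w.symm (Category.comp_id e) q
    (pushUnit₀ (𝟙 T) rfl F) (un e F)
  have ha : un e F ≫ (EtCoh.push e).map (pushUnit₀ (𝟙 Y) rfl ((EtCoh.pull e).obj F)) ≫
      pushJoin (𝟙 Y) e (Category.id_comp e) ((EtCoh.pull e).obj F) =
      pushUnit₀ (𝟙 T) rfl F ≫ (EtCoh.push (𝟙 T)).map (un e F) ≫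
        pushJoin e (𝟙 T) (Category.comp_id e) ((EtCoh.pull e).obj F) := by
    rw [pushUnit₀_pushJoin_right, Category.comp_id, ← Category.assoc, pushUnit₀_naturality, Category.assoc,
      ← pushSplit_unit₀ e (𝟙 T) rfl (Category.comp_id e), pushSplit_pushJoin, Category.comp_id]
  have h₃ := h₁.trans ((congrArg (Θ (g' ≫ π) (π' ≫ f') h' e w₃ q) ha).trans h₂.symm)
  rw [← bcQAdj_eq_Θ (g' ≫ π) f' (h' ≫ π') e wout q F, ← bcQAdj_eq_Θ g' f'' h' e win q F,
    ← CompTransfer.pushJoin_congr f'' π hX''.w.symm, ← pushComp_hom_app π' f'] at h₃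
  let b₀ : (EtCoh.pull f').obj ((EtCoh.push π).obj Z) ⟶ (EtCoh.push π').obj ((EtCoh.pull f'').obj Z) :=
    EtCoh.baseChange0 π f' π' f'' hX''.w.symm Z
  haveI : IsIso b₀ := EtSite.BC.isIso_baseChange0 hX''.flip Z
  have eb : EtBC.bcQAdj g' f'' h' e win q F = un f'' Z ≫ (EtCoh.push f'').map bin :=
    (Equiv.apply_symm_apply _ _).symm.trans ((EtCoh.pullPushAdj f'').homEquiv_unit _ _ _)
  have key : bout ≫ θY = (EtCoh.pull f').map θT ≫ b₀ ≫ (EtCoh.push π').map bin := by
    refine ((EtCoh.pullPushAdj f').homEquiv _ _).injective ?_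
    rw [Adjunction.homEquiv_naturality_right, Adjunction.homEquiv_naturality_left,
      Adjunction.homEquiv_naturality_right]
    simp only [bout, b₀, EtBC.bcQ, EtCoh.baseChange0, Equiv.apply_symm_apply]
    rw [← cancel_mono ((EtCoh.pushComp f' π').hom.app _), Category.assoc]
    refine h₃.trans ?_
    rw [eb, Functor.map_comp]
    simp only [Category.assoc]
    erw [(EtCoh.pushComp π f'').hom.naturality_assoc, (EtCoh.pushCongr hX''.w.symm).hom.naturality,
      (EtCoh.pushComp f' π').hom.naturality]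
    erw [Equiv.apply_symm_apply]
    simp only [Category.assoc, Iso.inv_hom_id_app_assoc]
    rfl
  haveI := hiso
  haveI : IsIso (((EtCoh.pull f').map θT ≫ b₀) ≫ (EtCoh.push π').map bin) := by
    rw [Category.assoc, ← key]
    infer_instance
  haveI : IsIso ((EtCoh.push π').map bin) := IsIso.of_isIso_comp_left ((EtCoh.pull f').map θT ≫ b₀) _
  exact isIso_of_push_integral π' bin

end Groth.L27.StalkBC
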