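import Groth.Agent.L27.AffineEfface.SepPoint
import Groth.Agent.L27.EtSite.Push
import Groth.Agent.L27.TopInv.Sections

/-! # Direct images from separably closed points are exact -/

universe u

open CategoryTheory CategoryTheory.Limits AlgebraicGeometry Opposite

set_option backward.isDefEq.respectTransparency.types false
set_option linter.style.haveILetI false

noncomputable section

namespace Groth.L27.StalkBC

variable (K : Type u) [Field K] [IsSepClosed K]

theorem exists_section_sepPoint {P : Scheme.{u}} (π : P ⟶ Spec (CommRingCat.of K)) [Etale π] (x : P) :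
    ∃ σ : Spec (CommRingCat.of K) ⟶ P, σ ≫ π = 𝟙 _ ∧ ∀ a, σ a = x := by
  haveI : IsSepClosed (IsLocalRing.ResidueField K) := AffineEfface.isSepClosed_residueField K
  let Q : (Spec (CommRingCat.of K)).Etale := Scheme.Etale.mk π
  obtain ⟨y, hy⟩ := EtSite.exists_fiber (EtSite.closedPt K) Q x (Subsingleton.elim (α := PrimeSpectrum K) _ _)
  obtain ⟨σ, hσ⟩ := EtSite.exists_section K Q y
  refine ⟨σ.left, MorphismProperty.Over.w σ, fun a => ?_⟩
  have h : σ.left ((EtSite.closedPt K) default) = x := by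
    have h := congrArg (fun z : (Scheme.pointSmallEtale (EtSite.closedPt K)).fiber.obj Q =>
      z.left (default : Spec (CommRingCat.of (IsLocalRing.ResidueField K)))) hσ
    exact ((Scheme.Hom.comp_apply (EtSite.closedPt K) σ.left _).symm.trans h).trans hy
  rwa [show a = EtSite.closedPt K default from Subsingleton.elim (α := PrimeSpectrum K) _ _]

theorem propB_sepPoint {Y : Scheme.{u}} (g : Spec (CommRingCat.of K) ⟶ Y) : BigSite.PropB g := by
  intro V v _ ι U gi hgi hcov
  refine ⟨PUnit.{u + 1}, fun _ => V, fun _ => 𝟙 V, fun _ => inferInstance, fun y => ⟨⟨⟩, y, rfl⟩, fun _ => ?_⟩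
  let P' := pullback g (𝟙 V ≫ v)
  let π : P' ⟶ Spec (CommRingCat.of K) := pullback.fst g (𝟙 V ≫ v)
  let M := pullback.map g (𝟙 V ≫ v) g v (𝟙 (Spec (CommRingCat.of K))) (𝟙 V) (𝟙 Y) (by simp) (by simp)
  haveI : Etale π := inferInstanceAs (Etale (pullback.fst g (𝟙 V ≫ v)))
  have hπ : M ≫ pullback.fst g v = π := (pullback.lift_fst _ _ _).trans (Category.comp_id _)
  choose s hs hsx using exists_section_sepPoint K π
  haveI : ∀ a, IsOpenImmersion (s a) := fun a => TopInv.isOpenImmersion_section π (s a) (hs a)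
  refine ⟨P', fun a => (s a).opensRange, fun a b hab => ?_, ?_, fun a => ?_⟩
  · refine disjoint_iff_inf_le.2 ?_
    rintro y ⟨⟨z, rfl⟩, ⟨z', hz'⟩⟩
    exact absurd (((hsx a z).symm.trans hz'.symm).trans (hsx b z')) hab
  · exact eq_top_iff.2 fun y _ => TopologicalSpace.Opens.mem_iSup.2
      ⟨y, ⟨⟨⊥, Ideal.isPrime_bot⟩, hsx y _⟩⟩
  · obtain ⟨i, u, hu⟩ := hcov (M a)
    haveI := hgi i
    obtain ⟨σ, hσ, hσu⟩ := exists_section_sepPoint K (gi i ≫ pullback.fst g v) u
    haveI : Etale (pullback.fst g v) := inferInstance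
    have hM : IsIso M := inferInstance
    let τ := s a ≫ M
    have hτ : σ ≫ gi i = τ := by
      haveI := TopInv.isOpenImmersion_section (pullback.fst g v) (σ ≫ gi i) (by rw [Category.assoc, hσ])
      haveI := TopInv.isOpenImmersion_section (pullback.fst g v) τ (by rw [Category.assoc, hπ, hs])
      have hr : Set.range (σ ≫ gi i).base = Set.range τ.base := by
        refine Set.ext fun y => ⟨?_, ?_⟩ <;> rintro ⟨z, rfl⟩ <;> refine ⟨z, ?_⟩
        · show τ z = (σ ≫ gi i) z
          rw [Scheme.Hom.comp_apply, Scheme.Hom.comp_apply, hsx, hσu]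
          exact hu.symm
        · show (σ ≫ gi i) z = τ z
          rw [Scheme.Hom.comp_apply, Scheme.Hom.comp_apply, hsx, hσu]
          exact hu
      let e := IsOpenImmersion.isoOfRangeEq (σ ≫ gi i) τ hr
      have he : e.hom ≫ τ = σ ≫ gi i := IsOpenImmersion.isoOfRangeEq_hom_fac _ _ _
      have h1 : e.hom = 𝟙 _ := by
        have := congrArg (· ≫ pullback.fst g v) he
        simp only [Category.assoc] at this
        rw [hσ, show τ ≫ pullback.fst g v = 𝟙 _ by rw [Category.assoc, hπ, hs], Category.comp_id] at this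
        exact this
      rw [← he, h1, Category.id_comp]
    refine ⟨i, (s a).isoOpensRange.inv ≫ σ, ?_⟩
    rw [Category.assoc, hτ]
    simp only [τ]
    rw [← Category.assoc, Scheme.Hom.isoOpensRange_inv_comp]

theorem isZero_Rpush_sepPoint {Y : Scheme.{u}} (g : Spec (CommRingCat.of K) ⟶ Y)
    (F : EtCoh.Ab (Spec (CommRingCat.of K))) (q : ℕ) (hq : 0 < q) : IsZero ((EtCoh.Rpush g q).obj F) :=
  EtSite.isZero_Rpush_of_propB g (propB_sepPoint K g) F q hq

end Groth.L27.StalkBC
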