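import Groth.Agent.L27.EtZar.ZeroDim
import Groth.Agent.L27.EtSite.Push
import Groth.Agent.L27.StalkBC.Criterion
import Groth.Agent.L28.AcycCrit.Basic

/-! # Sheaves on zero-dimensional affine schemes with separably closed residue fields -/

universe u

open CategoryTheory CategoryTheory.Limits AlgebraicGeometry Opposite

set_option backward.isDefEq.respectTransparency.types false
set_option linter.style.haveILetI false
set_option linter.unusedSectionVars false

noncomputable section

namespace Groth.L27.StalkBC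

open Groth.L27.ZeroDim

variable (S : Scheme.{u}) [IsAffine S] (h1 : ∀ s : S, IsClosed ({s} : Set S))
  (h2 : ∀ s : S, IsSepClosed (S.residueField s))
include h1 h2

theorem projective_const_zeroDim : Projective (EtCoh.const S ℤ) := by
  have : ((sheafSections S.smallEtaleTopology AddCommGrpCat.{u + 1}).obj
      (op (EtCoh.top S))).PreservesEpimorphisms :=
    ⟨fun φ _ => (AddCommGrpCat.epi_iff_surjective _).2 (surjective_sections S h1 h2 φ)⟩
  exact (constantSheafAdj S.smallEtaleTopology AddCommGrpCat.{u + 1} (EtSite.isTerminalTop S)).map_projective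
    _ EtSite.projective_of_int.{u + 1}

theorem isZero_of_top (G : EtCoh.Ab S) (h : Subsingleton (G.obj.obj (op (EtCoh.top S)))) : IsZero G := by
  refine L28.AcycCrit.isZero_of_sections G fun U => ?_
  refine subsingleton_of_forall_eq 0 fun s => EtSite.ext_of_locally G fun x => ?_
  haveI : Etale U.hom := U.prop
  obtain ⟨V, hV, σ, hσ, hσw, hσo⟩ := HenselSections.exists_local_section U.hom x
    (isStrictlyHenselian S h1 h2 _)
  obtain ⟨O, hsO, hOV, hOc⟩ := exists_clopen_nbhd S h1 (U.hom x) V hV
  let O' : S.Opens := ⟨(O : Set S)ᶜ, hOc.isOpen_compl⟩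
  let Ob : Bool → S.Etale := fun b => Scheme.Etale.mk (if b then O else O').ι
  let c : ∀ b, Ob b ⟶ EtCoh.top S := fun b =>
    MorphismProperty.Over.homMk (if b then O else O').ι (Category.comp_id _)
  haveI : ∀ b, IsOpenImmersion (c b).left := fun b => inferInstanceAs (IsOpenImmersion (Scheme.Opens.ι _))
  have hr : ∀ b : Bool, Set.range (c b).left = ((if b then O else O' : S.Opens) : Set S) := fun b =>
    Scheme.Opens.range_ι _
  have hb := EtSite.bijective_of_disjoint ((sheafCompose S.smallEtaleTopology (forget AddCommGrpCat.{u + 1})).obj G)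
    Ob c (fun i j hij => by
      show Disjoint (Set.range (c i).left) (Set.range (c j).left)
      refine (congrArg₂ Disjoint (hr i) (hr j)).mpr ?_
      cases i <;> cases j
      · exact absurd rfl hij
      · exact (disjoint_compl_left : Disjoint ((O : Set S)ᶜ) O)
      · exact (disjoint_compl_right : Disjoint (O : Set S) (O : Set S)ᶜ)
      · exact absurd rfl hij)
    (fun z => by
      by_cases hz : z ∈ (O : Set S)
      · exact ⟨true, ⟨z, hz⟩, rfl⟩
      · exact ⟨false, ⟨z, hz⟩, rfl⟩)
  have hO : Subsingleton (G.obj.obj (op (Scheme.Etale.mk O.ι))) := by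
    refine subsingleton_of_forall_eq 0 fun t => ?_
    classical
    obtain ⟨T, hT⟩ := hb.2 fun b => Bool.rec (motive := fun b => G.obj.obj (op (Ob b))) 0 t b
    have hT' : G.obj.map (c true).op T = t := congrFun hT true
    rw [← hT', h.elim T 0, map_zero]
  let σ' : (Scheme.Etale.mk O.ι : S.Etale) ⟶ U := MorphismProperty.Over.homMk (S.homOfLE hOV ≫ σ)
    ((Category.assoc _ _ _).trans ((congrArg (S.homOfLE hOV ≫ ·) hσ).trans (S.homOfLE_ι hOV)))
  refine ⟨_, σ', ⟨U.hom x, hsO⟩, ?_, hO.elim _ _⟩
  show (S.homOfLE hOV ≫ σ) ⟨U.hom x, hsO⟩ = x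
  rw [Scheme.Hom.comp_apply]
  refine Eq.trans (congrArg σ (Subtype.ext ?_)) hσw
  exact congr($(S.homOfLE_ι hOV) ⟨U.hom x, hsO⟩)

theorem isIso_iff_pb {F G : EtCoh.Ab S} (φ : F ⟶ G) : IsIso φ ↔ PB φ := by
  refine ⟨fun _ => pb_of_isIso φ, fun hφ => ?_⟩
  have hk : IsZero (kernel φ) := by
    refine isZero_of_top S h1 h2 _ (subsingleton_of_forall_eq 0 fun t => ?_)
    obtain ⟨a, rfl⟩ := (secOf (X := S) (F := kernel φ)).surjective t
    have : a ≫ kernel.ι φ = 0 := hφ.1 (by simp)
    rw [(cancel_mono (kernel.ι φ)).1 (this.trans zero_comp.symm), map_zero]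
  haveI : Mono φ := Preadditive.mono_of_isZero_kernel φ hk
  have hc : IsZero (cokernel φ) := by
    refine isZero_of_top S h1 h2 _ (subsingleton_of_forall_eq 0 fun t => ?_)
    obtain ⟨t', rfl⟩ := surjective_sections S h1 h2 (cokernel.π φ) t
    obtain ⟨t'', rfl⟩ := ((pb_iff_top φ).1 hφ).2 t'
    rw [← ConcreteCategory.comp_apply]
    have : φ.hom.app (op (EtCoh.top S)) ≫ (cokernel.π φ).hom.app (op (EtCoh.top S)) = 0 :=
      congrArg (fun f : F ⟶ cokernel φ => f.hom.app (op (EtCoh.top S))) (cokernel.condition φ)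
    rw [this]
    rfl
  haveI : Epi φ := Preadditive.epi_of_isZero_cokernel φ hc
  exact isIso_of_mono_of_epi φ

end Groth.L27.StalkBC
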