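import Groth.Agent.L27.StalkBC.Via
import Groth.Agent.L27.PBC.CohBC

/-! # The inductive step for base change in one degree -/

universe u

open CategoryTheory CategoryTheory.Limits AlgebraicGeometry Opposite IsLocalRing CategoryTheory.Abelian

set_option backward.isDefEq.respectTransparency.types false
set_option linter.style.haveILetI false
set_option linter.unusedSectionVars false

noncomputable section

namespace Groth.L27.StalkBC

open Groth.L27.LimCoh Groth.L27.LimBC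

theorem preservesFiniteColimits_pull {X Y : Scheme.{u}} (f : X ⟶ Y) : PreservesFiniteColimits (EtCoh.pull f) :=
  have : PreservesColimitsOfSize.{0, 0} (EtCoh.pull f) := (EtCoh.pullPushAdj f).leftAdjoint_preservesColimits
  PreservesColimitsOfSize.preservesFiniteColimits _

attribute [local instance] preservesFiniteColimits_pull

/-- Injectivity over every strict localization makes a morphism a monomorphism. -/
theorem mono_of_pi {X : Scheme.{u}} {F G : EtCoh.Ab X} (φ : F ⟶ G)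
    (H : ∀ (x : X) (R : Type u) [CommRing R] [IsLocalRing R] [Algebra (X.presheaf.stalk x) R]
      [IsLocalHom (algebraMap (X.presheaf.stalk x) R)] [Hensel.IsStrictHenselization (X.presheaf.stalk x) R],
      Function.Injective fun a : EtCoh.const (Spec (CommRingCat.of R)) ℤ ⟶
        (EtCoh.pull (Hens2.specOf X x R)).obj F => a ≫ (EtCoh.pull (Hens2.specOf X x R)).map φ) :
    Mono φ := by
  have h0 : IsIso (0 : kernel φ ⟶ kernel φ) := isIso_of_pb _ fun x R _ _ _ _ _ => by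
    haveI := EtSite.preservesFiniteLimits_pull (Hens2.specOf X x R)
    let η := Hens2.specOf X x R
    have hs : Subsingleton (EtCoh.const (Spec (CommRingCat.of R)) ℤ ⟶ (EtCoh.pull η).obj (kernel φ)) :=
      ⟨fun a b => (cancel_mono ((EtCoh.pull η).map (kernel.ι φ))).1 (H x R (by
        show (a ≫ _) ≫ _ = (b ≫ _) ≫ _
        rw [Category.assoc, Category.assoc]
        erw [← Functor.map_comp]
        rw [kernel.condition, Functor.map_zero, comp_zero, comp_zero]))⟩
    exact ⟨fun a b _ => Subsingleton.elim a b, fun b => ⟨b, Subsingleton.elim _ _⟩⟩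
  refine Preadditive.mono_of_kernel_zero ?_
  rw [← cancel_epi (0 : kernel φ ⟶ kernel φ), zero_comp, zero_comp]

section Killed

variable {X : Scheme.{u}} {n : ℕ} {F G : EtCoh.Ab X}

theorem nsmul_id_eq_zero (h : EtCoh.KilledBy n F) : n • 𝟙 F = 0 :=
  Sheaf.hom_ext (NatTrans.ext (funext fun U => ConcreteCategory.hom_ext _ _ fun s =>
    (PBC.nsmul_id_app F n U.unop s).trans (h U.unop s)))

theorem killedBy_of_nsmul (h : n • 𝟙 F = 0) : EtCoh.KilledBy n F := fun U s =>
  (PBC.nsmul_id_app F n U s).symm.trans congr($(congr_app (congrArg InducedCategory.Hom.hom h) (op U)) s)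

theorem killedBy_of_epi (p : F ⟶ G) [Epi p] (h : EtCoh.KilledBy n F) : EtCoh.KilledBy n G :=
  killedBy_of_nsmul (by
    rw [← cancel_epi p, Preadditive.comp_nsmul, Category.comp_id, comp_zero, ← Category.id_comp p,
      ← Preadditive.nsmul_comp, nsmul_id_eq_zero h, zero_comp])

theorem killedBy_kernel (J : EtCoh.Ab X) : EtCoh.KilledBy n (kernel (n • 𝟙 J)) :=
  killedBy_of_nsmul (by
    have e := kernel.condition (n • 𝟙 J)
    rw [Preadditive.comp_nsmul, Category.comp_id] at e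
    rw [← cancel_mono (kernel.ι (n • 𝟙 J)), Preadditive.nsmul_comp, Category.id_comp, zero_comp, e])

theorem isZero_Rpush_kernel {Y : Scheme.{u}} (f : X ⟶ Y) (J : EtCoh.Ab X) [Injective J] (q : ℕ) :
    IsZero ((EtCoh.Rpush f (q + 1)).obj (kernel (n • 𝟙 J))) := by
  rcases Nat.eq_zero_or_pos n with rfl | hn
  · haveI : IsIso (kernel.ι (0 • 𝟙 J) : kernel (0 • 𝟙 J) ⟶ J) :=
      ⟨kernel.lift _ (𝟙 J) (by simp), by rw [← cancel_mono (kernel.ι (0 • 𝟙 J))]; simp, kernel.lift_ι _ _ _⟩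
    exact ((EtCoh.push f).isZero_rightDerived_obj_injective_succ q J).of_iso
      ((EtCoh.Rpush f (q + 1)).mapIso (asIso (kernel.ι (0 • 𝟙 J) : kernel (0 • 𝟙 J) ⟶ J)))
  · exact PBC.isZero_Rpush_kernel f J hn (q + 1) (Nat.succ_pos q)

end Killed

variable {X S Y T : Scheme.{u}} (f : X ⟶ S) (g : T ⟶ S) [QuasiCompact g] [QuasiSeparated g] (h : Y ⟶ X)
  (e : Y ⟶ T) (c : IsPullback e h g f) [PreservesFiniteLimits (EtCoh.pull e)]

section Data

variable [QuasiCompact h] [QuasiSeparated h] (x : X)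
  (RS : Type u) [CommRing RS] [IsLocalRing RS] [Algebra (S.presheaf.stalk (f.base x)) RS]
  [IsLocalHom (algebraMap (S.presheaf.stalk (f.base x)) RS)]
  [Hensel.IsStrictHenselization (S.presheaf.stalk (f.base x)) RS]
  (RX : Type u) [CommRing RX] [IsLocalRing RX] [Algebra (X.presheaf.stalk x) RX]
  [IsLocalHom (algebraMap (X.presheaf.stalk x) RX)] [Hensel.IsStrictHenselization (X.presheaf.stalk x) RX]
  (ψ : RS →+* RX) [IsLocalHom ψ]
  (hψ : ψ.comp (algebraMap (S.presheaf.stalk (f.base x)) RS) =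
    (algebraMap (X.presheaf.stalk x) RX).comp (f.stalkMap x).hom)
  {PS PX : Scheme.{u}} (aS : PS ⟶ T) (bS : PS ⟶ Spec (CommRingCat.of RS))
  (cS : IsPullback aS bS g (Hens2.specOf S (f.base x) RS))
  (aX : PX ⟶ T) (bX : PX ⟶ Spec (CommRingCat.of RX))
  (n : PX ⟶ Y) (cn : IsPullback n bX h (Hens2.specOf X x RX)) (hne : n ≫ e = aX)
  (m : PX ⟶ PS) (w : m ≫ aS = aX) (hm : m ≫ bS = bX ≫ Spec.map (CommRingCat.ofHom ψ))
  [PreservesFiniteLimits (EtCoh.pull m)] [PreservesFiniteLimits (EtCoh.pull n)]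
  [PreservesFiniteLimits (EtCoh.pull aS)]

include c hψ cS cn hm in
theorem bijective_Hp (G : EtCoh.Ab T) (k : ℕ) (hi : IsIso (EtBC.bcQ g f h e c.w k G)) :
    Function.Bijective (Hp e G k aS aX n hne m w) := by
  obtain ⟨β, hβ, he⟩ := exists_σ_Hp f g h e c.w G k x RS RX ψ hψ aS bS cS aX bX n cn hne m w hm
  refine (Function.Bijective.of_comp_iff' (σ_bijective h x RX bX n cn k ((EtCoh.pull e).obj G)) _).1 ?_
  rw [show σ h x RX bX n cn ∘ Hp e G k aS aX n hne m w = _ from funext he]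
  exact (pb_of_isIso _).comp hβ

theorem Hp_map {G G' : EtCoh.Ab T} (φ : G ⟶ G') (k : ℕ) (v : EtCoh.H PS ((EtCoh.pull aS).obj G) k) :
    Hp e G' k aS aX n hne m w ((EtCoh.HF PS k).map ((EtCoh.pull aS).map φ) v) =
      (EtCoh.HF PX k).map ((EtCoh.pull n).map ((EtCoh.pull e).map φ)) (Hp e G k aS aX n hne m w v) := by
  rw [Hp, Hp, Hpull_map, ← HF_map_comp, ← HF_map_comp, sideIso_nat]

theorem Hp_sub (G : EtCoh.Ab T) (k : ℕ) (v v' : EtCoh.H PS ((EtCoh.pull aS).obj G) k) :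
    Hp e G k aS aX n hne m w (v - v') = Hp e G k aS aX n hne m w v - Hp e G k aS aX n hne m w v' := by
  rw [Hp, Hp, Hp, map_sub]
  exact map_sub _ _ _

variable {E : ShortComplex (EtCoh.Ab T)} (hE : E.ShortExact) {k : ℕ}
  (h₂ : IsIso (EtBC.bcQ g f h e c.w k E.X₂)) (h₃ : IsIso (EtBC.bcQ g f h e c.w k E.X₃))
  (hz : IsZero ((EtCoh.Rpush g (k + 1)).obj E.X₂))

include c hψ cS cn hm hne w hz in
theorem subsingleton_source : Subsingleton (EtCoh.H PS ((EtCoh.pull aS).obj E.X₂) (k + 1)) := by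
  obtain ⟨β, hβ, -⟩ := exists_σ_Hp f g h e c.w E.X₂ (k + 1) x RS RX ψ hψ aS bS cS aX bX n cn hne m w hm
  exact ⟨fun a b => hβ.1 (((EtCoh.pull (Hens2.specOf X x RX)).map_isZero
    ((EtCoh.pull f).map_isZero hz)).eq_of_tgt _ _)⟩

theorem Hp_δ (y : EtCoh.H PS ((EtCoh.pull aS).obj E.X₃) k) :
    Hp e E.X₁ (k + 1) aS aX n hne m w (δH (hE.map_of_exact (EtCoh.pull aS)) k y) =
      δH ((hE.map_of_exact (EtCoh.pull e)).map_of_exact (EtCoh.pull n)) k (Hp e E.X₃ k aS aX n hne m w y) := by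
  let φ : (E.map (EtCoh.pull aS)).map (EtCoh.pull m) ⟶ (E.map (EtCoh.pull e)).map (EtCoh.pull n) :=
    ShortComplex.homMk (sideIso e E.X₁ aS aX n hne m w) (sideIso e E.X₂ aS aX n hne m w)
      (sideIso e E.X₃ aS aX n hne m w) (sideIso_nat e aS aX n hne m w E.f).symm
      (sideIso_nat e aS aX n hne m w E.g).symm
  exact (congrArg _ (Hpull_δH m (hE.map_of_exact (EtCoh.pull aS)) k y)).trans (map_δH _ _ φ k _)

include c hψ cS cn hm hne w hE h₂ h₃ hz in
theorem injective_Hp : Function.Injective (Hp e E.X₁ (k + 1) aS aX n hne m w) := by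
  haveI := subsingleton_source f g h e c x RS RX ψ hψ aS bS cS aX bX n cn hne m w hm hz
  intro v v' hv
  rw [← sub_eq_zero]
  have h0 : Hp e E.X₁ (k + 1) aS aX n hne m w (v - v') = 0 := by rw [Hp_sub, hv, sub_self]
  obtain ⟨y, hy⟩ := exists_δH (hE.map_of_exact (EtCoh.pull aS)) k (v - v') (Subsingleton.elim (α :=
    EtCoh.H PS ((EtCoh.pull aS).obj E.X₂) (k + 1)) _ _)
  rw [← hy, Hp_δ e aS aX n hne m w hE] at h0
  obtain ⟨z, hz'⟩ := exists_map_of_δH_eq_zero _ k _ h0
  obtain ⟨z', rfl⟩ := (bijective_Hp f g h e c x RS RX ψ hψ aS bS cS aX bX n cn hne m w hm E.X₂ k h₂).2 z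
  have : (EtCoh.HF PS k).map ((EtCoh.pull aS).map E.g) z' = y :=
    (bijective_Hp f g h e c x RS RX ψ hψ aS bS cS aX bX n cn hne m w hm E.X₃ k h₃).1
      ((Hp_map e aS aX n hne m w E.g k z').trans hz')
  rw [← hy, ← this]
  exact δH_map_g (hE.map_of_exact (EtCoh.pull aS)) k z'

include c hψ cS cn hm hne w hE h₃ in
theorem mem_range_Hp (v : EtCoh.H PX ((EtCoh.pull n).obj ((EtCoh.pull e).obj E.X₁)) (k + 1))
    (hv : (EtCoh.HF PX (k + 1)).map ((EtCoh.pull n).map ((EtCoh.pull e).map E.f)) v = 0) :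
    v ∈ Set.range (Hp e E.X₁ (k + 1) aS aX n hne m w) := by
  obtain ⟨y, hy⟩ := exists_δH (E := (E.map (EtCoh.pull e)).map (EtCoh.pull n))
    ((hE.map_of_exact (EtCoh.pull e)).map_of_exact (EtCoh.pull n)) k v hv
  have hb := bijective_Hp f g h e c x RS RX ψ hψ aS bS cS aX bX n cn hne m w hm E.X₃ k h₃
  obtain ⟨y', hy'⟩ : ∃ y' : EtCoh.H PS ((EtCoh.pull aS).obj E.X₃) k, Hp e E.X₃ k aS aX n hne m w y' = y :=
    hb.2 y
  refine ⟨δH (hE.map_of_exact (EtCoh.pull aS)) k y', ?_⟩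
  exact (Hp_δ e aS aX n hne m w hE y').trans ((congrArg _ hy').trans hy)

end Data

variable {E : ShortComplex (EtCoh.Ab T)} (hE : E.ShortExact) {k : ℕ}
  (h₂ : IsIso (EtBC.bcQ g f h e c.w k E.X₂)) (h₃ : IsIso (EtBC.bcQ g f h e c.w k E.X₃))
  (hz : IsZero ((EtCoh.Rpush g (k + 1)).obj E.X₂))

include hz in
theorem bcQ_comp_zero : EtBC.bcQ g f h e c.w (k + 1) E.X₁ ≫
    (EtCoh.Rpush h (k + 1)).map ((EtCoh.pull e).map E.f) = 0 := by
  rw [bcQ_naturality, ((EtCoh.pull f).map_isZero hz).eq_of_tgt ((EtCoh.pull f).map ((EtCoh.Rpush g (k + 1)).map E.f)) 0,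
    zero_comp]

include hE h₂ h₃ in
theorem step : Mono (EtBC.bcQ g f h e c.w (k + 1) E.X₁) ∧
    Mono (cokernel.desc (EtBC.bcQ g f h e c.w (k + 1) E.X₁) _ (bcQ_comp_zero f g h e c hz)) := by
  haveI : QuasiCompact h := MorphismProperty.of_isPullback (P := @QuasiCompact) c inferInstance
  haveI : QuasiSeparated h := MorphismProperty.of_isPullback (P := @QuasiSeparated) c inferInstance
  refine ⟨mono_of_pi _ fun x RX _ _ _ _ _ => ?_, mono_of_pi _ fun x RX _ _ _ _ _ => ?_⟩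
  all_goals
    obtain ⟨RS, _, _, _, _, hRS⟩ := L05.Henselization.exists_isStrictHenselization (S.presheaf.stalk (f.base x))
    obtain ⟨ψ, _, hψ⟩ := exists_strictMap f x RS RX
    let ηS := Hens2.specOf S (f.base x) RS
    let ηX := Hens2.specOf X x RX
    have cS := IsPullback.of_hasPullback g ηS
    have cn := IsPullback.of_hasPullback h ηX
    let n := pullback.fst h ηX
    have hw : (n ≫ e) ≫ g = (pullback.snd h ηX ≫ Spec.map (CommRingCat.ofHom ψ)) ≫ ηS :=
      (Category.assoc _ _ _).trans ((congrArg (n ≫ ·) c.w).trans ((Category.assoc _ _ _).symm.trans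
        ((congrArg (· ≫ f) cn.w).trans ((Category.assoc _ _ _).trans ((congrArg (pullback.snd h ηX ≫ ·)
          (specOf_comp f x RS RX ψ hψ)).symm.trans (Category.assoc _ _ _).symm)))))
    let m := cS.lift (n ≫ e) (pullback.snd h ηX ≫ Spec.map (CommRingCat.ofHom ψ)) hw
    have w := cS.lift_fst (n ≫ e) (pullback.snd h ηX ≫ Spec.map (CommRingCat.ofHom ψ)) hw
    have hm := cS.lift_snd (n ≫ e) (pullback.snd h ηX ≫ Spec.map (CommRingCat.ofHom ψ)) hw
    haveI := EtSite.preservesFiniteLimits_pull m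
    haveI := EtSite.preservesFiniteLimits_pull n
    haveI := EtSite.preservesFiniteLimits_pull (pullback.fst g ηS)
    haveI := EtSite.preservesFiniteLimits_pull ηX
    obtain ⟨β, hβ, hσ⟩ := exists_σ_Hp f g h e c.w E.X₁ (k + 1) x RS RX ψ hψ _ _ cS _ _ n cn rfl m w hm
    intro a b hab
  · obtain ⟨v, rfl⟩ := hβ.2 a
    obtain ⟨v', rfl⟩ := hβ.2 b
    refine congrArg β (injective_Hp f g h e c x RS RX ψ hψ _ _ cS _ _ n cn rfl m w hm hE h₂ h₃ hz ?_)
    refine (σ_bijective h x RX _ n cn (k + 1) _).1 ?_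
    rw [hσ, hσ]
    exact hab
  · let π := (EtCoh.pull ηX).map (cokernel.π (EtBC.bcQ g f h e c.w (k + 1) E.X₁))
    haveI := projective_const_strict x RX
    let r := Projective.factorThru (a - b) π
    have hr : r ≫ π = a - b := Projective.factorThru_comp _ _
    have hr0 : r ≫ (EtCoh.pull ηX).map ((EtCoh.Rpush h (k + 1)).map ((EtCoh.pull e).map E.f)) = 0 := by
      have h' : (a - b) ≫ (EtCoh.pull ηX).map (cokernel.desc (EtBC.bcQ g f h e c.w (k + 1) E.X₁) _
          (bcQ_comp_zero f g h e c hz)) = 0 := by rw [Preadditive.sub_comp, sub_eq_zero]; exact hab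
      rwa [← hr, Category.assoc, ← Functor.map_comp, cokernel.π_desc] at h'
    obtain ⟨v, hv⟩ := (σ_bijective h x RX (pullback.snd h ηX) n cn (k + 1) ((EtCoh.pull e).obj E.X₁)).2 r
    obtain ⟨v', rfl⟩ := mem_range_Hp f g h e c x RS RX ψ hψ _ _ cS _ _ n cn rfl m w hm hE h₃ v
      ((σ_bijective h x RX (pullback.snd h ηX) n cn (k + 1) ((EtCoh.pull e).obj E.X₂)).1
        ((σ_map h x RX _ n cn _ v).trans ((congrArg (· ≫ _) hv).trans (hr0.trans (σ_zero h x RX _ n cn _).symm))))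
    rw [← sub_eq_zero, ← hr, ← hv, hσ, Category.assoc, ← Functor.map_comp, cokernel.condition,
      Functor.map_zero, comp_zero]

end Groth.L27.StalkBC
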