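import Groth.Agent.L27.StalkBC.BCElem
import Groth.Agent.L00.RDerLES
import Groth.Agent.L27.LimBC.BCSys
import Mathlib.AlgebraicGeometry.AffineTransitionLimit

/-! # Morphisms on which a section outside the image of base change stays outside -/

universe u

open CategoryTheory CategoryTheory.Limits AlgebraicGeometry Opposite

set_option backward.defeqAttrib.useBackward true
set_option backward.isDefEq.respectTransparency false
set_option backward.isDefEq.respectTransparency.types false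
set_option linter.style.haveILetI false
set_option linter.unusedSectionVars false

noncomputable section

namespace Groth.L27.StalkBC

open Groth.L27.LimCoh Groth.L27.LimBC

/-- Jointly surjective families detect monomorphisms. -/
theorem mono_of_jointly_surjective {T V Z : Scheme.{u}} (i : Z ⟶ T) (j : V ⟶ T)
    (hij : ∀ x : T, x ∈ Set.range i.base ∨ x ∈ Set.range j.base) {A B : EtCoh.Ab T} (φ : A ⟶ B)
    [hi : Mono ((EtCoh.pull i).map φ)] [hj : Mono ((EtCoh.pull j).map φ)] : Mono φ := by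
  have key : ∀ {W : Scheme.{u}} (π : W ⟶ T), Mono ((EtCoh.pull π).map φ) → ∀ w : W,
      ∃ (Ω : Type u) (_ : Field Ω) (_ : IsSepClosed Ω) (ξ : Spec (CommRingCat.of Ω) ⟶ T),
        ξ.base default = π.base w ∧ Function.Injective ((Scheme.pointSmallEtale ξ).presheafFiber.map φ.hom) := by
    intro W π _ w
    obtain ⟨Ω, _, _, ξ, rfl⟩ := EtSite.exists_geometric_point w
    refine ⟨Ω, inferInstance, inferInstance, ξ ≫ π, rfl, ?_⟩
    have : Mono ((EtCoh.pull π ⋙ EtCoh.stalk ξ).map φ) :=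
      inferInstanceAs (Mono ((EtCoh.stalk ξ).map ((EtCoh.pull π).map _)))
    exact (AddCommGrpCat.mono_iff_injective _).1 (((MorphismProperty.monomorphisms _).arrow_mk_iso_iff
      (((Functor.mapArrowFunctor _ _).mapIso (EtSite.stalkPullIso π ξ)).app (Arrow.mk _))).1 this)
  haveI : Sheaf.IsLocallyInjective φ := by
    refine EtSite.isLocallyInjective_of_some_stalks _ fun x => ?_
    obtain ⟨w, rfl⟩ | ⟨w, rfl⟩ := hij x
    exacts [key i hi w, key j hj w]
  exact Sheaf.mono_of_isLocallyInjective _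

section Unit

variable {T T' T'' : Scheme.{u}} (t : T' ⟶ T) (t'' : T'' ⟶ T) (s : T'' ⟶ T') (hs : s ≫ t = t'') (F : EtCoh.Ab T)

include hs in
theorem trans_w : t'' ≫ 𝟙 T = s ≫ t := (Category.comp_id _).trans hs.symm

/-- The transition between inverse images. -/
def trans : (EtCoh.pull t).obj F ⟶ (EtCoh.push s).obj ((EtCoh.pull t'').obj F) :=
  pullHat t t'' s (𝟙 T) (trans_w t t'' s hs) (pushUnit₀ (𝟙 T) rfl F)

theorem cmp_un_trans : LimBC.cmp s t hs (un t F) (trans t t'' s hs F) = un t'' F := by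
  rw [trans, cmp_pullHat t t'' s (𝟙 T) _ _ hs (Category.comp_id t''), cmp_unit₀_left]

theorem isIso_legMap_trans : IsIso (((EtCoh.pullPushAdj s).homEquiv _ _).symm (trans t t'' s hs F)) := by
  show IsIso (legMap t t'' s (𝟙 T) (trans_w t t'' s hs) (pushUnit₀ (𝟙 T) rfl F))
  have e : pushUnit₀ (𝟙 T) rfl F = un (𝟙 T) F ≫
      (EtCoh.push (𝟙 T)).map (((EtCoh.pullPushAdj (𝟙 T)).homEquiv F F).symm (pushUnit₀ (𝟙 T) rfl F)) :=
    (Equiv.apply_symm_apply _ _).symm.trans ((EtCoh.pullPushAdj (𝟙 T)).homEquiv_unit _ _ _)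
  haveI := isIso_transpose_pushUnit₀ F
  haveI := isIso_legMap_un t t'' s (𝟙 T) (trans_w t t'' s hs) (A := F)
  rw [e, legMap_post]
  infer_instance

theorem mono_pull_trans : Mono ((EtCoh.pull s).map (trans t t'' s hs F)) := by
  haveI := isIso_legMap_trans t t'' s hs F
  haveI : Mono ((EtCoh.pull s).map (trans t t'' s hs F) ≫ (EtCoh.pullPushAdj s).counit.app _) := by
    rw [Adjunction.homEquiv_counit] at this
    haveI := this
    infer_instance
  exact mono_of_mono _ ((EtCoh.pullPushAdj s).counit.app _)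

theorem mono_trans [Surjective s] : Mono (trans t t'' s hs F) := by
  haveI := mono_pull_trans t t'' s hs F
  exact mono_of_jointly_surjective s s (fun x => Or.inl (s.surjective x)) _

end Unit

section Square

variable {X S T' T'' : Scheme.{u}} (f : X ⟶ S) (g' : T' ⟶ S) (g'' : T'' ⟶ S) (s : T'' ⟶ T') (hs : s ≫ g' = g'')

/-- The morphism of fibre products. -/
abbrev pbMap : pullback g'' f ⟶ pullback g' f :=
  pullback.lift (pullback.fst g'' f ≫ s) (pullback.snd g'' f) (by rw [Category.assoc, hs, pullback.condition])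

theorem pbMap_snd : pbMap f g' g'' s hs ≫ pullback.snd g' f = pullback.snd g'' f := pullback.lift_snd _ _ _

theorem pbMap_fst : pullback.fst g'' f ≫ s = pbMap f g' g'' s hs ≫ pullback.fst g' f :=
  (pullback.lift_fst _ _ _).symm

end Square

attribute [local instance] EtSite.preservesFiniteLimits_pull

section Bad

variable {X S T : Scheme.{u}} (f : X ⟶ S) [IsAffine S] {Ω : Type u} [Field Ω] [IsSepClosed Ω]
  (ξ : Spec (CommRingCat.of Ω) ⟶ X) {n : ℕ} (k : ℕ) (g : T ⟶ S) (F : EtCoh.Ab T)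
  (z : (EtCoh.stalk ξ).obj ((EtCoh.Rpush (pullback.snd g f) (k + 1)).obj ((EtCoh.pull (pullback.fst g f)).obj F)))

theorem quasiCompact_of_compact {T' S : Scheme.{u}} [CompactSpace T'] [IsAffine S] (g : T' ⟶ S) : QuasiCompact g :=
  (quasiCompact_iff_compactSpace g).2 inferInstance

theorem quasiSeparated_of_qs {T' S : Scheme.{u}} [QuasiSeparatedSpace T'] [IsAffine S] (g : T' ⟶ S) : QuasiSeparated g :=
  (quasiSeparated_iff_quasiSeparatedSpace g).2 inferInstance

/-- The given section over a scheme over the base. -/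
def at' {T' : Scheme.{u}} (t : T' ⟶ T) :
    (EtCoh.stalk ξ).obj ((EtCoh.Rpush (pullback.snd (t ≫ g) f) (k + 1)).obj
      ((EtCoh.pull (pullback.fst (t ≫ g) f)).obj ((EtCoh.pull t).obj F))) :=
  (EtCoh.stalk ξ).map (Mmap (pullback.snd g f) (pullback.fst g f) (pullback.snd (t ≫ g) f) (pullback.fst (t ≫ g) f)
    t (pbMap f g (t ≫ g) t rfl) (pbMap_snd f g (t ≫ g) t rfl) (pbMap_fst f g (t ≫ g) t rfl) (k + 1) (un t F)) z

/-- The given section stays outside the image of base change. -/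
def Bad {T' : Scheme.{u}} (t : T' ⟶ T) : Prop :=
  at' f ξ k g F z t ∉ rng f ξ k (t ≫ g) (pullback.snd (t ≫ g) f) (pullback.fst (t ≫ g) f)
    (IsPullback.of_hasPullback _ _) ((EtCoh.pull t).obj F)

variable {T' T'' : Scheme.{u}} (t : T' ⟶ T) (t'' : T'' ⟶ T) (s : T'' ⟶ T') (hs : s ≫ t = t'')

include hs in
theorem over_w : s ≫ (t ≫ g) = t'' ≫ g := by rw [← Category.assoc, hs]

/-- The transition of higher direct images. -/
abbrev Mtr {B : EtCoh.Ab T''} {A : EtCoh.Ab T'} (a : A ⟶ (EtCoh.push s).obj B) :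
    (EtCoh.Rpush (pullback.snd (t ≫ g) f) (k + 1)).obj ((EtCoh.pull (pullback.fst (t ≫ g) f)).obj A) ⟶
      (EtCoh.Rpush (pullback.snd (t'' ≫ g) f) (k + 1)).obj ((EtCoh.pull (pullback.fst (t'' ≫ g) f)).obj B) :=
  Mmap (pullback.snd (t ≫ g) f) (pullback.fst (t ≫ g) f) (pullback.snd (t'' ≫ g) f) (pullback.fst (t'' ≫ g) f) s
    (pbMap f (t ≫ g) (t'' ≫ g) s (over_w g t t'' s hs)) (pbMap_snd f (t ≫ g) (t'' ≫ g) s (over_w g t t'' s hs))
    (pbMap_fst f (t ≫ g) (t'' ≫ g) s (over_w g t t'' s hs)) (k + 1) a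

theorem at'_trans : (EtCoh.stalk ξ).map (Mtr f k g t t'' s hs (trans t t'' s hs F)) (at' f ξ k g F z t) =
    at' f ξ k g F z t'' := by
  rw [at', at', ← ConcreteCategory.comp_apply, ← Functor.map_comp]
  refine congrArg (fun m => (EtCoh.stalk ξ).map m z) ?_
  refine (Mmap_comp _ _ _ _ _ _ t (pbMap f g (t ≫ g) t rfl) _ _ s
    (pbMap f (t ≫ g) (t'' ≫ g) s (over_w g t t'' s hs)) _ _ (k + 1) (un t F) (trans t t'' s hs F) hs
    (u' := pbMap f g (t'' ≫ g) t'' rfl) ?_ (pbMap_snd f g (t'' ≫ g) t'' rfl)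
    (pbMap_fst f g (t'' ≫ g) t'' rfl)).trans ?_
  · refine pullback.hom_ext ?_ ?_
    · simp [pbMap, hs]
    · simp [pbMap]
  · rw [cmp_un_trans]

include hs in
theorem bad_of_comp (h : Bad f ξ k g F z t'') : Bad f ξ k g F z t := fun h' => h <| by
  rw [← at'_trans f ξ k g F z t t'' s hs]
  exact Mmap_mem_rng f ξ (k := k) (t ≫ g) _ _ (IsPullback.of_hasPullback _ _) (t'' ≫ g) _ _
    (IsPullback.of_hasPullback _ _) s _ (over_w g t t'' s hs) _ _ _ _ h'

variable [CompactSpace T'] [QuasiSeparatedSpace T'] (hl : Low f n k) (hF : EtCoh.KilledBy n F)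

include hl hF in
/-- Detection on an inverse image by its transition. -/
theorem mem_rng_trans [CompactSpace T''] [QuasiSeparatedSpace T''] [QuasiCompact s] [QuasiSeparated s]
    (h : at' f ξ k g F z t'' ∈ rng f ξ k (t'' ≫ g) (pullback.snd (t'' ≫ g) f) (pullback.fst (t'' ≫ g) f)
      (IsPullback.of_hasPullback _ _) ((EtCoh.pull t'').obj F)) :
    (EtCoh.stalk ξ).map ((EtCoh.Rpush (pullback.snd (t ≫ g) f) (k + 1)).map
        ((EtCoh.pull (pullback.fst (t ≫ g) f)).map (trans t t'' s hs F))) (at' f ξ k g F z t) ∈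
      rng f ξ k (t ≫ g) (pullback.snd (t ≫ g) f) (pullback.fst (t ≫ g) f) (IsPullback.of_hasPullback _ _)
        ((EtCoh.push s).obj ((EtCoh.pull t'').obj F)) := by
  haveI := quasiCompact_of_compact (t ≫ g)
  haveI := quasiSeparated_of_qs (t ≫ g)
  haveI := quasiCompact_of_compact (t'' ≫ g)
  haveI := quasiSeparated_of_qs (t'' ≫ g)
  refine mem_rng_push f ξ (t ≫ g) _ _ (IsPullback.of_hasPullback _ _) (t'' ≫ g) _ _
    (IsPullback.of_hasPullback _ _) s (pbMap f (t ≫ g) (t'' ≫ g) s (over_w g t t'' s hs)) (over_w g t t'' s hs)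
    (pbMap_snd _ _ _ _ _) (pbMap_fst _ _ _ _ _) hl _ (killedBy_pull t'' hF) _ ?_
  rw [← ConcreteCategory.comp_apply, ← Functor.map_comp, ← Mmap_pre, Category.comp_id]
  exact (at'_trans f ξ k g F z t t'' s hs).symm ▸ h

include hl hF hs in
theorem bad_comp_of_surjective [CompactSpace T''] [QuasiSeparatedSpace T''] [QuasiCompact s] [QuasiSeparated s]
    [Surjective s] (h : Bad f ξ k g F z t) : Bad f ξ k g F z t'' := fun h' => h <| by
  haveI := quasiCompact_of_compact (t ≫ g)
  haveI := quasiSeparated_of_qs (t ≫ g)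
  haveI := mono_trans t t'' s hs F
  exact mem_rng_of_mono f ξ k (t ≫ g) _ _ (IsPullback.of_hasPullback _ _) hl (trans t t'' s hs F)
    (killedBy_push s (killedBy_pull t'' hF)) _ (mem_rng_trans f ξ k g F z t t'' s hs hl hF h')

include hl hF in
theorem bad_or_bad {Z V : Scheme.{u}} (i : Z ⟶ T') [IsClosedImmersion i] (j : V ⟶ T') [IsOpenImmersion j]
    [CompactSpace V] (hij : Set.range j = (Set.range i)ᶜ) (h : Bad f ξ k g F z t) :
    Bad f ξ k g F z (j ≫ t) ∨ Bad f ξ k g F z (i ≫ t) := by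
  by_contra hne
  rw [not_or] at hne
  obtain ⟨hV, hZ⟩ := hne
  haveI : CompactSpace Z := QuasiCompact.compactSpace_of_compactSpace i
  haveI : QuasiSeparatedSpace Z := quasiSeparatedSpace_of_quasiSeparated i
  haveI : QuasiSeparatedSpace V := quasiSeparatedSpace_of_quasiSeparated j
  haveI : QuasiCompact j := quasiCompact_of_compactSpace j
  haveI := quasiCompact_of_compact (t ≫ g)
  haveI := quasiSeparated_of_qs (t ≫ g)
  let A := (EtCoh.push j).obj ((EtCoh.pull (j ≫ t)).obj F)
  let B := (EtCoh.push i).obj ((EtCoh.pull (i ≫ t)).obj F)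
  let φ : (EtCoh.pull t).obj F ⟶ A ⊞ B := biprod.lift (trans t (j ≫ t) j rfl F) (trans t (i ≫ t) i rfl F)
  haveI : Mono ((EtCoh.pull i).map φ) := by
    haveI := mono_pull_trans t (i ≫ t) i rfl F
    haveI : Mono ((EtCoh.pull i).map φ ≫ (EtCoh.pull i).map biprod.snd) := by
      rw [← Functor.map_comp, biprod.lift_snd]
      infer_instance
    exact mono_of_mono _ ((EtCoh.pull i).map biprod.snd)
  haveI : Mono ((EtCoh.pull j).map φ) := by
    haveI := mono_pull_trans t (j ≫ t) j rfl F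
    haveI : Mono ((EtCoh.pull j).map φ ≫ (EtCoh.pull j).map biprod.fst) := by
      rw [← Functor.map_comp, biprod.lift_fst]
      infer_instance
    exact mono_of_mono _ ((EtCoh.pull j).map biprod.fst)
  haveI : Mono φ := mono_of_jointly_surjective i j (fun x => by
    by_cases hx : x ∈ Set.range i
    · exact Or.inl hx
    · exact Or.inr (hij ▸ hx)) φ
  have hAB : EtCoh.KilledBy n (A ⊞ B) := killedBy_of_nsmul (by
    apply biprod.hom_ext
    · rw [Preadditive.nsmul_comp, Category.id_comp, zero_comp, ← Category.comp_id biprod.fst, ← Preadditive.comp_nsmul,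
        nsmul_id_eq_zero (killedBy_push j (killedBy_pull (j ≫ t) hF)), comp_zero]
    · rw [Preadditive.nsmul_comp, Category.id_comp, zero_comp, ← Category.comp_id biprod.snd, ← Preadditive.comp_nsmul,
        nsmul_id_eq_zero (killedBy_push i (killedBy_pull (i ≫ t) hF)), comp_zero])
  refine h (mem_rng_of_mono f ξ k (t ≫ g) _ _ (IsPullback.of_hasPullback _ _) hl φ hAB _ ?_)
  have ha := mem_rng_trans f ξ k g F z t (j ≫ t) j rfl hl hF (not_not.1 hV)
  have hb := mem_rng_trans f ξ k g F z t (i ≫ t) i rfl hl hF (not_not.1 hZ)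
  let G := EtCoh.pull (pullback.fst (t ≫ g) f) ⋙ EtCoh.Rpush (pullback.snd (t ≫ g) f) (k + 1)
  let bc := fun (M : EtCoh.Ab T') =>
    EtBC.bcQ (t ≫ g) f (pullback.snd (t ≫ g) f) (pullback.fst (t ≫ g) f) pullback.condition (k + 1) M
  have eφ : φ = trans t (j ≫ t) j rfl F ≫ biprod.inl + trans t (i ≫ t) i rfl F ≫ biprod.inr := by
    simp only [φ]
    exact biprod.lift_eq
  have key : ∀ {M : EtCoh.Ab T'} (ι : M ⟶ A ⊞ B) (v : (EtCoh.stalk ξ).obj (G.obj M)),
      v ∈ rng f ξ k (t ≫ g) (pullback.snd (t ≫ g) f) (pullback.fst (t ≫ g) f) (IsPullback.of_hasPullback _ _) M →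
        (EtCoh.stalk ξ).map (G.map ι ≫ cokernel.π (bc (A ⊞ B))) v = 0 := by
    rintro M ι v ⟨y, rfl⟩
    refine (ConcreteCategory.comp_apply _ _ _).symm.trans ?_
    rw [← Functor.map_comp]
    have e : bc M ≫ G.map ι ≫ cokernel.π (bc (A ⊞ B)) = 0 := by
      show EtBC.bcQ _ _ _ _ _ _ _ ≫ _ = 0
      rw [← Category.assoc]
      erw [bcQ_naturality, Category.assoc, cokernel.condition, comp_zero]
    exact (congrArg (fun m => (EtCoh.stalk ξ).map m y) e).trans (by rw [Functor.map_zero]; rfl)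
  rw [mem_rng_iff, ← ConcreteCategory.comp_apply, ← Functor.map_comp]
  show (EtCoh.stalk ξ).map (G.map φ ≫ cokernel.π (bc (A ⊞ B))) _ = 0
  haveI : PreservesBinaryBiproducts (EtCoh.stalk ξ) := preservesBinaryBiproducts_of_preservesBinaryProducts _
  haveI : (EtCoh.stalk ξ).Additive := Functor.additive_of_preservesBinaryBiproducts _
  haveI : G.Additive := by
    haveI : (EtCoh.pull (pullback.fst (t ≫ g) f)).Additive := inferInstance
    haveI : (EtCoh.Rpush (pullback.snd (t ≫ g) f) (k + 1)).Additive := by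
      letI := HasDerivedCategory.standard (EtCoh.Ab (pullback (t ≫ g) f))
      letI := HasDerivedCategory.standard (EtCoh.Ab X)
      exact L00.RDerLES.additive (EtCoh.push (pullback.snd (t ≫ g) f)) (k + 1)
    exact inferInstanceAs ((EtCoh.pull (pullback.fst (t ≫ g) f) ⋙ EtCoh.Rpush (pullback.snd (t ≫ g) f) (k + 1)).Additive)
  rw [eφ, Functor.map_add, Preadditive.add_comp, Functor.map_add]
  simp only [G.map_comp, Category.assoc]
  rw [(EtCoh.stalk ξ).map_comp (G.map (trans t (j ≫ t) j rfl F)),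
    (EtCoh.stalk ξ).map_comp (G.map (trans t (i ≫ t) i rfl F))]
  refine (AddMonoidHom.add_apply _ _ _).trans ?_
  rw [ConcreteCategory.comp_apply, ConcreteCategory.comp_apply]
  exact (congrArg₂ (· + ·) (key biprod.inl _ ha) (key biprod.inr _ hb)).trans (add_zero 0)

end Bad

end Groth.L27.StalkBC
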