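import Groth.Agent.L27.StalkBC.BCTrans
import Mathlib.Algebra.Homology.ShortComplex.Ab

/-! # Sections of higher direct images outside the image of base change -/

universe u

open CategoryTheory CategoryTheory.Limits AlgebraicGeometry Opposite

set_option backward.defeqAttrib.useBackward true
set_option backward.isDefEq.respectTransparency false
set_option backward.isDefEq.respectTransparency.types false
set_option linter.style.haveILetI false
set_option linter.unusedSectionVars false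

noncomputable section

namespace Groth.L27.StalkBC

open Groth.L27.LimCoh Groth.L27.LimBC

/-- Base change in degrees at most `k`, universally in the base, for coefficients killed by `n`. -/
def Low {X S : Scheme.{u}} (f : X ⟶ S) (n k : ℕ) : Prop :=
  ∀ ⦃S₁ X₁ T₁ Y₁ : Scheme.{u}⦄ (p₁ : S₁ ⟶ S) (f₁ : X₁ ⟶ S₁) (r₁ : X₁ ⟶ X),
    IsPullback r₁ f₁ f p₁ →
    ∀ (g₁ : T₁ ⟶ S₁) (h₁ : Y₁ ⟶ X₁) (e₁ : Y₁ ⟶ T₁) (c₁ : IsPullback e₁ h₁ g₁ f₁)
      [QuasiCompact g₁] [QuasiSeparated g₁] [PreservesFiniteLimits (EtCoh.pull e₁)]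
      (G₁ : EtCoh.Ab T₁), EtCoh.KilledBy n G₁ →
      ∀ q₁ : ℕ, q₁ ≤ k → IsIso (EtBC.bcQ g₁ f₁ h₁ e₁ c₁.w q₁ G₁)

section Killed

variable {T T' : Scheme.{u}} {n : ℕ}

theorem killedBy_push (s : T' ⟶ T) {G : EtCoh.Ab T'} (h : EtCoh.KilledBy n G) :
    EtCoh.KilledBy n ((EtCoh.push s).obj G) := killedBy_of_nsmul (by
  rw [← CategoryTheory.Functor.map_id, ← Functor.map_nsmul, nsmul_id_eq_zero h, Functor.map_zero])

theorem killedBy_pull (s : T' ⟶ T) {G : EtCoh.Ab T} (h : EtCoh.KilledBy n G) :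
    EtCoh.KilledBy n ((EtCoh.pull s).obj G) := killedBy_of_nsmul (by
  rw [← CategoryTheory.Functor.map_id, ← Functor.map_nsmul, nsmul_id_eq_zero h, Functor.map_zero])

theorem isZero_Rpush_push_kernel {S : Scheme.{u}} (s : T' ⟶ T) (g : T ⟶ S) (J : EtCoh.Ab T') [Injective J] (q : ℕ) :
    IsZero ((EtCoh.Rpush g (q + 1)).obj ((EtCoh.push s).obj (kernel (n • 𝟙 J)))) := by
  haveI : PreservesLimitsOfSize.{0, 0} (EtCoh.push s) := (EtCoh.pullPushAdj s).rightAdjoint_preservesLimits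
  haveI : Injective ((EtCoh.push s).obj J) := (preservesInjectiveObjects_push s).injective_obj inferInstance
  have e : (EtCoh.push s).map (n • 𝟙 J) = n • 𝟙 ((EtCoh.push s).obj J) := by
    rw [Functor.map_nsmul, CategoryTheory.Functor.map_id]
  exact (isZero_Rpush_kernel g ((EtCoh.push s).obj J) q).of_iso ((EtCoh.Rpush g (q + 1)).mapIso
    (PreservesKernel.iso (EtCoh.push s) (n • 𝟙 J) ≪≫ kernel.mapIso _ (n • 𝟙 ((EtCoh.push s).obj J)) (Iso.refl _)
      (Iso.refl _) (by simp [e])))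

end Killed

variable {X S : Scheme.{u}} (f : X ⟶ S) {Ω : Type u} [Field Ω] [IsSepClosed Ω] (ξ : Spec (CommRingCat.of Ω) ⟶ X)
  {n k : ℕ}

section One

variable {T Y : Scheme.{u}} (g : T ⟶ S) (h : Y ⟶ X) (e : Y ⟶ T) (c : IsPullback e h g f)
  [PreservesFiniteLimits (EtCoh.pull e)] (k) (G : EtCoh.Ab T)

/-- The image of base change on the stalk at a point. -/
def rng : Set ((EtCoh.stalk ξ).obj ((EtCoh.Rpush h (k + 1)).obj ((EtCoh.pull e).obj G))) :=
  Set.range ((EtCoh.stalk ξ).map (EtBC.bcQ g f h e c.w (k + 1) G))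

theorem mem_rng_iff (z : (EtCoh.stalk ξ).obj ((EtCoh.Rpush h (k + 1)).obj ((EtCoh.pull e).obj G))) :
    z ∈ rng f ξ k g h e c G ↔
      (EtCoh.stalk ξ).map (cokernel.π (EtBC.bcQ g f h e c.w (k + 1) G)) z = 0 := by
  let E := ShortComplex.mk _ _ (cokernel.condition (EtBC.bcQ g f h e c.w (k + 1) G))
  have hE : E.Exact := ShortComplex.exact_of_g_is_cokernel E (cokernelIsCokernel _)
  have h' := hE.map (EtCoh.stalk ξ)
  rw [ShortComplex.ab_exact_iff] at h'
  refine ⟨?_, fun hz => h' z hz⟩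
  rintro ⟨y, rfl⟩
  exact (E.map (EtCoh.stalk ξ)).ab_zero_apply y

variable [QuasiCompact g] [QuasiSeparated g] (hl : Low f n k)

include hl in
theorem low_bcQ {G : EtCoh.Ab T} (hG : EtCoh.KilledBy n G) : IsIso (EtBC.bcQ g f h e c.w k G) :=
  hl (𝟙 S) f (𝟙 X) (IsPullback.of_horiz_isIso ⟨by simp⟩) g h e c G hG k le_rfl

include hl in
theorem mem_rng_of_mono {G G' : EtCoh.Ab T} (ι : G ⟶ G') [Mono ι] (hG' : EtCoh.KilledBy n G')
    (z : (EtCoh.stalk ξ).obj ((EtCoh.Rpush h (k + 1)).obj ((EtCoh.pull e).obj G)))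
    (hz : (EtCoh.stalk ξ).map ((EtCoh.Rpush h (k + 1)).map ((EtCoh.pull e).map ι)) z ∈ rng f ξ k g h e c G') :
    z ∈ rng f ξ k g h e c G := by
  obtain ⟨φ, _, hφ⟩ := exists_mono_coker f g h e c n (fun G hG => low_bcQ f k g h e c hl hG) ι hG'
  rw [mem_rng_iff] at hz ⊢
  have hinj := (AddCommGrpCat.mono_iff_injective ((EtCoh.stalk ξ).map φ)).1 inferInstance
  refine hinj ?_
  rw [map_zero, ← ConcreteCategory.comp_apply, ← Functor.map_comp, hφ, Functor.map_comp, ConcreteCategory.comp_apply]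
  exact hz

end One

section Two

variable {T T' Y Y' : Scheme.{u}} (g : T ⟶ S) (h : Y ⟶ X) (e : Y ⟶ T) (c : IsPullback e h g f)
  (g' : T' ⟶ S) (h' : Y' ⟶ X) (e' : Y' ⟶ T') (c' : IsPullback e' h' g' f)
  (s : T' ⟶ T) (s' : Y' ⟶ Y) (ws : s ≫ g = g') (ws' : s' ≫ h = h') (cs : e' ≫ s = s' ≫ e)
  [PreservesFiniteLimits (EtCoh.pull e)] [PreservesFiniteLimits (EtCoh.pull e')]

include ws in
/-- Transition maps respect the image of base change. -/
theorem Mmap_mem_rng {A : EtCoh.Ab T} {B : EtCoh.Ab T'} (a : A ⟶ (EtCoh.push s).obj B)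
    (z : (EtCoh.stalk ξ).obj ((EtCoh.Rpush h (k + 1)).obj ((EtCoh.pull e).obj A)))
    (hz : z ∈ rng f ξ k g h e c A) :
    (EtCoh.stalk ξ).map (Mmap h e h' e' s s' ws' cs (k + 1) a) z ∈ rng f ξ k g' h' e' c' B := by
  obtain ⟨y, rfl⟩ := hz
  refine ⟨(EtCoh.stalk ξ).map ((EtCoh.pull f).map (Rmap g g' s ws (k + 1) a)) y, ?_⟩
  rw [← ConcreteCategory.comp_apply, ← ConcreteCategory.comp_apply, ← Functor.map_comp, ← Functor.map_comp,
    bcQ_Mmap f g h e c.w g' h' e' c'.w s s' ws ws' cs (k + 1) a]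

variable [QuasiCompact g] [QuasiSeparated g] [QuasiCompact g'] [QuasiSeparated g'] [QuasiCompact s]
  [QuasiSeparated s] (hl : Low f n k)

include c c' ws ws' hl in
/-- Detection after passing to a direct image. -/
theorem mem_rng_push (B : EtCoh.Ab T') (hB : EtCoh.KilledBy n B)
    (z : (EtCoh.stalk ξ).obj ((EtCoh.Rpush h (k + 1)).obj ((EtCoh.pull e).obj ((EtCoh.push s).obj B))))
    (hz : (EtCoh.stalk ξ).map (Mmap h e h' e' s s' ws' cs (k + 1) (𝟙 ((EtCoh.push s).obj B))) z ∈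
      rng f ξ k g' h' e' c' B) :
    z ∈ rng f ξ k g h e c ((EtCoh.push s).obj B) := by
  have csq : IsPullback e' s' s e := IsPullback.of_bot (by rw [ws', ws]; exact c') cs c
  let J₀ := Injective.under B
  have h0 : Injective.ι B ≫ (n • 𝟙 J₀) = 0 := by
    rw [Preadditive.comp_nsmul, Category.comp_id, ← Category.id_comp (Injective.ι B), ← Preadditive.nsmul_comp,
      nsmul_id_eq_zero hB, zero_comp]
  let J := kernel (n • 𝟙 J₀)
  let ψ : B ⟶ J := kernel.lift _ _ h0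
  haveI : Mono ψ := mono_of_mono_fac (kernel.lift_ι _ _ h0)
  haveI : PreservesLimitsOfSize.{0, 0} (EtCoh.push s) := (EtCoh.pullPushAdj s).rightAdjoint_preservesLimits
  haveI : PreservesFiniteLimits (EtCoh.push s) := PreservesLimitsOfSize.preservesFiniteLimits _
  refine mem_rng_of_mono f ξ k g h e c hl ((EtCoh.push s).map ψ) (killedBy_push s (killedBy_kernel J₀)) z ?_
  let z' := (EtCoh.stalk ξ).map ((EtCoh.Rpush h (k + 1)).map ((EtCoh.pull e).map ((EtCoh.push s).map ψ))) z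
  suffices z' = 0 by
    show z' ∈ _
    rw [this]
    exact ⟨0, map_zero _⟩
  have hb : ∀ b, b ≤ k → IsIso (EtBC.bcQ s e s' e' csq.w b J) := fun b hb =>
    hl g e h c.flip s s' e' csq J (killedBy_kernel J₀) b hb
  haveI := mono_Mmap_id h e h' e' s s' ws' cs J (hb 0 (Nat.zero_le k)) (k := k) fun b h1 hbk => by
    obtain ⟨b, rfl⟩ : ∃ a, b = a + 1 := ⟨b - 1, by omega⟩
    haveI := hb (b + 1) hbk
    exact ((EtCoh.pull e).map_isZero (isZero_Rpush_kernel s J₀ b)).of_iso (asIso (EtBC.bcQ s e s' e' csq.w (b + 1) J)).symm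
  refine (AddCommGrpCat.mono_iff_injective
    ((EtCoh.stalk ξ).map (Mmap h e h' e' s s' ws' cs (k + 1) (𝟙 ((EtCoh.push s).obj J))))).1 inferInstance ?_
  have hnat : (EtCoh.Rpush h (k + 1)).map ((EtCoh.pull e).map ((EtCoh.push s).map ψ)) ≫
      Mmap h e h' e' s s' ws' cs (k + 1) (𝟙 ((EtCoh.push s).obj J)) =
      Mmap h e h' e' s s' ws' cs (k + 1) (𝟙 ((EtCoh.push s).obj B)) ≫
        (EtCoh.Rpush h' (k + 1)).map ((EtCoh.pull e').map ψ) := by
    rw [← Mmap_pre, ← Mmap_post, Category.comp_id, Category.id_comp]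
  rw [map_zero]
  refine (ConcreteCategory.comp_apply _ _ _).symm.trans ?_
  rw [← Functor.map_comp, hnat, Functor.map_comp, ConcreteCategory.comp_apply]
  obtain ⟨y, hy⟩ := hz
  rw [← hy, ← ConcreteCategory.comp_apply, ← Functor.map_comp, bcQ_naturality g' f h' e' c'.w (k + 1) ψ,
    Functor.map_comp, ConcreteCategory.comp_apply]
  have hzero : IsZero ((EtCoh.stalk ξ).obj ((EtCoh.pull f).obj ((EtCoh.Rpush g' (k + 1)).obj J))) :=
    (EtCoh.stalk ξ).map_isZero ((EtCoh.pull f).map_isZero (isZero_Rpush_kernel g' J₀ k))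
  haveI := AddCommGrpCat.subsingleton_of_isZero hzero
  exact (congrArg _ (Subsingleton.elim _ 0)).trans (map_zero _)

end Two

end Groth.L27.StalkBC
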