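import Groth.Agent.L27.StalkBC.BCLimit
import Groth.Agent.L27.LimBC.Restrict
import Groth.Agent.S6666
import Groth.Agent.S6668

/-! # Failure of base change is witnessed over a field -/

universe u

open CategoryTheory CategoryTheory.Limits AlgebraicGeometry Opposite

set_option backward.defeqAttrib.useBackward true
set_option backward.isDefEq.respectTransparency false
set_option backward.isDefEq.respectTransparency.types false
set_option linter.style.haveILetI false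
set_option linter.unusedSectionVars false

noncomputable section

namespace Groth.L27.StalkBC

open Groth.L27.LimCoh Groth.L27.LimBC

attribute [local instance] EtSite.preservesFiniteLimits_pull

theorem isZero_of_isEmpty {T : Scheme.{u}} [IsEmpty T] (F : EtCoh.Ab T) : IsZero F := by
  haveI : Sheaf.IsLocallyInjective (0 : F ⟶ F) :=
    EtSite.isLocallyInjective_of_some_stalks _ fun x => isEmptyElim x
  haveI : Mono (0 : F ⟶ F) := Sheaf.mono_of_isLocallyInjective _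
  rw [IsZero.iff_id_eq_zero, ← cancel_mono (0 : F ⟶ F), comp_zero, comp_zero]

variable {X S : Scheme.{u}}

theorem low_base {f : X ⟶ S} {n k : ℕ} (hl : Low f n k) {X' S' : Scheme.{u}} {f' : X' ⟶ S'} {r : X' ⟶ X} {p : S' ⟶ S}
    (hX : IsPullback r f' f p) : Low f' n k :=
  fun _ _ _ _ p₁ f₁ r₁ h₁ => hl (p₁ ≫ p) f₁ (r₁ ≫ r) (h₁.paste_horiz hX)

theorem isIso_bcQ_comp_etale (f : X ⟶ S) {U T Y Z : Scheme.{u}} (u : U ⟶ X) [Etale u] (g : T ⟶ S) (h : Y ⟶ X)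
    (e : Y ⟶ T) (c : IsPullback e h g f) (j : Z ⟶ U) (r : Z ⟶ T) (c' : IsPullback r j g (u ≫ f))
    [PreservesFiniteLimits (EtCoh.pull e)] [PreservesFiniteLimits (EtCoh.pull r)] (G : EtCoh.Ab T) (q : ℕ)
    (h0 : IsIso (EtBC.bcQ g f h e c.w q G)) : IsIso (EtBC.bcQ g (u ≫ f) j r c'.w q G) := by
  obtain ⟨y, hye, hyh⟩ : ∃ y : Z ⟶ Y, y ≫ e = r ∧ y ≫ h = j ≫ u :=
    ⟨c.lift r (j ≫ u) (c'.w.trans (Category.assoc _ _ _).symm), c.lift_fst _ _ _, c.lift_snd _ _ _⟩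
  subst hye
  have cy : IsPullback y j h u := IsPullback.of_right c' hyh c
  exact L10.EtBCComp.isIso_bcQ_vcomp f g h e u j y c.w cy.w c'.w G q h0
    (L10.EtLocalBC.isIso_bcQ_of_etale h u j y cy q _)

theorem low_comp_etale {f : X ⟶ S} {n k : ℕ} (hl : Low f n k) {U : Scheme.{u}} (u : U ⟶ X) [Etale u] :
    Low (u ≫ f) n k := by
  intro S₁ X₁ T₁ Y₁ p₁ f₁ r₁ h₁ g₁ h₁' e₁ c₁ _ _ _ G₁ hG q₁ hq
  let P := pullback f p₁
  obtain ⟨u₁, hu1, hu2⟩ : ∃ u₁ : X₁ ⟶ P, u₁ ≫ pullback.fst f p₁ = r₁ ≫ u ∧ u₁ ≫ pullback.snd f p₁ = f₁ :=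
    ⟨pullback.lift (r₁ ≫ u) f₁ ((Category.assoc _ _ _).trans h₁.w), pullback.lift_fst _ _ _, pullback.lift_snd _ _ _⟩
  subst hu2
  have cu : IsPullback r₁ u₁ u (pullback.fst f p₁) :=
    IsPullback.of_bot h₁ hu1.symm (IsPullback.of_hasPullback f p₁)
  haveI : Etale u₁ := MorphismProperty.of_isPullback (P := @Etale) cu inferInstance
  exact isIso_bcQ_comp_etale (pullback.snd f p₁) u₁ g₁ (pullback.snd g₁ (pullback.snd f p₁))
    (pullback.fst g₁ (pullback.snd f p₁)) (IsPullback.of_hasPullback _ _) h₁' e₁ c₁ G₁ q₁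
    (hl p₁ _ _ (IsPullback.of_hasPullback f p₁) g₁ _ _ (IsPullback.of_hasPullback _ _) G₁ hG q₁ hq)

/-- A failure of base change over an affine base is witnessed over a field. -/
theorem exists_field_witness (f : X ⟶ S) [IsAffine S] [CompactSpace X] [QuasiSeparatedSpace X] {n k : ℕ}
    (hl : Low f n k) {T Y : Scheme.{u}} (g : T ⟶ S) [QuasiCompact g] [QuasiSeparated g] (h : Y ⟶ X) (e : Y ⟶ T)
    (c : IsPullback e h g f) (F : EtCoh.Ab T) (hF : EtCoh.KilledBy n F)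
    (hbad : ¬ IsIso (EtBC.bcQ g f h e c.w (k + 1) F)) :
    ∃ (K : Type u) (_ : Field K) (g' : Spec (CommRingCat.of K) ⟶ S) (F' : EtCoh.Ab (Spec (CommRingCat.of K))),
      EtCoh.KilledBy n F' ∧
        ¬ IsIso (EtBC.bcQ g' f (pullback.snd g' f) (pullback.fst g' f) pullback.condition (k + 1) F') := by
  haveI : Mono (EtBC.bcQ g f h e c.w (k + 1) F) :=
    mono_bcQ f g h e c n (fun G hG => low_bcQ f k g h e c hl hG) F hF
  obtain ⟨Ω, _, _, ξ, z, hz⟩ : ∃ (Ω : Type u) (_ : Field Ω) (_ : IsSepClosed Ω) (ξ : Spec (CommRingCat.of Ω) ⟶ X)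
      (z : (EtCoh.stalk ξ).obj ((EtCoh.Rpush h (k + 1)).obj ((EtCoh.pull e).obj F))),
      z ∉ rng f ξ k g h e c F := by
    by_contra hne
    push Not at hne
    refine hbad ?_
    haveI : Epi (EtBC.bcQ g f h e c.w (k + 1) F) :=
      (EtSite.epi_iff_stalks _).2 fun Ω _ _ ξ z => hne Ω inferInstance inferInstance ξ z
    exact isIso_of_mono_of_epi _
  haveI : CompactSpace T := QuasiCompact.compactSpace_of_compactSpace g
  haveI : QuasiSeparatedSpace T := quasiSeparatedSpace_of_quasiSeparated g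
  let Φ := EtCoh.pull (pullback.fst g f) ⋙ EtCoh.Rpush (pullback.snd g f) (k + 1)
  let s₀ : pullback g f ⟶ Y := c.lift (pullback.fst g f) (pullback.snd g f) pullback.condition
  have hs₀ : s₀ ≫ h = pullback.snd g f := c.lift_snd _ _ _
  have cs₀ : pullback.fst g f ≫ 𝟙 T = s₀ ≫ e := (Category.comp_id _).trans (c.lift_fst _ _ _).symm
  let z₀ : (EtCoh.stalk ξ).obj (Φ.obj F) :=
    (EtCoh.stalk ξ).map (Mmap h e (pullback.snd g f) (pullback.fst g f) (𝟙 T) s₀ hs₀ cs₀ (k + 1)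
      (pushUnit₀ (𝟙 T) rfl F)) z
  have hz₀ : z₀ ∉ rng f ξ k g (pullback.snd g f) (pullback.fst g f) (IsPullback.of_hasPullback g f) F := by
    intro h'
    haveI := isIso_pushUnit₀ F
    refine hz (mem_rng_of_mono f ξ k g h e c hl (pushUnit₀ (𝟙 T) rfl F) (killedBy_push _ hF) z ?_)
    refine mem_rng_push f ξ g h e c g _ _ (IsPullback.of_hasPullback g f) (𝟙 T) s₀ (Category.id_comp g) hs₀ cs₀
      hl F hF _ ?_
    rw [← ConcreteCategory.comp_apply, ← Functor.map_comp, ← Mmap_pre, Category.comp_id]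
    exact h'
  haveI : Nonempty T := by
    rw [← not_isEmpty_iff]
    intro hT
    letI := HasDerivedCategory.standard (EtCoh.Ab (pullback g f))
    letI := HasDerivedCategory.standard (EtCoh.Ab X)
    haveI : (EtCoh.Rpush (pullback.snd g f) (k + 1)).Additive :=
      L00.RDerLES.additive (EtCoh.push (pullback.snd g f)) (k + 1)
    haveI := AddCommGrpCat.subsingleton_of_isZero
      ((EtCoh.stalk ξ).map_isZero ((EtCoh.Rpush (pullback.snd g f) (k + 1)).map_isZero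
      ((EtCoh.pull (pullback.fst g f)).map_isZero (isZero_of_isEmpty F))))
    exact hz₀ ⟨0, Subsingleton.elim _ _⟩
  let P : ∀ ⦃T' : Scheme.{u}⦄, (T' ⟶ T) → Prop := fun T' t =>
    ∀ [CompactSpace T'] [QuasiSeparatedSpace T'], Bad f ξ k g F z₀ t
  have hT : P (𝟙 T) := by
    intro _ _ h'
    haveI := HenselClosed.mono_unit (𝟙 T) F
    refine hz₀ (mem_rng_of_mono f ξ k g _ _ (IsPullback.of_hasPullback g f) hl (un (𝟙 T) F)
      (killedBy_push _ (killedBy_pull _ hF)) z₀ ?_)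
    haveI := quasiCompact_of_compact (𝟙 T ≫ g)
    haveI := quasiSeparated_of_qs (𝟙 T ≫ g)
    refine mem_rng_push f ξ g _ _ (IsPullback.of_hasPullback g f) (𝟙 T ≫ g) _ _
      (IsPullback.of_hasPullback (𝟙 T ≫ g) f) (𝟙 T) _ rfl (pbMap_snd f g (𝟙 T ≫ g) (𝟙 T) rfl)
      (pbMap_fst f g (𝟙 T ≫ g) (𝟙 T) rfl) hl _ (killedBy_pull _ hF) _ ?_
    rw [← ConcreteCategory.comp_apply, ← Functor.map_comp, ← Mmap_pre, Category.comp_id]
    exact h'
  obtain ⟨K, _, t, ht⟩ := Groth.Agent.S6666.result T P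
    (fun T' T'' a t _ _ _ _ _ _ => by
      constructor
      · intro h' _ _
        exact bad_of_comp f ξ k g F z₀ a (t ≫ a) t rfl h'
      · intro h' _ _
        exact bad_comp_of_surjective f ξ k g F z₀ a (t ≫ a) t rfl hl hF h')
    (fun I _ _ D c' hc' haff hqc hall _ _ => bad_limit f ξ k g F z₀ D c' hc' haff hqc
      (fun i => haveI := (hqc i).1; haveI := (hqc i).2; hall i))
    (fun T' Z V a _ _ i _ j _ _ hij h' => by
      obtain hh | hh := bad_or_bad f ξ k g F z₀ a hl hF i j hij h'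
      · exact Or.inl hh
      · exact Or.inr hh)
    hT
  refine ⟨K, inferInstance, t ≫ g, (EtCoh.pull t).obj F, killedBy_pull t hF, fun hiso => ?_⟩
  refine ht ?_
  haveI := hiso
  exact ⟨(EtCoh.stalk ξ).map (inv (EtBC.bcQ (t ≫ g) f (pullback.snd (t ≫ g) f) (pullback.fst (t ≫ g) f)
      pullback.condition (k + 1) ((EtCoh.pull t).obj F))) (at' f ξ k g F z₀ t),
    (map_map_apply (EtCoh.stalk ξ) _ _ _).trans (by rw [IsIso.inv_hom_id, CategoryTheory.Functor.map_id]; rfl)⟩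

/-- Failure of base change in a degree is witnessed over a field, over an affine base. -/
theorem exists_field_counterexample_affine (f : X ⟶ S) {n k : ℕ} (hl : Low f n k)
    {S₂ X₂ T₂ Y₂ : Scheme.{u}} (p₂ : S₂ ⟶ S) (f₂ : X₂ ⟶ S₂) (r₂ : X₂ ⟶ X) (hX₂ : IsPullback r₂ f₂ f p₂)
    (g₂ : T₂ ⟶ S₂) (h₂ : Y₂ ⟶ X₂) (e₂ : Y₂ ⟶ T₂) (c₂ : IsPullback e₂ h₂ g₂ f₂) [QuasiCompact g₂] [QuasiSeparated g₂]
    (G : EtCoh.Ab T₂) (hG : EtCoh.KilledBy n G) (hbad : ¬ IsIso (EtBC.bcQ g₂ f₂ h₂ e₂ c₂.w (k + 1) G)) :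
    ∃ (S' X' Y : Scheme.{u}) (_ : IsAffine S') (p : S' ⟶ S) (f' : X' ⟶ S') (r : X' ⟶ X) (_ : IsPullback r f' f p)
      (K : Type u) (_ : Field K) (g : Spec (CommRingCat.of K) ⟶ S') (h : Y ⟶ X') (e : Y ⟶ Spec (CommRingCat.of K))
      (c : IsPullback e h g f') (F : EtCoh.Ab (Spec (CommRingCat.of K))) (_ : EtCoh.KilledBy n F),
      ∀ [PreservesFiniteLimits (EtCoh.pull e)], ¬ IsIso (EtBC.bcQ g f' h e c.w (k + 1) F) := by
  have key : ∀ x : X₂, ∃ (U : X₂.Opens) (V : S₂.Opens), IsAffineOpen U ∧ IsAffineOpen V ∧ x ∈ U ∧ U ≤ f₂ ⁻¹ᵁ V := by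
    intro x
    obtain ⟨_, ⟨V, hV, rfl⟩, hxV, -⟩ := S₂.isBasis_affineOpens.exists_subset_of_mem_open
      (Set.mem_univ (f₂ x)) isOpen_univ
    obtain ⟨_, ⟨U, hU, rfl⟩, hxU, hUV⟩ := X₂.isBasis_affineOpens.exists_subset_of_mem_open
      (show x ∈ (f₂ ⁻¹ᵁ V : Set X₂) from hxV) (f₂ ⁻¹ᵁ V).2
    exact ⟨U, V, hU, hV, hxU, hUV⟩
  choose U V hU hV hxU hUV using key
  let u : ∀ x, (U x : Scheme) ⟶ pullback f₂ (V x).ι := fun x =>
    pullback.lift (U x).ι (f₂.resLE (V x) (U x) (hUV x)) (Scheme.Hom.resLE_comp_ι _ _).symm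
  have hu : ∀ x, u x ≫ pullback.fst f₂ (V x).ι = (U x).ι := fun x => pullback.lift_fst _ _ _
  obtain ⟨x, hx⟩ : ∃ x : X₂, ¬ IsIso (EtBC.bcQ (pullback.snd g₂ (V x).ι) (u x ≫ pullback.snd f₂ (V x).ι)
      (pullback.snd (pullback.snd g₂ (V x).ι) (u x ≫ pullback.snd f₂ (V x).ι))
      (pullback.fst (pullback.snd g₂ (V x).ι) (u x ≫ pullback.snd f₂ (V x).ι)) pullback.condition (k + 1)
      ((EtCoh.pull (pullback.fst g₂ (V x).ι)).obj G)) := by
    by_contra hall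
    push Not at hall
    exact hbad (Groth.Agent.S6668.result f₂ g₂ h₂ e₂ c₂ G (k + 1) (fun x : X₂ => Scheme.Etale.mk (U x).ι)
      (fun x => ⟨x, ⟨x, hxU x⟩, rfl⟩) (fun x => Scheme.Etale.mk (V x).ι) (fun x => u x ≫ pullback.snd f₂ (V x).ι)
      (fun x => (Category.assoc _ _ _).trans ((congrArg (u x ≫ ·) pullback.condition.symm).trans
        ((Category.assoc _ _ _).symm.trans (congrArg (· ≫ f₂) (hu x)))))
      _ _ _ _ (fun x => IsPullback.of_hasPullback g₂ (V x).ι) _ _ (fun x => IsPullback.of_hasPullback _ _) hall)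
  haveI : IsAffine (V x) := hV x
  haveI : IsAffine (U x) := hU x
  haveI : IsOpenImmersion (u x) := by
    haveI : IsOpenImmersion (u x ≫ pullback.fst f₂ (V x).ι) := by rw [hu x]; infer_instance
    exact IsOpenImmersion.of_comp _ (pullback.fst f₂ (V x).ι)
  have hX' : IsPullback (pullback.fst f₂ (V x).ι ≫ r₂) (pullback.snd f₂ (V x).ι) f ((V x).ι ≫ p₂) :=
    (IsPullback.of_hasPullback f₂ (V x).ι).paste_horiz hX₂
  have hl' := low_base hl hX'
  haveI : QuasiCompact (pullback.snd g₂ (V x).ι) :=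
    MorphismProperty.of_isPullback (P := @QuasiCompact) (IsPullback.of_hasPullback g₂ (V x).ι) inferInstance
  haveI : QuasiSeparated (pullback.snd g₂ (V x).ι) :=
    MorphismProperty.of_isPullback (P := @QuasiSeparated) (IsPullback.of_hasPullback g₂ (V x).ι) inferInstance
  obtain ⟨K, _, g', F', hF', hbad'⟩ := exists_field_witness (u x ≫ pullback.snd f₂ (V x).ι)
    (low_comp_etale hl' (u x)) (pullback.snd g₂ (V x).ι) _ _ (IsPullback.of_hasPullback _ _) _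
    (killedBy_pull _ hG) hx
  refine ⟨_, _, pullback g' (pullback.snd f₂ (V x).ι), hV x, _, _, _, hX', K, inferInstance, g', _, _,
    IsPullback.of_hasPullback g' _, F', hF', fun {_} hiso => hbad' ?_⟩
  exact isIso_bcQ_comp_etale (pullback.snd f₂ (V x).ι) (u x) g' _ _ (IsPullback.of_hasPullback g' _) _ _
    (IsPullback.of_hasPullback g' _) F' (k + 1) hiso

/-- Failure of base change in a degree is witnessed over a field. -/
theorem exists_field_counterexample (f : X ⟶ S) {n k : ℕ} (hl : Low f n k)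
    {S₂ X₂ T₂ Y₂ : Scheme.{u}} (p₂ : S₂ ⟶ S) (f₂ : X₂ ⟶ S₂) (r₂ : X₂ ⟶ X) (hX₂ : IsPullback r₂ f₂ f p₂)
    (g₂ : T₂ ⟶ S₂) (h₂ : Y₂ ⟶ X₂) (e₂ : Y₂ ⟶ T₂) (c₂ : IsPullback e₂ h₂ g₂ f₂) [QuasiCompact g₂] [QuasiSeparated g₂]
    (G : EtCoh.Ab T₂) (hG : EtCoh.KilledBy n G) (hbad : ¬ IsIso (EtBC.bcQ g₂ f₂ h₂ e₂ c₂.w (k + 1) G)) :
    ∃ (S' X' Y : Scheme.{u}) (p : S' ⟶ S) (f' : X' ⟶ S') (r : X' ⟶ X) (_ : IsPullback r f' f p)
      (K : Type u) (_ : Field K) (g : Spec (CommRingCat.of K) ⟶ S') (h : Y ⟶ X') (e : Y ⟶ Spec (CommRingCat.of K))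
      (c : IsPullback e h g f') (F : EtCoh.Ab (Spec (CommRingCat.of K))) (_ : EtCoh.KilledBy n F),
      ∀ [PreservesFiniteLimits (EtCoh.pull e)], ¬ IsIso (EtBC.bcQ g f' h e c.w (k + 1) F) := by
  obtain ⟨S', X', Y, _, h⟩ := exists_field_counterexample_affine f hl p₂ f₂ r₂ hX₂ g₂ h₂ e₂ c₂ G hG hbad
  exact ⟨S', X', Y, h⟩

end Groth.L27.StalkBC
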