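import Groth.Agent.L27.StalkBC.BCMono
import Groth.Agent.L27.LimBC.StrictLocal
import Groth.Agent.L27.EtSite.BaseChangeIso
import Groth.Agent.L27.HenselClosed.Main
import Groth.Agent.L28.Edge.In
import Groth.Agent.L27.CompTransfer.Descend

/-! # Base change maps and integral morphisms -/

universe u

open CategoryTheory CategoryTheory.Limits AlgebraicGeometry Opposite

set_option backward.defeqAttrib.useBackward true
set_option backward.isDefEq.respectTransparency false
set_option backward.isDefEq.respectTransparency.types false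
set_option linter.style.haveILetI false
set_option linter.unusedSectionVars false

noncomputable section

namespace Groth.L27.StalkBC

open Groth.L27.LimCoh Groth.L27.LimBC Groth.L10.EtBCComp

attribute [local instance] preservesInjectiveObjects_push

section Id

variable {T S T' : Scheme.{u}} (g : T ⟶ S) (k : T' ⟶ S) (π : T' ⟶ T) [IsIntegralHom π]
  (w : π ≫ g = k ≫ 𝟙 S) (q : ℕ) (G' : EtCoh.Ab T')

/-- Along an integral morphism, higher direct images of a composite are those of the direct image. -/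
theorem isIso_Θ_id : IsIso (Θ g (𝟙 S) k π w q (𝟙 ((EtCoh.push π).obj G'))) := by
  haveI := L28.Edge.isIso_edgeIn (EtCoh.push π) (EtCoh.push g) q G'
    (fun a ha => EtSite.isZero_Rpush_of_propB π (EtSite.propB_of_isIntegralHom π) G' a ha)
  haveI : (EtCoh.push (𝟙 S)).Full := Functor.Full.of_iso pushId
  haveI : PreservesFiniteColimits (EtCoh.push (𝟙 S)) := preservesFiniteColimits_of_natIso (pushId (T := S))
  haveI := L10.EtLocalBC.isIso_homologyComparison (EtCoh.push (𝟙 S))
    (((EtCoh.push k).mapHomologicalComplex _).obj (injectiveResolution G').cocomplex) q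
  unfold Θ sqMap RDer.edgeOut
  infer_instance

/-- The same, with the identity removed. -/
def θ : (EtCoh.Rpush g q).obj ((EtCoh.push π).obj G') ⟶ (EtCoh.Rpush k q).obj G' :=
  Θ g (𝟙 S) k π w q (𝟙 ((EtCoh.push π).obj G')) ≫
    @inv _ _ _ _ (pushUnit₀ (𝟙 S) rfl ((EtCoh.Rpush k q).obj G')) (isIso_pushUnit₀ _)

theorem isIso_θ : IsIso (θ g k π w q G') := by
  haveI := isIso_Θ_id g k π w q G'
  haveI := isIso_pushUnit₀ ((EtCoh.Rpush k q).obj G')
  unfold θ
  infer_instance

theorem θ_unit₀ : θ g k π w q G' ≫ pushUnit₀ (𝟙 S) rfl ((EtCoh.Rpush k q).obj G') =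
    Θ g (𝟙 S) k π w q (𝟙 ((EtCoh.push π).obj G')) := by
  haveI := isIso_pushUnit₀ ((EtCoh.Rpush k q).obj G')
  rw [θ, Category.assoc, IsIso.inv_hom_id, Category.comp_id]

end Id

variable {X' S' Y T T' Y' : Scheme.{u}} (f' : X' ⟶ S') (g : T ⟶ S') (h : Y ⟶ X') (e : Y ⟶ T)
  (π : T' ⟶ T) [IsIntegralHom π] (π' : Y' ⟶ Y) (e' : Y' ⟶ T') (c' : IsPullback e' π' π e)
  (w : e ≫ g = h ≫ f') (w'' : e' ≫ π ≫ g = (π' ≫ h) ≫ f')
  [PreservesFiniteLimits (EtCoh.pull e)] [PreservesFiniteLimits (EtCoh.pull e')] (q : ℕ) (G' : EtCoh.Ab T')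

include c' in
/-- Base change for a direct image along an integral morphism follows from the one for the composite square. -/
theorem isIso_bcQ_push (hiso : IsIso (EtBC.bcQ (π ≫ g) f' (π' ≫ h) e' w'' q G')) :
    IsIso (EtBC.bcQ g f' h e w q ((EtCoh.push π).obj G')) := by
  haveI : IsIntegralHom π' := MorphismProperty.of_isPullback (P := @IsIntegralHom) c' inferInstance
  let A := (EtCoh.push π).obj G'
  let a₂ : (EtCoh.pull e).obj A ⟶ (EtCoh.push π').obj ((EtCoh.pull e').obj G') :=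
    EtCoh.baseChange0 π e π' e' c'.w G'
  haveI : IsIso a₂ := EtSite.BC.isIso_baseChange0 c' G'
  have wS : π ≫ g = (π ≫ g) ≫ 𝟙 S' := (Category.comp_id _).symm
  have wX : π' ≫ h = (π' ≫ h) ≫ 𝟙 X' := (Category.comp_id _).symm
  let θX : (EtCoh.Rpush h q).obj ((EtCoh.pull e).obj A) ⟶
      (EtCoh.Rpush (π' ≫ h) q).obj ((EtCoh.pull e').obj G') :=
    (EtCoh.Rpush h q).map a₂ ≫ θ h (π' ≫ h) π' wX q ((EtCoh.pull e').obj G')
  let θS := θ g (π ≫ g) π wS q G'
  haveI : IsIso θS := isIso_θ g (π ≫ g) π wS q G'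
  haveI := isIso_θ h (π' ≫ h) π' wX q ((EtCoh.pull e').obj G')
  haveI : IsIso θX := inferInstance
  have w₃ : (π' ≫ e) ≫ g = (π' ≫ h) ≫ f' := by rw [Category.assoc, w, Category.assoc]
  have h₁ := Θ_comp g h (π' ≫ h) w wX w₃ (Category.id_comp f') rfl q (un e A) a₂
  have h₂ := Θ_comp g (π ≫ g) (π' ≫ h) wS w'' w₃ (Category.comp_id f') c'.w q (𝟙 A) (un e' G')
  have ha : un e A ≫ (EtCoh.push e).map a₂ ≫ pushJoin π' e rfl ((EtCoh.pull e').obj G') =
      𝟙 A ≫ (EtCoh.push π).map (un e' G') ≫ pushJoin e' π c'.w ((EtCoh.pull e').obj G') := by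
    have e₀ : un e A ≫ (EtCoh.push e).map a₂ = (EtCoh.push π).map (un e' G') ≫
        (EtCoh.pushComp π e').hom.app _ ≫ (EtCoh.pushCongr c'.w).hom.app _ ≫
          (EtCoh.pushComp e π').inv.app _ :=
      ((EtCoh.pullPushAdj e).homEquiv_unit _ _ _).symm.trans (Equiv.apply_symm_apply _ _)
    rw [Category.id_comp, ← Category.assoc, e₀, ← CompTransfer.pushJoin_congr e' π c'.w, ← pushComp_hom_app π' e]
    simp only [Category.assoc, Iso.inv_hom_id_app, Category.comp_id]
  have h₃ := h₁.trans ((congrArg (Θ g f' (π' ≫ h) (π' ≫ e) w₃ q) ha).trans h₂.symm)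
  have l : EtBC.bcQAdj g f' h e w q A ≫ (EtCoh.push f').map θX = θS ≫ EtBC.bcQAdj (π ≫ g) f' (π' ≫ h) e' w'' q G' := by
    rw [bcQAdj_eq_Θ g f' h e w q A, bcQAdj_eq_Θ (π ≫ g) f' (π' ≫ h) e' w'' q G']
    have eX : (EtCoh.push f').map (Θ h (𝟙 X') (π' ≫ h) π' wX q a₂) ≫
        pushJoin (𝟙 X') f' (Category.id_comp f') ((EtCoh.Rpush (π' ≫ h) q).obj ((EtCoh.pull e').obj G')) =
          (EtCoh.push f').map θX := by
      rw [← Category.comp_id a₂, Θ_pre, ← θ_unit₀, ← Category.assoc, Functor.map_comp, Category.assoc,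
        pushUnit₀_pushJoin_right, Category.comp_id]
    rw [eX] at h₃
    refine h₃.trans ?_
    rw [← θ_unit₀ g (π ≫ g) π wS q G', Category.assoc,
      ← Category.assoc (pushUnit₀ (𝟙 S') rfl _), pushUnit₀_naturality, Category.assoc,
      ← pushSplit_unit₀ f' (𝟙 S') rfl (Category.comp_id f'), pushSplit_pushJoin, Category.comp_id]
  have l' : EtBC.bcQ g f' h e w q A ≫ θX = (EtCoh.pull f').map θS ≫ EtBC.bcQ (π ≫ g) f' (π' ≫ h) e' w'' q G' := by
    rw [EtBC.bcQ, EtBC.bcQ, ← Adjunction.homEquiv_naturality_right_symm, l,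
      Adjunction.homEquiv_naturality_left_symm]
  haveI := hiso
  haveI : IsIso (EtBC.bcQ g f' h e w q A ≫ θX) := l' ▸ inferInstance
  exact IsIso.of_isIso_comp_right (EtBC.bcQ g f' h e w q A) θX

section Descent

variable [QuasiCompact g] [QuasiSeparated g] [Surjective π] (c : IsPullback e h g f') (n : ℕ) {k : ℕ}
  (hk : ∀ G : EtCoh.Ab T, EtCoh.KilledBy n G → IsIso (EtBC.bcQ g f' h e w k G)) (F : EtCoh.Ab T)
  (hF : EtCoh.KilledBy n F)

include c c' hk hF in
/-- Base change in the next degree descends along integral surjective morphisms. -/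
theorem isIso_bcQ_of_surjective
    (hiso : IsIso (EtBC.bcQ (π ≫ g) f' (π' ≫ h) e' w'' (k + 1) ((EtCoh.pull π).obj F))) :
    IsIso (EtBC.bcQ g f' h e w (k + 1) F) := by
  haveI := HenselClosed.mono_unit π F
  have hA : EtCoh.KilledBy n ((EtCoh.push π).obj ((EtCoh.pull π).obj F)) := killedBy_of_nsmul (by
    rw [← CategoryTheory.Functor.map_id, ← CategoryTheory.Functor.map_id (EtCoh.pull π),
      ← Functor.map_nsmul, ← Functor.map_nsmul, nsmul_id_eq_zero hF, Functor.map_zero, Functor.map_zero])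
  haveI := isIso_bcQ_push f' g h e π π' e' c' w w'' (k + 1) ((EtCoh.pull π).obj F) hiso
  haveI : Mono (EtBC.bcQ g f' h e w (k + 1) F) := mono_bcQ f' g h e c n hk F hF
  obtain ⟨φ, _, hφ⟩ := exists_mono_coker f' g h e c n hk ((EtCoh.pullPushAdj π).unit.app F) hA
  haveI : Epi (EtBC.bcQ g f' h e w (k + 1) F) := Preadditive.epi_of_cokernel_zero (by
    rw [← cancel_mono φ, zero_comp]
    refine hφ.trans ?_
    haveI : Epi (EtBC.bcQ g f' h e c.w (k + 1) ((EtCoh.pull π ⋙ EtCoh.push π).obj F)) :=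
      show Epi (EtBC.bcQ g f' h e w (k + 1) ((EtCoh.push π).obj ((EtCoh.pull π).obj F))) from inferInstance
    rw [cokernel.π_of_epi, comp_zero])
  exact isIso_of_mono_of_epi _

end Descent

end Groth.L27.StalkBC
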