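import Groth.Agent.L27.StalkBC.BCBad
import Groth.Agent.L27.LimBC.StrictLocal

/-! # Staying outside the image of base change passes to limits -/

universe u

open CategoryTheory CategoryTheory.Limits AlgebraicGeometry Opposite

set_option backward.defeqAttrib.useBackward true
set_option backward.isDefEq.respectTransparency false
set_option backward.isDefEq.respectTransparency.types false
set_option linter.style.haveILetI false
set_option linter.unusedSectionVars false

noncomputable section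

namespace Groth.L27.StalkBC

open Groth.L27.LimCoh Groth.L27.LimBC

attribute [local instance] EtSite.preservesFiniteLimits_pull

theorem map_map_apply {C : Type*} [Category C] (Φ : C ⥤ AddCommGrpCat.{u + 1}) {A B D : C} (a : A ⟶ B)
    (b : B ⟶ D) (y : Φ.obj A) : Φ.map b (Φ.map a y) = Φ.map (a ≫ b) y := by
  rw [Functor.map_comp, ConcreteCategory.comp_apply]

section Colim

variable {I : Type u} [SmallCategory I] [IsCofiltered I] {X : Scheme.{u}} (Φ : EtCoh.Ab X ⥤ AddCommGrpCat.{u + 1})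
  [PreservesColimitsOfShape Iᵒᵖ Φ] (S : Sys (constD I X)) (L : Cocn S (constC I X)) [IsIso (toLim L)]
  (l : ∀ i, S.F i ⟶ L.M) (hl : ∀ i, l i ≫ pushUnit₀ (𝟙 X) rfl L.M = L.a i)

/-- The comparison with the plain members of a system on a constant diagram. -/
def τ (i : I) : (EtCoh.pull (𝟙 X)).obj (S.F i) ⟶ S.F i :=
  ((EtCoh.pullPushAdj (𝟙 X)).homEquiv _ _).symm (pushUnit₀ (𝟙 X) rfl (S.F i))

include hl in
theorem τ_leg (i : I) : τ S i ≫ l i = L.cocone.ι.app (op i) := by
  refine ((EtCoh.pullPushAdj (𝟙 X)).homEquiv _ _).injective ?_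
  refine ((EtCoh.pullPushAdj (𝟙 X)).homEquiv_naturality_right _ _).trans ?_
  refine Eq.trans ?_ (Equiv.apply_symm_apply _ (L.a i)).symm
  refine (congrArg (· ≫ _) (Equiv.apply_symm_apply _ _)).trans ?_
  exact (pushUnit₀_naturality _ _ _).trans (hl i)

theorem τ_map {i j : I} (g : j ⟶ i) (φ : S.F i ⟶ S.F j) (hφ : φ ≫ pushUnit₀ (𝟙 X) rfl (S.F j) = S.ψ g) :
    τ S i ≫ φ = (diag (constC I X) S).map g.op ≫ τ S j := by
  refine ((EtCoh.pullPushAdj (𝟙 X)).homEquiv _ _).injective ?_
  refine ((EtCoh.pullPushAdj (𝟙 X)).homEquiv_naturality_right _ _).trans ?_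
  refine (congrArg (· ≫ _) (Equiv.apply_symm_apply _ _)).trans ?_
  refine Eq.trans ?_ (homEquiv_pullMap_comp (constC I X) S g (τ S j)).symm
  refine ((pushUnit₀_naturality _ _ _).trans hφ).trans ?_
  refine Eq.trans ?_ (congrArg (fun z => S.ψ g ≫ (EtCoh.push ((constD I X).map g)).map z ≫ _)
    (Equiv.apply_symm_apply _ _)).symm
  exact ((congrArg (S.ψ g ≫ ·) (pushUnit₀_pushJoin_right (𝟙 X) rfl (𝟙 X) (Category.id_comp _) (S.F j))).trans
    (Category.comp_id _)).symm

include hl in
theorem exists_rep (y : Φ.obj L.M) : ∃ (i : I) (yi : Φ.obj (S.F i)), Φ.map (l i) yi = y := by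
  haveI : IsIso ((colimit.isColimit (diag (constC I X) S)).desc L.cocone) := inferInstanceAs (IsIso (toLim L))
  let ht := isColimitOfPreserves Φ (IsColimit.ofPointIso (colimit.isColimit (diag (constC I X) S)) (t := L.cocone))
  obtain ⟨⟨i⟩, z, hz⟩ := Concrete.isColimit_exists_rep _ ht y
  refine ⟨i, Φ.map (τ S i) z, ?_⟩
  rw [← ConcreteCategory.comp_apply, ← Functor.map_comp, τ_leg S L l hl i]
  exact hz

include hl in
theorem exists_eq_zero {i : I} (yi : Φ.obj (S.F i)) (h : Φ.map (l i) yi = 0) :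
    ∃ (j : I) (g : j ⟶ i), ∀ φ : S.F i ⟶ S.F j, φ ≫ pushUnit₀ (𝟙 X) rfl (S.F j) = S.ψ g → Φ.map φ yi = 0 := by
  haveI : IsIso ((colimit.isColimit (diag (constC I X) S)).desc L.cocone) := inferInstanceAs (IsIso (toLim L))
  let ht := isColimitOfPreserves Φ (IsColimit.ofPointIso (colimit.isColimit (diag (constC I X) S)) (t := L.cocone))
  haveI : IsIso (τ S i) := isIso_transpose_pushUnit₀ (S.F i)
  let z := Φ.map (inv (τ S i)) yi
  have hz : (Φ.mapCocone L.cocone).ι.app (op i) z = (Φ.mapCocone L.cocone).ι.app (op i) 0 := by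
    rw [map_zero]
    show Φ.map (L.cocone.ι.app (op i)) z = 0
    rw [← τ_leg S L l hl i]
    show Φ.map (τ S i ≫ l i) (Φ.map (inv (τ S i)) yi) = 0
    rw [← ConcreteCategory.comp_apply, ← Functor.map_comp, IsIso.inv_hom_id_assoc]
    exact h
  obtain ⟨⟨j⟩, g, g', hg⟩ := (Concrete.isColimit_rep_eq_iff_exists _ ht z 0).1 hz
  refine ⟨j, g.unop, fun φ hφ => ?_⟩
  rw [map_zero] at hg
  have e : yi = Φ.map (τ S i) z := by
    show yi = Φ.map (τ S i) (Φ.map (inv (τ S i)) yi)
    rw [← ConcreteCategory.comp_apply, ← Functor.map_comp, IsIso.inv_hom_id, CategoryTheory.Functor.map_id]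
    rfl
  rw [e, ← ConcreteCategory.comp_apply, ← Functor.map_comp, τ_map S g.unop φ hφ, Functor.map_comp,
    ConcreteCategory.comp_apply]
  exact (congrArg _ hg).trans (map_zero _)

end Colim

variable {X S T : Scheme.{u}} (f : X ⟶ S) [IsAffine S] [CompactSpace X] [QuasiSeparatedSpace X]
  {Ω : Type u} [Field Ω] [IsSepClosed Ω] (ξ : Spec (CommRingCat.of Ω) ⟶ X) (k : ℕ) (g : T ⟶ S)
  (F : EtCoh.Ab T)
  (z : (EtCoh.stalk ξ).obj ((EtCoh.Rpush (pullback.snd g f) (k + 1)).obj ((EtCoh.pull (pullback.fst g f)).obj F)))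
  {I : Type u} [SmallCategory I] [IsCofiltered I] (D : I ⥤ Over T)

/-- The diagram of fibre products. -/
abbrev fibD : I ⥤ Scheme.{u} := D ⋙ Over.map g ⋙ Over.pullback f ⋙ Over.forget X

theorem bad_limit (c : Cone D) (hc : IsLimit c) (haff : ∀ (i j : I) (m : i ⟶ j), IsAffineHom (D.map m).left)
    (hqc : ∀ i, CompactSpace (D.obj i).left ∧ QuasiSeparatedSpace (D.obj i).left)
    (hbad : ∀ i, Bad f ξ k g F z (D.obj i).hom) : Bad f ξ k g F z c.pt.hom := by
  haveI : IsConnected I := IsCofiltered.isConnected I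
  let TD := D ⋙ Over.forget T
  let YD := fibD f g D
  let cT : Cone TD := (Over.forget T).mapCone c
  let cY : Cone YD := (Over.map g ⋙ Over.pullback f ⋙ Over.forget X).mapCone c
  have hT : IsLimit cT := isLimitOfPreserves _ hc
  have hY : IsLimit cY :=
    haveI : PreservesLimitsOfShape I (Over.map g ⋙ Over.forget S) :=
      preservesLimitsOfShape_of_natIso (F := Over.forget T) (NatIso.ofComponents fun _ => Iso.refl _)
    haveI : PreservesLimitsOfShape I (Over.map g) :=
      preservesLimitsOfShape_of_reflects_of_preserves (Over.map g) (Over.forget S)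
    isLimitOfPreserves _ hc
  let aN : TD ⟶ constD I T := { app := fun i => (D.obj i).hom
                                naturality := fun i j m => (Over.w (D.map m)).trans (Category.comp_id _).symm }
  let gN : TD ⟶ constD I S := { app := fun i => (D.obj i).hom ≫ g
                                naturality := fun i j m => (over_w g _ _ _ (Over.w (D.map m))).trans
                                  (Category.comp_id _).symm }
  let hN : YD ⟶ constD I X := { app := fun i => pullback.snd ((D.obj i).hom ≫ g) f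
                                naturality := fun i j m => (pullback.lift_snd _ _ _).trans (Category.comp_id _).symm }
  let eN : YD ⟶ TD := { app := fun i => pullback.fst ((D.obj i).hom ≫ g) f
                        naturality := fun i j m => pullback.lift_fst _ _ _ }
  let fN : constD I X ⟶ constD I S := (Functor.const I).map f
  haveI : ∀ i, IsAffine ((constD I S).obj i) := fun _ => inferInstanceAs (IsAffine S)
  haveI : ∀ i, CompactSpace ((constD I X).obj i) := fun _ => inferInstanceAs (CompactSpace X)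
  haveI : ∀ i, QuasiSeparatedSpace ((constD I X).obj i) := fun _ => inferInstanceAs (QuasiSeparatedSpace X)
  haveI : ∀ i, CompactSpace ((constD I S).obj i) := fun _ => inferInstanceAs (CompactSpace S)
  haveI : ∀ i, QuasiSeparatedSpace ((constD I S).obj i) := fun _ => inferInstanceAs (QuasiSeparatedSpace S)
  haveI : ∀ i, CompactSpace (D.obj i).left := fun i => (hqc i).1
  haveI : ∀ i, QuasiSeparatedSpace (D.obj i).left := fun i => (hqc i).2
  haveI : ∀ i, CompactSpace (TD.obj i) := fun i => (hqc i).1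
  haveI : ∀ i, QuasiSeparatedSpace (TD.obj i) := fun i => (hqc i).2
  haveI : ∀ i, QuasiCompact (gN.app i) := fun i => quasiCompact_of_compact _
  haveI : ∀ i, QuasiSeparated (gN.app i) := fun i => quasiSeparated_of_qs _
  haveI : ∀ i, QuasiCompact (hN.app i) := fun i =>
    MorphismProperty.of_isPullback (P := @QuasiCompact) (IsPullback.of_hasPullback ((D.obj i).hom ≫ g) f)
      (quasiCompact_of_compact _)
  haveI : ∀ i, QuasiSeparated (hN.app i) := fun i =>
    MorphismProperty.of_isPullback (P := @QuasiSeparated) (IsPullback.of_hasPullback ((D.obj i).hom ≫ g) f)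
      (quasiSeparated_of_qs _)
  haveI : ∀ i, CompactSpace (YD.obj i) := fun i => QuasiCompact.compactSpace_of_compactSpace (hN.app i)
  haveI : ∀ i, QuasiSeparatedSpace (YD.obj i) := fun i => quasiSeparatedSpace_of_quasiSeparated (hN.app i)
  haveI hTaff : ∀ (j k : I) (m : j ⟶ k), IsAffineHom (TD.map m) := haff
  haveI : ∀ (j k : I) (m : j ⟶ k), IsAffineHom (YD.map m) := fun a b m =>
    MorphismProperty.of_isPullback (P := @IsAffineHom)
      (IsPullback.of_bot (h₂₁ := pullback.fst ((D.obj b).hom ≫ g) f) (by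
        show IsPullback (pullback.fst ((D.obj a).hom ≫ g) f) (YD.map m ≫ pullback.snd _ f)
          ((D.map m).left ≫ (D.obj b).hom ≫ g) f
        rw [over_w g _ _ _ (Over.w (D.map m))]
        have es : YD.map m ≫ pullback.snd ((D.obj b).hom ≫ g) f = pullback.snd ((D.obj a).hom ≫ g) f :=
          pullback.lift_snd _ _ _
        exact Eq.mpr (congrArg (fun z => IsPullback _ z _ f) es) (IsPullback.of_hasPullback ((D.obj a).hom ≫ g) f)) (eN.naturality m).symm (IsPullback.of_hasPullback ((D.obj b).hom ≫ g) f))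
      (haff _ _ m)
  haveI : ∀ (j k : I) (m : j ⟶ k), IsAffineHom ((constD I X).map m) := fun _ _ _ => inferInstanceAs (IsAffineHom (𝟙 X))
  haveI : ∀ (j k : I) (m : j ⟶ k), IsAffineHom ((constD I S).map m) := fun _ _ _ => inferInstanceAs (IsAffineHom (𝟙 S))
  haveI : ∀ {i j : I} (m : i ⟶ j), IsAffineHom (TD.map m) := fun {i j} m => hTaff i j m
  haveI : CompactSpace cT.pt := Scheme.compactSpace_of_isLimit _ cT hT
  haveI : QuasiSeparatedSpace cT.pt := by
    obtain ⟨i⟩ := IsCofiltered.nonempty (C := I)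
    haveI := isAffineHom_π_app TD cT hT i
    exact quasiSeparatedSpace_of_quasiSeparated (cT.π.app i)
  haveI : QuasiCompact (c.pt.hom ≫ g) := quasiCompact_of_compact (T' := cT.pt) _
  haveI : QuasiSeparated (c.pt.hom ≫ g) := quasiSeparated_of_qs (T' := cT.pt) _
  haveI : QuasiCompact (pullback.snd (c.pt.hom ≫ g) f) :=
    MorphismProperty.of_isPullback (P := @QuasiCompact) (IsPullback.of_hasPullback _ _) inferInstance
  haveI : QuasiSeparated (pullback.snd (c.pt.hom ≫ g) f) :=
    MorphismProperty.of_isPullback (P := @QuasiSeparated) (IsPullback.of_hasPullback _ _) inferInstance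
  have ha : ∀ i, c.pt.hom ≫ (constC I T).π.app i = cT.π.app i ≫ aN.app i := fun i =>
    (Category.comp_id _).trans (Over.w (c.π.app i)).symm
  have hg : ∀ i, cT.π.app i ≫ gN.app i = (c.pt.hom ≫ g) ≫ (constC I S).π.app i := fun i =>
    (over_w g _ _ _ (Over.w (c.π.app i))).trans (Category.comp_id _).symm
  have hh : ∀ i, cY.π.app i ≫ hN.app i = pullback.snd (c.pt.hom ≫ g) f ≫ (constC I X).π.app i := fun i =>
    (pullback.lift_snd _ _ _).trans (Category.comp_id _).symm
  have he : ∀ i, pullback.fst (c.pt.hom ≫ g) f ≫ cT.π.app i = cY.π.app i ≫ eN.app i := fun i =>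
    (pullback.lift_fst _ _ _).symm
  have hf : ∀ i, f ≫ (constC I S).π.app i = (constC I X).π.app i ≫ fN.app i := fun i =>
    (Category.comp_id _).trans (Category.id_comp _).symm
  let P := pullNat aN (constSys I F)
  let L := pullCocn aN (c := constC I T) (e := cT) c.pt.hom ha (constCocn I F)
  haveI : IsIso (toLim L) :=
    haveI := isIso_toLim_constCocn I F
    isIso_toLim_pullCocn aN (c := constC I T) (e := cT) c.pt.hom ha (constCocn I F)
  have hL : L.IsLim := isLim_of_isIso_toLim hT L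
  let L₀ := rCocn gN (k + 1) (c := cT) (c' := constC I S) (c.pt.hom ≫ g) hg L
  let L₁ := pullCocn fN (c := constC I S) (e := constC I X) f hf L₀
  let L₂ := rCocn hN (k + 1) (c := cY) (c' := constC I X) (pullback.snd (c.pt.hom ≫ g) f) hh
    (pullCocn eN (c := cT) (e := cY) (pullback.fst (c.pt.hom ≫ g) f) he L)
  haveI : IsIso (toLim L₀) := isIso_toLim_rCocn gN (k + 1) _ hg hT (isLimitConstC I S) L hL
  haveI : IsIso (toLim L₁) := isIso_toLim_pullCocn fN (c := constC I S) (e := constC I X) f hf L₀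
  haveI := isIso_toLim_pullCocn eN (c := cT) (e := cY) (pullback.fst (c.pt.hom ≫ g) f) he L
  haveI : IsIso (toLim L₂) :=
    isIso_toLim_rCocn hN (k + 1) _ hh hY (isLimitConstC I X) _ (isLim_of_isIso_toLim hY _)
  let w i : (c.π.app i).left ≫ (D.obj i).hom = c.pt.hom := Over.w (c.π.app i)
  let l₂ (i : I) := Mtr f k g (D.obj i).hom c.pt.hom (c.π.app i).left (w i)
    (trans (D.obj i).hom c.pt.hom (c.π.app i).left (w i) F)
  let r (i : I) := Rmap ((D.obj i).hom ≫ g) (c.pt.hom ≫ g) (c.π.app i).left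
    (over_w g (D.obj i).hom c.pt.hom (c.π.app i).left (w i)) (k + 1)
    (trans (D.obj i).hom c.pt.hom (c.π.app i).left (w i) F)
  have hl₂ : ∀ i, l₂ i ≫ pushUnit₀ (𝟙 X) rfl L₂.M = L₂.a i := fun i => Rmap_unit₀ _ _ _ _ _ _
  have hl₁ : ∀ i, (EtCoh.pull f).map (r i) ≫ pushUnit₀ (𝟙 X) rfl L₁.M = L₁.a i := fun i => by
    refine Eq.trans ?_ (congrArg (pullHat f f (𝟙 X) (𝟙 S) (hf i)) (Rmap_unit₀ _ _ _ (over_w g _ _ _ (w i)) _ _))
    exact ((pullHat_pre f f (𝟙 S) (𝟙 X) (hf i) (r i) _).trans
      (congrArg (_ ≫ ·) (pullHat_unit₀ f (𝟙 X) (𝟙 S) rfl rfl (hf i) _))).symm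
  intro hz
  obtain ⟨y, hy⟩ := hz
  obtain ⟨i, yi, hyi⟩ := exists_rep (EtCoh.stalk ξ) (pullNat fN (rSys gN (k + 1) P)) L₁
    (fun i => (EtCoh.pull f).map (r i)) hl₁ y
  let bc (i : I) := EtBC.bcQ ((D.obj i).hom ≫ g) f (pullback.snd ((D.obj i).hom ≫ g) f)
    (pullback.fst ((D.obj i).hom ≫ g) f) pullback.condition (k + 1) ((EtCoh.pull (D.obj i).hom).obj F)
  let v := at' f ξ k g F z (D.obj i).hom - (EtCoh.stalk ξ).map (bc i) yi
  have hv : (EtCoh.stalk ξ).map (l₂ i) v = 0 := by
    simp only [v]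
    rw [map_sub, sub_eq_zero, at'_trans, ← ConcreteCategory.comp_apply, ← Functor.map_comp]
    refine hy.symm.trans ((congrArg _ hyi.symm).trans ?_)
    refine (map_map_apply (EtCoh.stalk ξ) _ _ _).trans ?_
    exact congrArg (fun m => (EtCoh.stalk ξ).map m yi) (bcQ_Mmap f ((D.obj i).hom ≫ g) _ _ pullback.condition
      (c.pt.hom ≫ g) _ _ pullback.condition (c.π.app i).left _ (over_w g _ _ _ (w i)) (pbMap_snd _ _ _ _ _)
      (pbMap_fst _ _ _ _ _) (k + 1) _).symm
  obtain ⟨j, m, hm⟩ := exists_eq_zero (EtCoh.stalk ξ) (rSys hN (k + 1) (pullNat eN P)) L₂ l₂ hl₂ v hv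
  let tr := trans (D.obj i).hom (D.obj j).hom (D.map m).left (Over.w (D.map m)) F
  have h0 := hm (Mtr f k g (D.obj i).hom (D.obj j).hom (D.map m).left (Over.w (D.map m)) tr) (Rmap_unit₀ _ _ _ _ _ _)
  refine hbad j ?_
  have h1 : (EtCoh.stalk ξ).map (Mtr f k g (D.obj i).hom (D.obj j).hom (D.map m).left (Over.w (D.map m)) tr)
      (at' f ξ k g F z (D.obj i).hom) = at' f ξ k g F z (D.obj j).hom :=
    at'_trans f ξ k g F z (D.obj i).hom (D.obj j).hom (D.map m).left (Over.w (D.map m))
  have h2 := h1.symm.trans (sub_eq_zero.1 ((map_sub _ _ _).symm.trans h0))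
  rw [h2]
  exact Mmap_mem_rng f ξ (k := k) ((D.obj i).hom ≫ g) _ _ (IsPullback.of_hasPullback _ _) ((D.obj j).hom ≫ g) _ _
    (IsPullback.of_hasPullback _ _) (D.map m).left _ (over_w g _ _ _ (Over.w (D.map m))) _ _ _ _ ⟨yi, rfl⟩

end Groth.L27.StalkBC
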