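import Groth.Agent.L27.StalkBC.BCStep

/-! # Monomorphy of the base change map in one degree from the degrees below -/

universe u

open CategoryTheory CategoryTheory.Limits AlgebraicGeometry Opposite

set_option backward.isDefEq.respectTransparency.types false
set_option linter.style.haveILetI false
set_option linter.unusedSectionVars false

noncomputable section

namespace Groth.L27.StalkBC

open Groth.L27.LimCoh Groth.L27.LimBC

variable {X S Y T : Scheme.{u}} (f : X ⟶ S) (g : T ⟶ S) [QuasiCompact g] [QuasiSeparated g] (h : Y ⟶ X)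
  (e : Y ⟶ T) (c : IsPullback e h g f) [PreservesFiniteLimits (EtCoh.pull e)] (n : ℕ) {k : ℕ}
  (hk : ∀ G : EtCoh.Ab T, EtCoh.KilledBy n G → IsIso (EtBC.bcQ g f h e c.w k G))

/-- A sheaf killed by `n` embeds into an acyclic one killed by `n`. -/
theorem exists_acyclic_embedding (G : EtCoh.Ab T) (hG : EtCoh.KilledBy n G) :
    ∃ (J : EtCoh.Ab T) (ψ : G ⟶ J), Mono ψ ∧ EtCoh.KilledBy n J ∧ ∀ q, IsZero ((EtCoh.Rpush g (q + 1)).obj J) := by
  let J₀ := Injective.under G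
  have h0 : Injective.ι G ≫ (n • 𝟙 J₀) = 0 := by
    rw [Preadditive.comp_nsmul, Category.comp_id, ← Category.id_comp (Injective.ι G), ← Preadditive.nsmul_comp,
      nsmul_id_eq_zero hG, zero_comp]
  exact ⟨kernel (n • 𝟙 J₀), kernel.lift _ _ h0, mono_of_mono_fac (kernel.lift_ι _ _ h0), killedBy_kernel J₀,
    isZero_Rpush_kernel g J₀⟩

include hk in
theorem step_killed {F J : EtCoh.Ab T} (ι : F ⟶ J) [Mono ι] (hJ : EtCoh.KilledBy n J)
    (hz : IsZero ((EtCoh.Rpush g (k + 1)).obj J)) :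
    Mono (EtBC.bcQ g f h e c.w (k + 1) F) ∧
      ∃ w : EtBC.bcQ g f h e c.w (k + 1) F ≫ (EtCoh.Rpush h (k + 1)).map ((EtCoh.pull e).map ι) = 0,
        Mono (cokernel.desc (EtBC.bcQ g f h e c.w (k + 1) F) _ w) := by
  let E : ShortComplex (EtCoh.Ab T) := ShortComplex.mk ι (cokernel.π ι) (cokernel.condition ι)
  have hE : E.ShortExact := { exact := ShortComplex.exact_of_g_is_cokernel _ (cokernelIsCokernel _) }
  have hC : EtCoh.KilledBy n (cokernel ι) := killedBy_of_epi (cokernel.π ι) hJ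
  obtain ⟨h₁, h₂⟩ := step f g h e c (E := E) hE (hk J hJ) (hk (cokernel ι) hC) hz
  exact ⟨h₁, bcQ_comp_zero f g h e c (E := E) hz, h₂⟩

include hk in
theorem mono_bcQ (F : EtCoh.Ab T) (hF : EtCoh.KilledBy n F) : Mono (EtBC.bcQ g f h e c.w (k + 1) F) := by
  obtain ⟨J, ψ, _, hJ, hz⟩ := exists_acyclic_embedding g n F hF
  exact (step_killed f g h e c n hk ψ hJ (hz k)).1

include hk in
theorem exists_mono_coker {F G : EtCoh.Ab T} (ι : F ⟶ G) [Mono ι] (hG : EtCoh.KilledBy n G) :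
    ∃ φ : cokernel (EtBC.bcQ g f h e c.w (k + 1) F) ⟶ cokernel (EtBC.bcQ g f h e c.w (k + 1) G), Mono φ ∧
      cokernel.π (EtBC.bcQ g f h e c.w (k + 1) F) ≫ φ =
        (EtCoh.Rpush h (k + 1)).map ((EtCoh.pull e).map ι) ≫ cokernel.π (EtBC.bcQ g f h e c.w (k + 1) G) := by
  obtain ⟨J, ψ, _, hJ, hz⟩ := exists_acyclic_embedding g n G hG
  obtain ⟨-, wF, hF'⟩ := step_killed f g h e c n hk (ι ≫ ψ) hJ (hz k)
  obtain ⟨-, wG, -⟩ := step_killed f g h e c n hk ψ hJ (hz k)
  let φ := cokernel.map (EtBC.bcQ g f h e c.w (k + 1) F) (EtBC.bcQ g f h e c.w (k + 1) G)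
    ((EtCoh.pull f).map ((EtCoh.Rpush g (k + 1)).map ι)) ((EtCoh.Rpush h (k + 1)).map ((EtCoh.pull e).map ι))
    (bcQ_naturality g f h e c.w (k + 1) ι)
  refine ⟨φ, ?_, cokernel.π_desc _ _ _⟩
  have e₁ : φ ≫ cokernel.desc _ _ wG = cokernel.desc _ _ wF := by
    rw [← cancel_epi (cokernel.π _), cokernel.π_desc, cokernel.π_desc_assoc, Category.assoc, cokernel.π_desc,
      ← Functor.map_comp, ← Functor.map_comp]
  haveI : Mono (φ ≫ cokernel.desc _ _ wG) := e₁ ▸ hF'
  exact mono_of_mono φ (cokernel.desc _ _ wG)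

end Groth.L27.StalkBC
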