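import Groth.Agent.L27.StalkBC.BCBase
import Groth.Agent.L27.StalkBC.EdgeMono
import Groth.Agent.L27.CompTransfer.Transfer

/-! # Transition maps between base change maps over one base -/

universe u

open CategoryTheory CategoryTheory.Limits AlgebraicGeometry Opposite

set_option backward.defeqAttrib.useBackward true
set_option backward.isDefEq.respectTransparency false
set_option backward.isDefEq.respectTransparency.types false
set_option linter.style.haveILetI false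
set_option linter.unusedSectionVars false

noncomputable section

namespace Groth.L27.StalkBC

open Groth.L27.LimCoh Groth.L27.LimBC Groth.L10.EtBCComp

attribute [local instance] preservesInjectiveObjects_push

section R

variable {T T' T'' S : Scheme.{u}} (g : T ⟶ S) (g' : T' ⟶ S) (g'' : T'' ⟶ S) (s : T' ⟶ T) (w : s ≫ g = g')
  (t : T'' ⟶ T') (w' : t ≫ g' = g'') (q : ℕ)

include w in
theorem idw : s ≫ g = g' ≫ 𝟙 S := w.trans (Category.comp_id _).symm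

/-- The map of higher direct images along a morphism over the base. -/
def Rmap {A : EtCoh.Ab T} {B : EtCoh.Ab T'} (a : A ⟶ (EtCoh.push s).obj B) :
    (EtCoh.Rpush g q).obj A ⟶ (EtCoh.Rpush g' q).obj B :=
  Θ g (𝟙 S) g' s (idw g g' s w) q a ≫
    @inv _ _ _ _ (pushUnit₀ (𝟙 S) rfl ((EtCoh.Rpush g' q).obj B)) (isIso_pushUnit₀ _)

theorem Rmap_unit₀ {A : EtCoh.Ab T} {B : EtCoh.Ab T'} (a : A ⟶ (EtCoh.push s).obj B) :
    Rmap g g' s w q a ≫ pushUnit₀ (𝟙 S) rfl _ = Θ g (𝟙 S) g' s (idw g g' s w) q a := by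
  haveI := isIso_pushUnit₀ ((EtCoh.Rpush g' q).obj B)
  rw [Rmap, Category.assoc, IsIso.inv_hom_id, Category.comp_id]

theorem Rmap_pre {A A' : EtCoh.Ab T} {B : EtCoh.Ab T'} (φ : A' ⟶ A) (a : A ⟶ (EtCoh.push s).obj B) :
    Rmap g g' s w q (φ ≫ a) = (EtCoh.Rpush g q).map φ ≫ Rmap g g' s w q a := by
  haveI := isIso_pushUnit₀ ((EtCoh.Rpush g' q).obj B)
  rw [← cancel_mono (pushUnit₀ (𝟙 S) rfl ((EtCoh.Rpush g' q).obj B)), Rmap_unit₀, Category.assoc, Rmap_unit₀,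
    Θ_pre]

theorem Rmap_post {A : EtCoh.Ab T} {B B' : EtCoh.Ab T'} (a : A ⟶ (EtCoh.push s).obj B) (φ : B ⟶ B') :
    Rmap g g' s w q (a ≫ (EtCoh.push s).map φ) = Rmap g g' s w q a ≫ (EtCoh.Rpush g' q).map φ := by
  haveI := isIso_pushUnit₀ ((EtCoh.Rpush g' q).obj B')
  rw [← cancel_mono (pushUnit₀ (𝟙 S) rfl ((EtCoh.Rpush g' q).obj B')), Rmap_unit₀, Θ_post, ← Rmap_unit₀,
    Category.assoc, Category.assoc, pushUnit₀_naturality]

theorem Rmap_comp {A : EtCoh.Ab T} {B : EtCoh.Ab T'} {C : EtCoh.Ab T''} (a : A ⟶ (EtCoh.push s).obj B)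
    (b : B ⟶ (EtCoh.push t).obj C) {u : T'' ⟶ T} (hu : t ≫ s = u) (wu : u ≫ g = g'') :
    Rmap g g' s w q a ≫ Rmap g' g'' t w' q b = Rmap g g'' u wu q (cmp t s hu a b) := by
  haveI := isIso_pushUnit₀ ((EtCoh.Rpush g'' q).obj C)
  rw [← cancel_mono (pushUnit₀ (𝟙 S) rfl ((EtCoh.Rpush g'' q).obj C)), Rmap_unit₀, Category.assoc]
  refine Eq.trans ?_ (Θ_comp g g' g'' (idw g g' s w) (idw g' g'' t w') (idw g g'' u wu) (Category.id_comp (𝟙 S))
    hu q a b)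
  rw [← Rmap_unit₀ g g' s w q a, ← Rmap_unit₀ g' g'' t w' q b, Functor.map_comp]
  simp only [Category.assoc]
  rw [pushUnit₀_pushJoin_right, Category.comp_id, pushUnit₀_naturality]

theorem mono_Rmap_id {k : ℕ} (B : EtCoh.Ab T') (h : ∀ b, 1 ≤ b → b ≤ k → IsZero ((EtCoh.Rpush s b).obj B)) :
    Mono (Rmap g g' s w (k + 1) (𝟙 ((EtCoh.push s).obj B))) := by
  haveI : Mono (RDer.edgeIn (EtCoh.push s) (EtCoh.push g) (k + 1) B) := mono_edgeIn (EtCoh.push s) (EtCoh.push g) k B h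
  haveI : PreservesFiniteColimits (EtCoh.push (𝟙 S)) := preservesFiniteColimits_of_natIso (pushId (T := S))
  haveI := L10.EtLocalBC.isIso_homologyComparison (EtCoh.push (𝟙 S))
    (((EtCoh.push g').mapHomologicalComplex _).obj (injectiveResolution B).cocomplex) (k + 1)
  haveI := isIso_pushUnit₀ ((EtCoh.Rpush g' (k + 1)).obj B)
  unfold Rmap Θ sqMap RDer.edgeOut
  exact mono_comp' (mono_comp' inferInstance (mono_comp' ‹_› inferInstance)) inferInstance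

end R

variable {X S T T' T'' Y Y' Y'' : Scheme.{u}} (f : X ⟶ S) (g : T ⟶ S) (h : Y ⟶ X) (e : Y ⟶ T) (w : e ≫ g = h ≫ f)
  (g' : T' ⟶ S) (h' : Y' ⟶ X) (e' : Y' ⟶ T') (w' : e' ≫ g' = h' ≫ f)
  (g'' : T'' ⟶ S) (h'' : Y'' ⟶ X) (e'' : Y'' ⟶ T'') (w'' : e'' ≫ g'' = h'' ≫ f)
  (s : T' ⟶ T) (s' : Y' ⟶ Y) (ws : s ≫ g = g') (ws' : s' ≫ h = h') (cs : e' ≫ s = s' ≫ e)
  (t : T'' ⟶ T') (t' : Y'' ⟶ Y') (wt : t ≫ g' = g'') (wt' : t' ≫ h' = h'') (ct : e'' ≫ t = t' ≫ e')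
  [PreservesFiniteLimits (EtCoh.pull e)] [PreservesFiniteLimits (EtCoh.pull e')]
  [PreservesFiniteLimits (EtCoh.pull e'')] (q : ℕ)

/-- The map of higher direct images upstairs along a morphism over the base. -/
def Mmap {A : EtCoh.Ab T} {B : EtCoh.Ab T'} (a : A ⟶ (EtCoh.push s).obj B) :
    (EtCoh.Rpush h q).obj ((EtCoh.pull e).obj A) ⟶ (EtCoh.Rpush h' q).obj ((EtCoh.pull e').obj B) :=
  Rmap h h' s' ws' q (pullHat e e' s' s cs a)

include w w' ws in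
theorem bcQ_Mmap {A : EtCoh.Ab T} {B : EtCoh.Ab T'} (a : A ⟶ (EtCoh.push s).obj B) :
    EtBC.bcQ g f h e w q A ≫ Mmap h e h' e' s s' ws' cs q a =
      (EtCoh.pull f).map (Rmap g g' s ws q a) ≫ EtBC.bcQ g' f h' e' w' q B := by
  have w₃ : (s' ≫ e) ≫ g = h' ≫ f := by rw [Category.assoc, w, ← Category.assoc, ws']
  refine ((EtCoh.pullPushAdj f).homEquiv _ _).injective ?_
  rw [Adjunction.homEquiv_naturality_right, Adjunction.homEquiv_naturality_left, EtBC.bcQ, EtBC.bcQ,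
    Equiv.apply_symm_apply, Equiv.apply_symm_apply, bcQAdj_eq_Θ, bcQAdj_eq_Θ]
  have h₁ := Θ_comp g h h' w (idw h h' s' ws') w₃ (Category.id_comp f) rfl q (un e A) (pullHat e e' s' s cs a)
  have h₂ := Θ_comp g g' h' (idw g g' s ws) w' w₃ (Category.comp_id f) cs q a (un e' B)
  have ha : cmp s' e rfl (un e A) (pullHat e e' s' s cs a) = cmp e' s cs a (un e' B) :=
    cmp_pullHat e e' s' s cs a rfl cs
  have h₃ := h₁.trans ((congrArg (Θ g f h' (s' ≫ e) w₃ q) ha).trans h₂.symm)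
  rw [← Rmap_unit₀, Functor.map_comp, Category.assoc, pushUnit₀_pushJoin_right, Category.comp_id,
    ← Rmap_unit₀ g g' s ws q a, Category.assoc, ← Category.assoc (pushUnit₀ (𝟙 S) rfl _), pushUnit₀_naturality,
    Category.assoc, ← pushSplit_unit₀ f (𝟙 S) rfl (Category.comp_id f), pushSplit_pushJoin, Category.comp_id] at h₃
  exact h₃

theorem Mmap_comp {A : EtCoh.Ab T} {B : EtCoh.Ab T'} {C : EtCoh.Ab T''} (a : A ⟶ (EtCoh.push s).obj B)
    (b : B ⟶ (EtCoh.push t).obj C) {u : T'' ⟶ T} (hu : t ≫ s = u) {u' : Y'' ⟶ Y} (hu' : t' ≫ s' = u')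
    (wu' : u' ≫ h = h'') (cu : e'' ≫ u = u' ≫ e) :
    Mmap h e h' e' s s' ws' cs q a ≫ Mmap h' e' h'' e'' t t' wt' ct q b =
      Mmap h e h'' e'' u u' wu' cu q (cmp t s hu a b) := by
  rw [Mmap, Mmap, Mmap, pullHat_comp e e' s' s cs e'' hu' hu ct cu a b]
  exact Rmap_comp h h' h'' s' ws' t' wt' q _ _ hu' wu'

theorem pullHat_pre {A A' : EtCoh.Ab T} {B : EtCoh.Ab T'} (φ : A' ⟶ A) (a : A ⟶ (EtCoh.push s).obj B) :
    pullHat e e' s' s cs (φ ≫ a) = (EtCoh.pull e).map φ ≫ pullHat e e' s' s cs a := by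
  rw [pullHat, pullHat, ← cmp_pre, Category.assoc, Adjunction.homEquiv_naturality_left_symm]

theorem Mmap_pre {A A' : EtCoh.Ab T} {B : EtCoh.Ab T'} (φ : A' ⟶ A) (a : A ⟶ (EtCoh.push s).obj B) :
    Mmap h e h' e' s s' ws' cs q (φ ≫ a) =
      (EtCoh.Rpush h q).map ((EtCoh.pull e).map φ) ≫ Mmap h e h' e' s s' ws' cs q a := by
  rw [Mmap, Mmap, pullHat_pre, Rmap_pre]

theorem Mmap_post {A : EtCoh.Ab T} {B B' : EtCoh.Ab T'} (a : A ⟶ (EtCoh.push s).obj B) (φ : B ⟶ B') :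
    Mmap h e h' e' s s' ws' cs q (a ≫ (EtCoh.push s).map φ) =
      Mmap h e h' e' s s' ws' cs q a ≫ (EtCoh.Rpush h' q).map ((EtCoh.pull e').map φ) := by
  rw [Mmap, Mmap, pullHat_post, Rmap_post]

theorem pullHat_id (B : EtCoh.Ab T') :
    pullHat e e' s' s cs (𝟙 ((EtCoh.push s).obj B)) = EtCoh.baseChange0 s e s' e' cs B := by
  rw [pullHat, EtCoh.baseChange0]
  unfold LimBC.cmp
  rw [Category.id_comp, ← CompTransfer.pushJoin_congr e' s cs,
    ← pushCongr_pushComp_inv s' e rfl]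
  simp only [Category.assoc, Iso.app_hom, CompTransfer.pushCongr_rfl, Category.id_comp]

theorem mono_Mmap_id {k : ℕ} (B : EtCoh.Ab T') (hb : IsIso (EtBC.bcQ s e s' e' cs 0 B))
    (h₀ : ∀ b, 1 ≤ b → b ≤ k → IsZero ((EtCoh.Rpush s' b).obj ((EtCoh.pull e').obj B))) :
    Mono (Mmap h e h' e' s s' ws' cs (k + 1) (𝟙 ((EtCoh.push s).obj B))) := by
  haveI := CompTransfer.isIso_baseChange0_of_bcQ e s e' s' cs B
  rw [Mmap, pullHat_id, ← Category.comp_id (EtCoh.baseChange0 s e s' e' cs B), Rmap_pre]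
  haveI := mono_Rmap_id h h' s' ws' ((EtCoh.pull e').obj B) h₀
  infer_instance

end Groth.L27.StalkBC
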