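import Groth.Agent.L27.StalkBC.BCField
import Groth.Agent.L27.StalkBC.SepAcyclic
import Groth.Agent.L27.StalkBC.ConstReduce
import Mathlib.RingTheory.IntegralClosure.IntegrallyClosed
import Mathlib.FieldTheory.IsAlgClosed.AlgebraicClosure

/-! # Failure of base change is witnessed by constant sheaves over normal bases -/

universe u

open CategoryTheory CategoryTheory.Limits AlgebraicGeometry Opposite

set_option backward.defeqAttrib.useBackward true
set_option backward.isDefEq.respectTransparency false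
set_option backward.isDefEq.respectTransparency.types false
set_option linter.style.haveILetI false
set_option linter.unusedSectionVars false

noncomputable section

namespace Groth.L27.StalkBC

open Groth.L27.LimCoh Groth.L27.LimBC

attribute [local instance] EtSite.preservesFiniteLimits_pull

theorem nsmul_stalk_eq_zero {X : Scheme.{u}} {n : ℕ} {F : EtCoh.Ab X} (hF : EtCoh.KilledBy n F) {Ω : Type u}
    [Field Ω] [IsSepClosed Ω] (ξ : Spec (CommRingCat.of Ω) ⟶ X) (x : (EtCoh.stalk ξ).obj F) : n • x = 0 := by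
  haveI : PreservesBinaryBiproducts (EtCoh.stalk ξ) := preservesBinaryBiproducts_of_preservesBinaryProducts _
  haveI : (EtCoh.stalk ξ).Additive := Functor.additive_of_preservesBinaryBiproducts _
  have h := congrArg (EtCoh.stalk ξ).map (nsmul_id_eq_zero hF)
  rw [Functor.map_nsmul, CategoryTheory.Functor.map_id, Functor.map_zero] at h
  exact congr($h x)

/-- Higher direct images of inverse images of sheaves on separably closed points vanish if those of
cyclic constant sheaves do. -/
theorem isZero_Rpush_pull {n : ℕ} (hn : 0 < n) {q : ℕ} {X Y : Scheme.{u}} (K : Type u) [Field K] [IsSepClosed K]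
    (h : Y ⟶ X) [QuasiCompact h] [QuasiSeparated h] (e : Y ⟶ Spec (CommRingCat.of K))
    (F : EtCoh.Ab (Spec (CommRingCat.of K))) (hF : EtCoh.KilledBy n F)
    (hd : ∀ d : ℕ, d ∣ n → IsZero ((EtCoh.Rpush h q).obj (EtCoh.const Y (ZMod d)))) :
    IsZero ((EtCoh.Rpush h q).obj ((EtCoh.pull e).obj F)) := by
  haveI : IsSepClosed (IsLocalRing.ResidueField K) := AffineEfface.isSepClosed_residueField K
  let M : AddCommGrpCat.{u + 1} := (EtCoh.stalk (EtSite.closedPt K)).obj F
  have hM : ∀ x : M, n • x = 0 := nsmul_stalk_eq_zero hF _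
  obtain ⟨φ⟩ := AffineEfface.exists_iso_const K F M (Iso.refl _)
  let G := (EtCoh.pull e).obj (ConstSect.K M (Spec (CommRingCat.of K)))
  refine IsZero.of_iso ?_ ((EtCoh.Rpush h q).mapIso ((EtCoh.pull e).mapIso φ))
  have h0 : Mono (0 : (EtCoh.Rpush h q).obj G ⟶ (EtCoh.Rpush h q).obj G) := mono_of_pi _ fun x RX _ _ _ _ _ => by
    let ηX := Hens2.specOf X x RX
    have cn := IsPullback.of_hasPullback h ηX
    let n' := pullback.fst h ηX
    haveI : QuasiCompact (pullback.snd h ηX) := MorphismProperty.of_isPullback (P := @QuasiCompact) cn inferInstance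
    haveI : QuasiSeparated (pullback.snd h ηX) :=
      MorphismProperty.of_isPullback (P := @QuasiSeparated) cn inferInstance
    haveI : CompactSpace ↥(pullback h ηX) := QuasiCompact.compactSpace_of_compactSpace (pullback.snd h ηX)
    haveI : QuasiSeparatedSpace ↥(pullback h ηX) := quasiSeparatedSpace_of_quasiSeparated (pullback.snd h ηX)
    let Ψ := constantSheaf (Spec (CommRingCat.of K)).smallEtaleTopology AddCommGrpCat.{u + 1} ⋙ EtCoh.pull e ⋙
      EtCoh.pull n'
    haveI : PreservesColimitsOfSize.{u + 1, u + 1} Ψ := by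
      haveI := (EtCore.constAdj (Spec (CommRingCat.of K))).leftAdjoint_preservesColimits.{u + 1, u + 1}
      haveI := (EtCoh.pullPushAdj e).leftAdjoint_preservesColimits.{u + 1, u + 1}
      haveI := (EtCoh.pullPushAdj n').leftAdjoint_preservesColimits.{u + 1, u + 1}
      infer_instance
    haveI : (EtCore.gsec (Spec (CommRingCat.of K))).Additive := ⟨rfl⟩
    haveI : (constantSheaf (Spec (CommRingCat.of K)).smallEtaleTopology AddCommGrpCat.{u + 1}).Additive :=
      (EtCore.constAdj (Spec (CommRingCat.of K))).left_adjoint_additive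
    haveI : Ψ.Additive := inferInstanceAs ((constantSheaf (Spec (CommRingCat.of K)).smallEtaleTopology
      AddCommGrpCat.{u + 1} ⋙ EtCoh.pull e ⋙ EtCoh.pull n').Additive)
    have hsub : ∀ {A : EtCoh.Ab Y}, IsZero ((EtCoh.Rpush h q).obj A) →
        Subsingleton (EtCoh.H (pullback h ηX) ((EtCoh.pull n').obj A) q) := fun hA =>
      ⟨fun a b => (σ_bijective h x RX _ n' cn q _).1 (((EtCoh.pull ηX).map_isZero hA).eq_of_tgt _ _)⟩
    haveI := subsingleton_H_colimit (P := pullback h ηX) Ψ q
      (fun d hd' => hsub (A := (EtCoh.pull e).obj (EtCoh.const (Spec (CommRingCat.of K)) (ZMod d)))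
        (IsZero.of_iso (hd d hd') ((EtCoh.Rpush h q).mapIso (EtCore.pullConst e (ZMod d))))) hn M hM
    intro a b _
    obtain ⟨va, rfl⟩ := (σ_bijective h x RX _ n' cn q G).2 a
    obtain ⟨vb, rfl⟩ := (σ_bijective h x RX _ n' cn q G).2 b
    exact congrArg _ (Subsingleton.elim (α := EtCoh.H (pullback h ηX) (Ψ.obj M) q) va vb)
  rw [IsZero.iff_id_eq_zero]
  exact (cancel_mono (0 : (EtCoh.Rpush h q).obj G ⟶ (EtCoh.Rpush h q).obj G)).1 (comp_zero.trans comp_zero.symm)

/-- A morphism from an algebraically closed point to an affine scheme factors through an affine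
normal integral scheme with algebraically closed function field, integral over the base. -/
theorem exists_normal_factor {S : Scheme.{u}} [IsAffine S] (K : Type u) [Field K] [IsAlgClosed K]
    (g : Spec (CommRingCat.of K) ⟶ S) :
    ∃ (S' : Scheme.{u}) (π : S' ⟶ S) (g' : Spec (CommRingCat.of K) ⟶ S') (_ : IsAffine S') (_ : IsIntegral S')
      (_ : IsIntegralHom π) (_ : IsDominant g'),
      (∀ s : S', IsIntegrallyClosed (S'.presheaf.stalk s)) ∧ IsAlgClosed S'.functionField ∧ g' ≫ π = g := by
  let A := Γ(S, ⊤)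
  let φ : CommRingCat.of A ⟶ CommRingCat.of K := Spec.preimage (g ≫ S.isoSpec.hom)
  letI : Algebra A K := φ.hom.toAlgebra
  let B := integralClosure A K
  let L := FractionRing B
  letI : Algebra L K := FractionRing.liftAlgebra B K
  haveI : IsScalarTower B L K := FractionRing.isScalarTower_liftAlgebra B K
  haveI hL : IsAlgClosed L := by
    refine IsAlgClosed.of_exists_root _ fun p hpm hp => ?_
    obtain ⟨x, hx⟩ := IsAlgClosed.exists_aeval_eq_zero K p (fun h => by
      simpa [h] using hp.degree_pos)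
    have hxB : IsAlgebraic B x := by
      haveI : Algebra.IsAlgebraic B L := IsLocalization.isAlgebraic _ (nonZeroDivisors B)
      exact IsAlgebraic.restrictScalars B ⟨p, hpm.ne_zero, hx⟩
    obtain ⟨y, hy0, hy⟩ := hxB.exists_integral_multiple
    have hyx : IsIntegral A (y • x) := isIntegral_trans (A := B) _ hy
    have hy' : algebraMap B K y ≠ 0 := fun h => hy0 (Subtype.ext h)
    refine ⟨IsLocalization.mk' L (⟨y • x, hyx⟩ : B) ⟨y, mem_nonZeroDivisors_of_ne_zero hy0⟩, ?_⟩
    apply (algebraMap L K).injective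
    rw [map_zero]
    refine Eq.trans ?_ hx
    show algebraMap L K (Polynomial.eval _ p) = Polynomial.aeval x p
    rw [Polynomial.eval, Polynomial.hom_eval₂, Polynomial.aeval_def, RingHom.comp_id]
    congr 1
    refine mul_left_cancel₀ hy' ?_
    rw [IsScalarTower.algebraMap_apply B L K y, ← map_mul, mul_comm, IsLocalization.mk'_spec,
      ← IsScalarTower.algebraMap_apply B L K, ← IsScalarTower.algebraMap_apply B L K]
    exact Algebra.smul_def y x
  haveI : IsIntegrallyClosed B := (isIntegrallyClosed_iff L).2 fun {z} hz => by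
    have hzA : IsIntegral A (algebraMap L K z) := isIntegral_trans (A := B) _ (hz.map (IsScalarTower.toAlgHom B L K))
    exact ⟨⟨algebraMap L K z, hzA⟩, (algebraMap L K).injective ((IsScalarTower.algebraMap_apply B L K _).symm)⟩
  haveI : Algebra.IsIntegral A B := inferInstance
  let S' := Spec (CommRingCat.of B)
  let π : S' ⟶ S := Spec.map (CommRingCat.ofHom (algebraMap A B)) ≫ S.isoSpec.inv
  let g' : Spec (CommRingCat.of K) ⟶ S' := Spec.map (CommRingCat.ofHom (algebraMap B K))
  haveI : IsIntegralHom (Spec.map (CommRingCat.ofHom (algebraMap A B))) := by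
    rw [IsIntegralHom.SpecMap_iff]
    exact algebraMap_isIntegral_iff.2 inferInstance
  haveI : IsDominant g' := by
    refine ⟨?_⟩
    rw [DenseRange]
    exact (PrimeSpectrum.denseRange_comap_iff_ker_le_nilRadical _).2
      (((RingHom.injective_iff_ker_eq_bot _).1 Subtype.val_injective).le.trans bot_le)
  have hN : ∀ x : S', IsIntegrallyClosed (S'.presheaf.stalk x) := fun x => by
    letI : Algebra B (S'.presheaf.stalk x) := StructureSheaf.stalkAlgebra B x
    haveI : IsLocalization.AtPrime (S'.presheaf.stalk x) (x : PrimeSpectrum B).asIdeal :=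
      StructureSheaf.IsLocalization.to_stalk B x
    have hle := Ideal.primeCompl_le_nonZeroDivisors (x : PrimeSpectrum B).asIdeal
    haveI := IsLocalization.isDomain_of_le_nonZeroDivisors (M := (x : PrimeSpectrum B).asIdeal.primeCompl)
      (S := S'.presheaf.stalk x) hle
    exact isIntegrallyClosed_of_isLocalization _ _ hle
  letI : Algebra B S'.functionField := instAlgebraCarrierFunctionFieldSpec (CommRingCat.of B)
  haveI : IsFractionRing B S'.functionField := functionField_isFractionRing_of_affine (CommRingCat.of B)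
  haveI : IsAlgClosed S'.functionField :=
    IsAlgClosed.of_ringEquiv L S'.functionField (IsLocalization.algEquiv (nonZeroDivisors B) L S'.functionField).toRingEquiv
  refine ⟨S', π, g', inferInstance, inferInstance, inferInstance, inferInstance, hN, inferInstance, ?_⟩
  show g' ≫ _ ≫ S.isoSpec.inv = g
  rw [← Category.assoc, ← Spec.map_comp, Iso.comp_inv_eq]
  exact Spec.map_preimage _

/-- Failure of base change is witnessed by a constant cyclic sheaf over a normal base. -/
theorem exists_normal_witness {X S : Scheme.{u}} (f : X ⟶ S) {n k : ℕ} (hn : 0 < n) (hl : Low f n k)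
    {S₂ X₂ T₂ Y₂ : Scheme.{u}} (p₂ : S₂ ⟶ S) (f₂ : X₂ ⟶ S₂) (r₂ : X₂ ⟶ X) (hX₂ : IsPullback r₂ f₂ f p₂)
    (g₂ : T₂ ⟶ S₂) (h₂ : Y₂ ⟶ X₂) (e₂ : Y₂ ⟶ T₂) (c₂ : IsPullback e₂ h₂ g₂ f₂) [QuasiCompact g₂] [QuasiSeparated g₂]
    (G : EtCoh.Ab T₂) (hG : EtCoh.KilledBy n G) (hbad : ¬ IsIso (EtBC.bcQ g₂ f₂ h₂ e₂ c₂.w (k + 1) G)) :
    ∃ (S' X' Y : Scheme.{u}) (_ : IsAffine S') (_ : IsIntegral S')
      (_ : ∀ s : S', IsIntegrallyClosed (S'.presheaf.stalk s)) (_ : IsAlgClosed S'.functionField)
      (p : S' ⟶ S) (f' : X' ⟶ S') (r : X' ⟶ X) (_ : IsPullback r f' f p)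
      (K : Type u) (_ : Field K) (_ : IsAlgClosed K) (g : Spec (CommRingCat.of K) ⟶ S') (_ : IsDominant g)
      (h : Y ⟶ X') (e : Y ⟶ Spec (CommRingCat.of K)) (_ : IsPullback e h g f') (d : ℕ) (_ : d ∣ n),
      ¬ IsZero ((EtCoh.Rpush h (k + 1)).obj (EtCoh.const Y (ZMod d))) := by
  obtain ⟨S', X', Y, _, p, f', r, hX, K, _, g, h, e, c, F, hF, hbad'⟩ :=
    exists_field_counterexample_affine f hl p₂ f₂ r₂ hX₂ g₂ h₂ e₂ c₂ G hG hbad
  let Kb := AlgebraicClosure K
  let πK : Spec (CommRingCat.of Kb) ⟶ Spec (CommRingCat.of K) := Spec.map (CommRingCat.ofHom (algebraMap K Kb))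
  haveI : IsIntegralHom πK := by
    rw [IsIntegralHom.SpecMap_iff]
    exact algebraMap_isIntegral_iff.2 inferInstance
  haveI : Surjective πK := ⟨fun x => ⟨⟨⊥, Ideal.isPrime_bot⟩, Subsingleton.elim (α := PrimeSpectrum K) _ _⟩⟩
  obtain ⟨S'', πS, g'', _, _, _, _, hN, hA, hgg⟩ := exists_normal_factor Kb (πK ≫ g)
  let X'' := pullback f' πS
  let Y'' := pullback g'' (pullback.snd f' πS)
  let e' : Y'' ⟶ Spec (CommRingCat.of Kb) := pullback.fst g'' (pullback.snd f' πS)
  let h1 : Y'' ⟶ X'' := pullback.snd g'' (pullback.snd f' πS)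
  let πX : X'' ⟶ X' := pullback.fst f' πS
  have cout : IsPullback e' (h1 ≫ πX) (πK ≫ g) f' := by
    rw [← hgg]
    exact (IsPullback.of_hasPullback g'' (pullback.snd f' πS)).paste_vert (IsPullback.of_hasPullback f' πS).flip
  let π' : Y'' ⟶ Y := c.lift (e' ≫ πK) (h1 ≫ πX) ((Category.assoc _ _ _).trans cout.w)
  have hπ' : π' ≫ h = h1 ≫ πX := c.lift_snd _ _ _
  have c'' : IsPullback e' (π' ≫ h) (πK ≫ g) f' := hπ'.symm ▸ cout
  have c' : IsPullback e' π' πK e := IsPullback.of_bot c'' (c.lift_fst _ _ _).symm c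
  haveI : CompactSpace (Spec (CommRingCat.of K)) := inferInstance
  haveI := quasiCompact_of_compact g
  haveI := quasiSeparated_of_qs g
  have hl' := low_base hl hX
  have hout : ¬ IsZero ((EtCoh.Rpush (π' ≫ h) (k + 1)).obj ((EtCoh.pull e').obj ((EtCoh.pull πK).obj F))) := by
    intro hz
    refine hbad' (isIso_bcQ_of_surjective f' g h e πK π' e' c' c.w c''.w c n
      (fun G hG => low_bcQ f' k g h e c hl' hG) F hF ?_)
    exact isIso_of_source_target_iso_zero _
      ((EtCoh.pull f').map_isZero (isZero_Rpush_sepPoint Kb (πK ≫ g) _ (k + 1) k.succ_pos)).isoZero hz.isoZero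
  rw [hπ'] at hout
  haveI : QuasiCompact g'' := quasiCompact_of_compact g''
  haveI : QuasiSeparated g'' := quasiSeparated_of_qs g''
  haveI : QuasiCompact h1 := MorphismProperty.of_isPullback (P := @QuasiCompact) (IsPullback.of_hasPullback g'' _) inferInstance
  haveI : QuasiSeparated h1 := MorphismProperty.of_isPullback (P := @QuasiSeparated) (IsPullback.of_hasPullback g'' _) inferInstance
  haveI : IsIntegralHom πX := MorphismProperty.of_isPullback (P := @IsIntegralHom) (IsPullback.of_hasPullback f' πS).flip inferInstance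
  obtain ⟨d, hd, hne⟩ : ∃ d, d ∣ n ∧ ¬ IsZero ((EtCoh.Rpush h1 (k + 1)).obj (EtCoh.const Y'' (ZMod d))) := by
    by_contra hall
    push Not at hall
    refine hout ?_
    have h2 := isZero_Rpush_pull hn Kb h1 e' _ (killedBy_pull πK hF) hall
    haveI := isIso_Θ_unit₀ πX h1 (h1 ≫ πX) (Category.id_comp _) (k + 1) ((EtCoh.pull e').obj ((EtCoh.pull πK).obj F))
    haveI : (EtCoh.push πX).Additive := inferInstance
    exact IsZero.of_iso ((EtCoh.push πX).map_isZero h2) (asIso (Θ (h1 ≫ πX) πX h1 (𝟙 Y'') (Category.id_comp _) (k + 1)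
      (pushUnit₀ (𝟙 Y'') rfl ((EtCoh.pull e').obj ((EtCoh.pull πK).obj F)))))
  exact ⟨S'', X'', Y'', inferInstance, inferInstance, hN, hA, πS ≫ p, pullback.snd f' πS, πX ≫ r,
    (IsPullback.of_hasPullback f' πS).paste_horiz hX, Kb, inferInstance, inferInstance, g'', inferInstance, h1, e',
    IsPullback.of_hasPullback _ _, d, hd, hne⟩

end Groth.L27.StalkBC
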