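import Groth.Agent.L00.RDerLES
import Mathlib.Algebra.Homology.DerivedCategory.Ext.Map
import Mathlib.CategoryTheory.Abelian.Injective.Ext

/-! # Images of cocycles in extension groups under exact functors -/

universe w w' v v' u u'

open CategoryTheory CategoryTheory.Limits CategoryTheory.Abelian CochainComplex CochainComplex.HomComplex

set_option backward.defeqAttrib.useBackward true
set_option backward.isDefEq.respectTransparency false
set_option backward.isDefEq.respectTransparency.types false
set_option linter.style.haveILetI false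

noncomputable section

namespace Groth.L27.StalkBC

open Groth.L17.GrothSS

variable {C : Type u} [Category.{v} C] [Abelian C] {D : Type u'} [Category.{v'} D] [Abelian D]
  (F : C ⥤ D) [F.Additive]

theorem mapExtendX_eq {ι : Type*} {c : ComplexShape ι} (K : HomologicalComplex C c) {o : Option ι} {i : ι}
    (ho : o = some i) :
    (mapExtendX F K o).hom = F.map (HomologicalComplex.extend.XIso K ho).hom ≫
      (HomologicalComplex.extend.XIso ((F.mapHomologicalComplex c).obj K) ho).inv := by
  subst ho
  simp [mapExtendX, HomologicalComplex.extend.XIso]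
  rfl

theorem mapExtendIso_f (K : CochainComplex C ℕ) (k : ℕ) (n : ℤ) (h : ComplexShape.embeddingUpNat.f k = n) :
    (mapExtendIso F K ComplexShape.embeddingUpNat).hom.f n =
      F.map (HomologicalComplex.extendXIso K ComplexShape.embeddingUpNat h).hom ≫
        (HomologicalComplex.extendXIso ((F.mapHomologicalComplex _).obj K) ComplexShape.embeddingUpNat h).inv :=
  mapExtendX_eq F K (ComplexShape.Embedding.r_eq_some _ h)

theorem XIsoOfEq_inv_extendXIso {E : Type*} [Category E] [HasZeroObject E] [Preadditive E] (K : CochainComplex E ℕ) (k : ℕ)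
    {i i' : ℤ} (e : i' = i) (h : ComplexShape.embeddingUpNat.f k = i') :
    (HomologicalComplex.XIsoOfEq (K.extend ComplexShape.embeddingUpNat) e).inv ≫
      (HomologicalComplex.extendXIso K ComplexShape.embeddingUpNat h).hom =
        (HomologicalComplex.extendXIso K ComplexShape.embeddingUpNat (h.trans e)).hom := by
  subst e; simp

theorem extendXIso_inv_XIsoOfEq {E : Type*} [Category E] [HasZeroObject E] [Preadditive E] (K : CochainComplex E ℕ) (k : ℕ)
    {i i' : ℤ} (e : i' = i) (h : ComplexShape.embeddingUpNat.f k = i) :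
    (HomologicalComplex.extendXIso K ComplexShape.embeddingUpNat h).inv ≫
      (HomologicalComplex.XIsoOfEq (K.extend ComplexShape.embeddingUpNat) e).inv =
        (HomologicalComplex.extendXIso K ComplexShape.embeddingUpNat (h.trans e.symm)).inv := by
  subst e; simp

variable {X Y : C} (R : InjectiveResolution Y) (R' : InjectiveResolution (F.obj Y))
  (φ : (F.mapHomologicalComplex _).obj R.cocomplex ⟶ R'.cocomplex)

/-- A comparison of resolutions on the extended complexes. -/
def extΦ : (F.mapHomologicalComplex (ComplexShape.up ℤ)).obj R.cochainComplex ⟶ R'.cochainComplex :=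
  (mapExtendIso F R.cocomplex ComplexShape.embeddingUpNat).hom ≫
    HomologicalComplex.extendMap φ ComplexShape.embeddingUpNat

theorem extΦ_f (k : ℕ) (n : ℤ) (h : (k : ℤ) = n) :
    (extΦ F R R' φ).f n = F.map (R.cochainComplexXIso n k h).hom ≫ φ.f k ≫ (R'.cochainComplexXIso n k h).inv := by
  rw [extΦ, HomologicalComplex.comp_f, mapExtendIso_f F R.cocomplex k n h,
    HomologicalComplex.extendMap_f _ ComplexShape.embeddingUpNat (i := k) (i' := n) h]
  simp [InjectiveResolution.cochainComplexXIso]

theorem map_ι'_extΦ (hφ : F.map (R.ι.f 0) ≫ φ.f 0 = R'.ι.f 0) :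
    (F.mapHomologicalComplex (ComplexShape.up ℤ)).map R.ι' ≫ extΦ F R R' φ =
      (F.mapCochainComplexSingleFunctor 0).hom.app Y ≫ R'.ι' := by
  rw [← cancel_epi ((F.mapCochainComplexSingleFunctor 0).inv.app Y), Iso.inv_hom_id_app_assoc]
  refine HomologicalComplex.from_single_hom_ext ?_
  simp [extΦ_f F R R' φ 0 0 rfl, R.ι'_f_zero, R'.ι'_f_zero, Functor.mapCochainComplexSingleFunctor,
    HomologicalComplex.singleMapHomologicalComplex_inv_app_self, ← hφ]

theorem cocycle_extΦ {n : ℕ} (z : X ⟶ R.cocomplex.X n) (m : ℤ) (hm : (n : ℤ) + 1 = m)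
    (hz : (z ≫ (R.cochainComplexXIso n n rfl).inv) ≫ R.cochainComplex.d n m = 0)
    (hz' : ((F.map z ≫ φ.f n) ≫ (R'.cochainComplexXIso n n rfl).inv) ≫ R'.cochainComplex.d n m = 0) :
    (F.mapHomologicalComplex (ComplexShape.up ℤ)).map
        (Cocycle.equivHomShift.symm (Cocycle.fromSingleMk (p := 0) (n := (n : ℤ))
          (z ≫ (R.cochainComplexXIso n n rfl).inv) (zero_add _) m hm hz)) ≫
      ((F.mapHomologicalComplex (ComplexShape.up ℤ)).commShiftIso (n : ℤ)).hom.app R.cochainComplex ≫
        (extΦ F R R' φ)⟦(n : ℤ)⟧' =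
      (F.mapCochainComplexSingleFunctor 0).hom.app X ≫
        Cocycle.equivHomShift.symm (Cocycle.fromSingleMk (p := 0) (n := (n : ℤ))
          ((F.map z ≫ φ.f n) ≫ (R'.cochainComplexXIso n n rfl).inv) (zero_add _) m hm hz') := by
  rw [← cancel_epi ((F.mapCochainComplexSingleFunctor 0).inv.app X), Iso.inv_hom_id_app_assoc]
  refine HomologicalComplex.from_single_hom_ext ?_
  simp [extΦ_f F R R' φ n ((0 : ℤ) + (n : ℤ)) (zero_add _).symm, Functor.mapCochainComplexSingleFunctor,
    HomologicalComplex.singleMapHomologicalComplex_inv_app_self, Cocycle.equivHomShift_symm_apply,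
    Functor.mapHomologicalComplex_commShiftIso_eq,
    Cochain.rightShift_v _ (n : ℤ) 0 (zero_add _) 0 0 (add_zero _) (n : ℤ) (zero_add _),
    InjectiveResolution.cochainComplexXIso]
  refine congrArg (F.map z ≫ ·) ?_
  rw [← F.map_comp_assoc, ← F.map_comp_assoc, Category.assoc]
  erw [XIsoOfEq_inv_extendXIso, extendXIso_inv_XIsoOfEq]
  simp

variable [PreservesFiniteLimits F] [PreservesFiniteColimits F] [HasExt.{w} C] [HasExt.{w'} D]

open DerivedCategory

/-- The image of the class of a cocycle is the class of its image in any compatible resolution. -/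
theorem mapExactFunctor_extMk (hφ : F.map (R.ι.f 0) ≫ φ.f 0 = R'.ι.f 0) {n : ℕ} (z : X ⟶ R.cocomplex.X n)
    (m : ℕ) (hm : n + 1 = m) (hz : z ≫ R.cocomplex.d n m = 0) :
    (R.extMk z m hm hz).mapExactFunctor F =
      R'.extMk (F.map z ≫ φ.f n) m hm (by
        rw [Category.assoc, φ.comm, Functor.mapHomologicalComplex_obj_d, ← F.map_comp_assoc, hz,
          F.map_zero, zero_comp]) := by
  letI := HasDerivedCategory.standard C
  letI := HasDerivedCategory.standard D
  ext
  rw [Ext.mapExactFunctor_hom, R.extMk_hom, R'.extMk_hom]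
  have hι := congrArg DerivedCategory.Q.map (map_ι'_extΦ F R R' φ hφ)
  rw [Functor.map_comp, Functor.map_comp] at hι
  simp only [ShiftedHom.map_comp, ShiftedHom.map_mk₀]
  simp only [ShiftedHom.comp_mk₀, ShiftedHom.mk₀_comp]
  rw [← ShiftedHom.comp_map, ← ShiftedHom.map_naturality_2 _ F.mapDerivedCategoryFactors, ShiftedHom.comp_map]
  simp only [ShiftedHom.comp_mk₀, ShiftedHom.mk₀_comp, Category.assoc, ← Functor.map_comp]
  have key : F.mapDerivedCategoryFactors.inv.app R.cochainComplex ≫
      F.mapDerivedCategory.map (inv (Q.map R.ι') ≫ (singleFunctorIsoCompQ C 0).inv.app Y) ≫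
        (F.mapDerivedCategorySingleFunctor 0).hom.app Y =
      Q.map (extΦ F R R' φ) ≫ inv (Q.map R'.ι') ≫ (singleFunctorIsoCompQ D 0).inv.app (F.obj Y) := by
    haveI : IsIso (((F.mapHomologicalComplex (ComplexShape.up ℤ)) ⋙ Q).map R.ι') :=
      (NatIso.isIso_map_iff F.mapDerivedCategoryFactors R.ι').1 (inferInstanceAs (IsIso (F.mapDerivedCategory.map (Q.map R.ι'))))
    rw [← cancel_epi (((F.mapHomologicalComplex (ComplexShape.up ℤ)) ⋙ Q).map R.ι')]
    refine ((Category.assoc _ _ _).symm.trans ((congrArg (· ≫ _)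
      (F.mapDerivedCategoryFactors.inv.naturality R.ι')).trans (Category.assoc _ _ _))).trans ?_
    refine Eq.trans ?_ ((congrArg (· ≫ _) hι).trans (Category.assoc _ _ _)).symm |>.trans (Category.assoc _ _ _)
    simp only [singleFunctorIsoCompQ]
    simp
    erw [F.mapDerivedCategory.map_id, Category.id_comp, Category.comp_id]
    exact F.mapDerivedCategoryFactors_inv_app_mapDerivedCategorySingleFunctor_hom_app Y
  have hc := congrArg Q.map (cocycle_extΦ F R R' φ z m (by omega) (by simp [R.cochainComplex_d _ _ _ _ rfl rfl, reassoc_of% hz])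
    (by simp [R'.cochainComplex_d _ _ _ _ rfl rfl, ← F.map_comp_assoc, hz]))
  rw [key, Functor.map_comp]
  simp only [ShiftedHom.map, Functor.map_comp, Category.assoc] at hc ⊢
  rw [← (Functor.commShiftIso_hom_naturality_assoc Q (extΦ F R R' φ) (n : ℤ)), reassoc_of% hc]
  simp [singleFunctorIsoCompQ]
  erw [F.mapDerivedCategorySingleFunctor_inv_app_mapDerivedCategoryFactors_hom_app_assoc, ← Q.map_comp_assoc,
    Iso.inv_hom_id_app, Q.map_id, Category.id_comp]

end Groth.L27.StalkBC
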