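import Groth.Agent.L27.StalkBC.Sec
import Groth.Agent.L27.StalkBC.ExtMap
import Groth.Agent.L27.LimBC.BCSys
import Groth.Agent.L27.StalkRpush.PreComp

/-! # Base change maps on global sections and pullback on cohomology -/

universe u

open CategoryTheory CategoryTheory.Limits AlgebraicGeometry Opposite CategoryTheory.Abelian HomologicalComplex

set_option backward.defeqAttrib.useBackward true
set_option backward.isDefEq.respectTransparency false
set_option backward.isDefEq.respectTransparency.types false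
set_option linter.style.haveILetI false
set_option linter.unusedSectionVars false

noncomputable section

namespace Groth.L27.StalkBC

open Groth.L27.LimCoh Groth.L27.LimBC Groth.L10.EtBCComp

attribute [local instance] preservesInjectiveObjects_push

/-- Morphisms to the base change of the top object are unique. -/
theorem bcTop_hom_ext {X Y : Scheme.{u}} (e : Y ⟶ X) {U : Y.Etale} (a b : U ⟶ (EtCoh.bc e).obj (EtCoh.top X)) :
    a = b := (cancel_mono (EtCore.bcTopIso e).hom).1 ((EtSite.isTerminalTop Y).hom_ext _ _)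

theorem top_hom_ext₂ {X Y Z : Scheme.{u}} (e : Y ⟶ X) (h : Z ⟶ Y) {U : Z.Etale}
    (a b : U ⟶ (EtCoh.bc h).obj ((EtCoh.bc e).obj (EtCoh.top X))) : a = b :=
  (cancel_mono ((EtCoh.bc h).map (EtCore.bcTopIso e).hom)).1 (bcTop_hom_ext h _ _)

variable {X S Y T : Scheme.{u}} (g : T ⟶ S) (f : X ⟶ S) (h : Y ⟶ X) (e : Y ⟶ T) (w : e ≫ g = h ≫ f)
  [PreservesFiniteLimits (EtCoh.pull f)] [PreservesFiniteLimits (EtCoh.pull g)]
  [PreservesFiniteLimits (EtCoh.pull h)] [PreservesFiniteLimits (EtCoh.pull e)]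

/-- Transposed morphisms out of the constant sheaves along the two sides of a square. -/
theorem square_trn {A : EtCoh.Ab T} {B : EtCoh.Ab Y} (x : A ⟶ (EtCoh.push e).obj B)
    (z : EtCoh.const T ℤ ⟶ A) :
    (EtCore.pullConst f ℤ).inv ≫ ((EtCoh.pullPushAdj f).homEquiv _ _).symm (trn g z ≫ pushSq g f h e w x) =
      trn h ((EtCore.pullConst e ℤ).inv ≫ ((EtCoh.pullPushAdj e).homEquiv _ _).symm (z ≫ x)) := by
  apply secOf.injective
  refine (ConcreteCategory.bijective_of_isIso (B.obj.map (EtCore.bcTopIso h).inv.op)).1 ?_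
  rw [secOf_transpose, secOf_trn, secOf_transpose, secOf_comp, secOf_comp]
  rw [pushSq_app g f h e w x (EtCoh.top S) _ (sqr g f h e w _) (sqr_w g f h e w _) (sqr_fstB g f h e w _)]
  rw [← secOf_trn g z]
  erw [NatTrans.naturality_apply x.hom]
  generalize (x.hom.app (op ((EtCoh.bc g).obj (EtCoh.top S)))) (secOf (trn g z)) = v
  refine ((congrArg (B.obj.map _) (Functor.map_comp_apply B.obj _ _ v).symm).trans
    (Functor.map_comp_apply B.obj _ _ v).symm).trans ?_
  refine Eq.trans ?_ (Functor.map_comp_apply B.obj _ _ v)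
  exact congrArg (fun m => B.obj.map m v) (Quiver.Hom.unop_inj (top_hom_ext₂ g e _ _))

variable {G : EtCoh.Ab T} (R : InjectiveResolution G) {q : ℕ}

/-- The comparison of resolutions. -/
def cmpRes (R' : InjectiveResolution ((EtCoh.pull e).obj G)) :
    ((EtCoh.pull e).mapHomologicalComplex _).obj R.cocomplex ⟶ R'.cocomplex :=
  RDer.descToInjectives (𝟙 _) _ (RDer.mapAug (EtCoh.pull e) R.ι) R'.cocomplex R'.ι

theorem cmpRes_zero (R' : InjectiveResolution ((EtCoh.pull e).obj G)) :
    (EtCoh.pull e).map (R.ι.f 0) ≫ (cmpRes e R R').f 0 = R'.ι.f 0 := by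
  haveI : QuasiIso (RDer.mapAug (EtCoh.pull e) R.ι) := by
    haveI : (EtCoh.pull e).PreservesHomology := inferInstance
    haveI := HomologicalComplex.quasiIso_map_of_preservesHomology R.ι (EtCoh.pull e)
    dsimp only [RDer.mapAug]
    infer_instance
  have h := RDer.ι_descToInjectives_f_zero (𝟙 _) _ (RDer.mapAug (EtCoh.pull e) R.ι) R'.cocomplex R'.ι
  rw [Category.id_comp] at h
  refine Eq.trans ?_ h
  simp [cmpRes, RDer.mapAug, HomologicalComplex.singleMapHomologicalComplex]

variable (R' : InjectiveResolution ((EtCoh.pull e).obj G))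

/-- The transposed comparison of resolutions. -/
def cmpT : R.cocomplex ⟶ ((EtCoh.push e).mapHomologicalComplex _).obj R'.cocomplex where
  f n := (EtCoh.pullPushAdj e).homEquiv _ _ ((cmpRes e R R').f n)
  comm' i j _ := by
    refine ((EtCoh.pullPushAdj e).homEquiv_naturality_right _ _).symm.trans (Eq.trans ?_
      ((EtCoh.pullPushAdj e).homEquiv_naturality_left _ _))
    exact congrArg _ ((cmpRes e R R').comm i j)

theorem cmpT_zero : R.ι.f 0 ≫ (cmpT e R R').f 0 =
    (EtCoh.pullPushAdj e).unit.app G ≫ (EtCoh.push e).map (R'.ι.f 0) := by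
  refine ((EtCoh.pullPushAdj e).homEquiv_naturality_left _ _).symm.trans ?_
  rw [cmpRes_zero, Adjunction.homEquiv_unit]
  rfl

/-- The pullback of a cocycle. -/
def Cyc.pull (z : Cyc R q) : Cyc R' q :=
  ⟨(EtCore.pullConst e ℤ).inv ≫ (EtCoh.pull e).map z.1 ≫ (cmpRes e R R').f q, by
    rw [Category.assoc, Category.assoc, (cmpRes e R R').comm, Functor.mapHomologicalComplex_obj_d,
      ← Functor.map_comp_assoc, z.2, Functor.map_zero, zero_comp, comp_zero]⟩

theorem Hpull_cls (z : Cyc R q) : EtCore.Hpull e G q z.cls = (z.pull e R R').cls := by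
  rw [EtSite.Hpull_def]
  exact (congrArg (fun t => (Ext.mk₀ (EtCore.pullConst e ℤ).inv).comp t (zero_add q))
    (mapExactFunctor_extMk (EtCoh.pull e) R R' (cmpRes e R R') (cmpRes_zero e R R') z.1 (q + 1) rfl z.2)).trans
      (InjectiveResolution.mk₀_comp_extMk R' _ _ _ _ _)

theorem bcQAdj_out (z : Cyc R q) :
    z.out g ≫ EtBC.bcQAdj g f h e w q G =
      (z.lift g ≫ cyclesMap (sqCx g f h e w (cmpT e R R')) q ≫
          RDer.cyclesComparison (EtCoh.push f) _ q) ≫
        (EtCoh.push f).map (HomologicalComplex.homologyπ _ q ≫ (R'.isoRightDerivedObj (EtCoh.push h) q).inv) := by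
  rw [bcQAdj_eq_Θ, Θ_eq g f h e w q _ R R' (cmpT e R R') (cmpT_zero e R R'), Cyc.out]
  simp only [Category.assoc, Iso.inv_hom_id_assoc, HT, homologyFunctor_map, homologyπ_naturality_assoc,
    RDer.homologyπ_homologyComparison_assoc, Functor.map_comp]

theorem bcQ_out (z : Cyc R q) :
    (EtCore.pullConst f ℤ).inv ≫ ((EtCoh.pullPushAdj f).homEquiv _ _).symm
      (z.out g ≫ EtBC.bcQAdj g f h e w q G) = (z.pull e R R').out h := by
  rw [bcQAdj_out g f h e w R R', Adjunction.homEquiv_naturality_right_symm, ← Category.assoc, Cyc.out]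
  refine congrArg (· ≫ _) ?_
  rw [← cancel_mono (HomologicalComplex.iCycles _ q), Cyc.lift_i, Category.assoc,
    ← Adjunction.homEquiv_naturality_right_symm, Category.assoc, Category.assoc, RDer.cyclesComparison_i,
    cyclesMap_i, reassoc_of% (z.lift_i g)]
  refine (square_trn g f h e w ((cmpT e R R').f q) z.1).trans ?_
  refine congrArg (trn h) (congrArg ((EtCore.pullConst e ℤ).inv ≫ ·) ?_)
  rw [Adjunction.homEquiv_naturality_left_symm]
  exact congrArg ((EtCoh.pull e).map z.1 ≫ ·) (Equiv.symm_apply_apply _ _)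

variable (q) (G) in
/-- The base change map on morphisms out of the constant sheaves. -/
def bcHom (a : EtCoh.const S ℤ ⟶ (EtCoh.Rpush g q).obj G) :
    EtCoh.const X ℤ ⟶ (EtCoh.Rpush h q).obj ((EtCoh.pull e).obj G) :=
  (EtCore.pullConst f ℤ).inv ≫ (EtCoh.pull f).map a ≫ EtBC.bcQ g f h e w q G

theorem bcHom_out (z : Cyc R q) : bcHom g f h e w G q (z.out g) = (z.pull e R R').out h := by
  refine Eq.trans (congrArg (_ ≫ ·) ?_) (bcQ_out g f h e w R R' z)
  exact ((EtCoh.pullPushAdj f).homEquiv_naturality_left_symm _ _).symm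

theorem injective_transfer {α β γ α' β' γ' : Type*} (p : α → β) (c : α → γ) (p' : α' → β') (c' : α' → γ')
    (hp : Function.Surjective p) (hc : Function.Surjective c) (hp' : Function.Surjective p')
    (hc' : Function.Surjective c') (hk : ∀ a b, p a = p b ↔ c a = c b) (hk' : ∀ a b, p' a = p' b ↔ c' a = c' b)
    (τ : α → α') (H : β → β') (B : γ → γ') (h₁ : ∀ a, H (p a) = p' (τ a)) (h₂ : ∀ a, B (c a) = c' (τ a)) :
    Function.Bijective H ↔ Function.Bijective B := by
  constructor <;> rintro ⟨hi, hs⟩ <;> refine ⟨fun x y hxy => ?_, fun x => ?_⟩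
  · obtain ⟨a, rfl⟩ := hc x
    obtain ⟨b, rfl⟩ := hc y
    rw [h₂, h₂, ← hk', ← h₁, ← h₁] at hxy
    exact (hk a b).1 (hi hxy)
  · obtain ⟨a', rfl⟩ := hc' x
    obtain ⟨y, hy⟩ := hs (p' a')
    obtain ⟨a, rfl⟩ := hp y
    exact ⟨c a, (h₂ a).trans ((hk' _ _).1 ((h₁ a).symm.trans hy))⟩
  · obtain ⟨a, rfl⟩ := hp x
    obtain ⟨b, rfl⟩ := hp y
    rw [h₁, h₁, hk', ← h₂, ← h₂] at hxy
    exact (hk a b).2 (hi hxy)
  · obtain ⟨a', rfl⟩ := hp' x
    obtain ⟨y, hy⟩ := hs (c' a')
    obtain ⟨a, rfl⟩ := hc y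
    exact ⟨p a, (h₁ a).trans ((hk' _ _).2 ((h₂ a).symm.trans hy))⟩

variable (G q) in
/-- Pullback on cohomology is bijective exactly when the base change map on global sections is. -/
theorem bijective_Hpull_iff_bcHom [Projective (EtCoh.const S ℤ)] [Projective (EtCoh.const X ℤ)] :
    Function.Bijective (EtCore.Hpull e G q) ↔ Function.Bijective (bcHom g f h e w G q) :=
  let R := injectiveResolution G
  let R' := injectiveResolution ((EtCoh.pull e).obj G)
  injective_transfer Cyc.cls (Cyc.out g) Cyc.cls (Cyc.out h) (cls_surjective R q) (out_surjective g R q)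
    (cls_surjective R' q) (out_surjective h R' q)
    (fun a b => (cls_eq_iff a b).trans (out_eq_iff g a b).symm)
    (fun a b => (cls_eq_iff a b).trans (out_eq_iff h a b).symm)
    (Cyc.pull e R R') _ _ (Hpull_cls e R R') (bcHom_out g f h e w R R')

end Groth.L27.StalkBC
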