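import Groth.Agent.L27.StalkBC.ProfBase
import Groth.Agent.L27.StalkBC.BCIntegral
import Groth.Agent.S0754
import Groth.Agent.S0426
import Groth.Agent.L27.OlivierBasic
import Groth.Agent.L27.AffineEfface.SepPoint

/-! # Fibre criterion for pullback on cohomology over profinite sets of separably closed points -/

universe u

open CategoryTheory CategoryTheory.Limits AlgebraicGeometry Opposite IsLocalRing

set_option backward.isDefEq.respectTransparency.types false
set_option linter.style.haveILetI false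
set_option linter.unusedSectionVars false

noncomputable section

namespace Groth.L27.StalkBC

open Groth.L27.LimCoh Groth.L27.LimBC

theorem bijective_pullHom_id {S : Scheme.{u}} (M : EtCoh.Ab S) :
    Function.Bijective fun a : EtCoh.const S ℤ ⟶ M =>
      (EtCore.pullConst (𝟙 S) ℤ).inv ≫ (EtCoh.pull (𝟙 S)).map a := by
  let e : EtCoh.pull (𝟙 S) ≅ 𝟭 (EtCoh.Ab S) :=
    Adjunction.leftAdjointUniq ((EtCoh.pullPushAdj (𝟙 S)).ofNatIsoRight pushId.symm) Adjunction.id
  haveI : (EtCoh.pull (𝟙 S)).Full := Functor.Full.of_iso e.symm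
  haveI : (EtCoh.pull (𝟙 S)).Faithful := Functor.Faithful.of_iso e.symm
  exact (EtCore.pullConst (𝟙 S) ℤ).homFromEquiv.bijective.comp
    (Functor.FullyFaithful.ofFullyFaithful (EtCoh.pull (𝟙 S))).homEquiv.bijective

variable {PS PX : Scheme.{u}} [IsAffine PS] (h1 : ∀ s : PS, IsClosed ({s} : Set PS))
  (h2 : ∀ s : PS, IsSepClosed (PS.residueField s))
  (m : PX ⟶ PS) [QuasiCompact m] [QuasiSeparated m] [PreservesFiniteLimits (EtCoh.pull m)]

theorem pb_fibre_iff (A : EtCoh.Ab PS) (q : ℕ) (p : PS) (R : Type u) [CommRing R] [IsLocalRing R]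
    [Algebra (PS.presheaf.stalk p) R] [IsLocalHom (algebraMap (PS.presheaf.stalk p) R)]
    [Hensel.IsStrictHenselization (PS.presheaf.stalk p) R] {W : Scheme.{u}}
    (bX : W ⟶ Spec (CommRingCat.of R)) (n : W ⟶ PX) (cn : IsPullback n bX m (Hens2.specOf PS p R))
    [PreservesFiniteLimits (EtCoh.pull bX)] :
    PB ((EtCoh.pull (Hens2.specOf PS p R)).map (EtBC.bcQ (𝟙 PS) (𝟙 PS) m m rfl q A)) ↔
      Function.Bijective (EtCore.Hpull bX ((EtCoh.pull (Hens2.specOf PS p R)).obj A) q) := by
  obtain ⟨_, _⟩ := henselian_strict p R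
  let η := Hens2.specOf PS p R
  let ψS := Spec.map (CommRingCat.ofHom (RingHom.id R))
  have hψ : ψS = 𝟙 _ := Spec.map_id _
  haveI := EtSite.preservesFiniteLimits_pull n
  haveI := EtSite.preservesFiniteLimits_pull η
  haveI := EtSite.preservesFiniteLimits_pull (n ≫ m)
  haveI := EtSite.preservesFiniteLimits_pull (bX ≫ η)
  have wA : (n ≫ m) ≫ 𝟙 PS = bX ≫ (η ≫ 𝟙 PS) := by rw [Category.comp_id, Category.comp_id, cn.w]
  have wB : (bX ≫ η) ≫ 𝟙 PS = bX ≫ (ψS ≫ η) := by rw [hψ, Category.comp_id, Category.id_comp]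
  have w0 : bX ≫ 𝟙 _ = bX ≫ ψS := by rw [hψ]
  have cS : IsPullback η (𝟙 (Spec (CommRingCat.of R))) (𝟙 PS) η :=
    IsPullback.of_vert_isIso ⟨by rw [Category.comp_id, Category.id_comp]⟩
  have eA : PB (EtBC.bcQ (𝟙 PS) (η ≫ 𝟙 PS) bX (n ≫ m) wA q A) ↔
      PB ((EtCoh.pull η).map (EtBC.bcQ (𝟙 PS) (𝟙 PS) m m rfl q A)) := by
    haveI := isIso_bcQ_specOf m p R bX n cn q ((EtCoh.pull m).obj A)
    haveI := isIso_gamma n m rfl A
    haveI := isIso_gamma η (𝟙 PS) rfl ((EtCoh.Rpush (𝟙 PS) q).obj A)
    rw [← pb_comp_right _ ((EtCoh.Rpush bX q).map (gamma n m rfl A)),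
      bcQ_vcomp (𝟙 PS) (𝟙 PS) m m rfl q η bX n cn.w wA A, pb_comp_left, pb_comp_right]
  have eB : PB (EtBC.bcQ (𝟙 PS) (ψS ≫ η) bX (bX ≫ η) wB q A) ↔
      PB (EtBC.bcQ (𝟙 (Spec (CommRingCat.of R))) ψS bX bX w0 q ((EtCoh.pull η).obj A)) := by
    haveI := isIso_bcQ_specOf (𝟙 PS) p R (𝟙 _) η cS q A
    haveI := isIso_gamma bX η rfl A
    haveI := isIso_gamma ψS η rfl ((EtCoh.Rpush (𝟙 PS) q).obj A)
    rw [← pb_comp_right _ ((EtCoh.Rpush bX q).map (gamma bX η rfl A)),
      bcQ_vcomp (𝟙 PS) η (𝟙 _) η cS.w q ψS bX bX w0 wB A, pb_comp_left, pb_comp_left]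
  exact eA.symm.trans ((pb_bcQ_congr (𝟙 PS) bX (by rw [hψ, Category.comp_id, Category.id_comp]) cn.w wA wB q A).trans
    (eB.trans (bijective_bcHom_iff (RingHom.id R) (𝟙 _) bX bX w0 _ q).symm))

include h1 h2 in
/-- Pullback on cohomology along `m` is bijective iff it is so over every point. -/
theorem bijective_Hpull_iff_fibres (A : EtCoh.Ab PS) (q : ℕ) :
    Function.Bijective (EtCore.Hpull m A q) ↔
      ∀ (p : PS) (R : Type u) [CommRing R] [IsLocalRing R] [Algebra (PS.presheaf.stalk p) R]
        [IsLocalHom (algebraMap (PS.presheaf.stalk p) R)] [Hensel.IsStrictHenselization (PS.presheaf.stalk p) R]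
        (W : Scheme.{u}) (bX : W ⟶ Spec (CommRingCat.of R)) (n : W ⟶ PX)
        (_ : IsPullback n bX m (Hens2.specOf PS p R)) [PreservesFiniteLimits (EtCoh.pull bX)],
        Function.Bijective (EtCore.Hpull bX ((EtCoh.pull (Hens2.specOf PS p R)).obj A) q) := by
  haveI := projective_const_zeroDim PS h1 h2
  haveI := EtSite.preservesFiniteLimits_pull (𝟙 PS)
  let β := EtBC.bcQ (𝟙 PS) (𝟙 PS) m m rfl q A
  have h : Function.Bijective (EtCore.Hpull m A q) ↔ IsIso β := by
    refine (bijective_Hpull_iff_bcHom (𝟙 PS) (𝟙 PS) m m rfl A q).trans (Iff.trans ?_ (isIso_iff_pb PS h1 h2 β).symm)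
    refine Iff.trans ?_ (Function.Bijective.of_comp_iff _ (bijective_pullHom_id ((EtCoh.Rpush (𝟙 PS) q).obj A)))
    exact iff_of_eq (congrArg Function.Bijective (funext fun a => (Category.assoc _ _ _).symm))
  rw [h]
  refine ⟨fun _ p R _ _ _ _ _ W bX n cn _ => (pb_fibre_iff m A q p R bX n cn).1 (pb_of_isIso _), fun H => ?_⟩
  refine isIso_of_pb β fun p R _ _ _ _ _ => ?_
  haveI := EtSite.preservesFiniteLimits_pull (pullback.snd m (Hens2.specOf PS p R))
  exact (pb_fibre_iff m A q p R _ _ (IsPullback.of_hasPullback _ _)).2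
    (H p R _ _ _ (IsPullback.of_hasPullback _ _))

/-- Pullback along a morphism followed by an isomorphism. -/
theorem bijective_Hpull_comp_iso {W Z V : Scheme.{u}} (b : W ⟶ Z) (u : Z ⟶ V) [IsIso u] {k : W ⟶ V}
    (w : b ≫ u = k) [PreservesFiniteLimits (EtCoh.pull b)] [PreservesFiniteLimits (EtCoh.pull k)]
    (F : EtCoh.Ab V) (q : ℕ) :
    Function.Bijective (EtCore.Hpull b ((EtCoh.pull u).obj F) q) ↔ Function.Bijective (EtCore.Hpull k F q) := by
  haveI := EtSite.preservesFiniteLimits_pull u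
  haveI := isIso_gamma b u w F
  have hu := L28.AcyComp.bijective_Hpull u F q
  refine (Function.Bijective.of_comp_iff _ hu).symm.trans ?_
  rw [show EtCore.Hpull b ((EtCoh.pull u).obj F) q ∘ EtCore.Hpull u F q =
      (EtCoh.HF W q).map (gamma b u w F) ∘ EtCore.Hpull k F q from funext fun e => Hpull_comp b u w q F e]
  exact Function.Bijective.of_comp_iff' (ConcreteCategory.bijective_of_isIso _) _

/-- A field-valued point with separably closed target lifts to the strict localization. -/
theorem exists_lift_specOf {X : Scheme.{u}} (K : Type u) [Field K] [IsSepClosed K]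
    (s : Spec (CommRingCat.of K) ⟶ X) (R : Type u) [CommRing R] [IsLocalRing R]
    [Algebra (X.presheaf.stalk (s (closedPoint K))) R]
    [IsLocalHom (algebraMap (X.presheaf.stalk (s (closedPoint K))) R)]
    [Hensel.IsStrictHenselization (X.presheaf.stalk (s (closedPoint K))) R] :
    ∃ g : R →+* K, Spec.map (CommRingCat.ofHom g) ≫ Hens2.specOf X (s (closedPoint K)) R = s := by
  let O := X.presheaf.stalk (s (closedPoint K))
  let f₀ : O →+* K := (Scheme.stalkClosedPointTo s).hom
  haveI : IsLocalHom f₀ := inferInstanceAs (IsLocalHom (Scheme.stalkClosedPointTo s).hom)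
  haveI : IsSepClosed (ResidueField K) := AffineEfface.isSepClosed_residueField K
  letI : Algebra (ResidueField O) (ResidueField K) := (ResidueField.map f₀).toAlgebra
  haveI hc : IsSepClosure (ResidueField O) (ResidueField R) := Hensel.IsStrictHenselization.isSepClosure
  haveI := hc.separable
  let τ : ResidueField R →ₐ[ResidueField O] ResidueField K := IsSepClosed.lift
  obtain ⟨g, ⟨hg, -⟩, -⟩ := Hensel.IsStrictHenselization.universal (R := O) (S := R) K f₀ τ.toRingHom
    τ.comp_algebraMap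
  refine ⟨g, ?_⟩
  show Spec.map _ ≫ Spec.map _ ≫ X.fromSpecStalk _ = s
  rw [← Spec.map_comp_assoc, show CommRingCat.ofHom (algebraMap O R) ≫ CommRingCat.ofHom g =
    Scheme.stalkClosedPointTo s from CommRingCat.hom_ext hg]
  exact Scheme.Spec_stalkClosedPointTo_fromSpecStalk s

variable (K : Type u) [Field K] [IsSepClosed K]

/-- Weakly étale local rings over a separably closed field are the field itself. -/
theorem isIso_of_weaklyEtale_local {R : Type u} [CommRing R] [IsLocalRing R]
    (v : Spec (CommRingCat.of R) ⟶ Spec (CommRingCat.of K)) [hv : WeaklyEtale v] : IsIso v := by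
  obtain ⟨φ, rfl⟩ := Spec.map_surjective v
  letI : Algebra K R := φ.hom.toAlgebra
  haveI : Algebra.WeaklyEtale K R := (Groth.L20.weaklyEtale_specMap_iff φ).1 hv
  letI : Field R := (Olivier.isField_of_local K R).toField
  haveI : Algebra.IsSeparable K R := Groth.Agent.S0426.result
  haveI : IsIso φ := (ConcreteCategory.isIso_iff_bijective _).2
    ⟨RingHom.injective φ.hom, IsSepClosed.algebraMap_surjective K R⟩
  infer_instance

variable {P : Scheme.{u}} (a : P ⟶ Spec (CommRingCat.of K)) [WeaklyEtale a] (p : P)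

include a in
theorem isIso_fromSpecStalk_comp : IsIso (P.fromSpecStalk p ≫ a) := by
  haveI : WeaklyEtale (P.fromSpecStalk p) := { flat := Groth.L23.flat_fromSpecStalk p }
  haveI : WeaklyEtale (P.fromSpecStalk p ≫ a) := inferInstance
  haveI hl : IsLocalRing (P.presheaf.stalk p) := P.toLocallyRingedSpace.isLocalRing p
  exact @isIso_of_weaklyEtale_local K _ _ (P.presheaf.stalk p) _ hl (P.fromSpecStalk p ≫ a) inferInstance

include a in
/-- Strict localizations of a weakly étale scheme over a separably closed field are the field itself. -/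
theorem isIso_specOf_comp (R : Type u) [CommRing R] [IsLocalRing R] [Algebra (P.presheaf.stalk p) R]
    [IsLocalHom (algebraMap (P.presheaf.stalk p) R)] [Hensel.IsStrictHenselization (P.presheaf.stalk p) R] :
    IsIso (Hens2.specOf P p R ≫ a) := by
  haveI : WeaklyEtale (Hens2.specOf P p R) := Groth.Agent.S0754.result P p R
  haveI : WeaklyEtale (Hens2.specOf P p R ≫ a) := inferInstance
  exact isIso_of_weaklyEtale_local K (R := R) _

include a in
theorem isClosed_point_of_weaklyEtale : IsClosed ({p} : Set P) := by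
  refine isClosed_of_closure_subset fun q hq => ?_
  have hpq : p ∈ Set.range (P.fromSpecStalk q) := by
    rw [Scheme.range_fromSpecStalk]
    exact specializes_iff_mem_closure.2 hq
  obtain ⟨z, hz⟩ := hpq
  haveI := isIso_fromSpecStalk_comp K a q
  have : z = closedPoint (P.presheaf.stalk q) :=
    (Scheme.homeoOfIso (asIso (P.fromSpecStalk q ≫ a))).injective (Subsingleton.elim (α := PrimeSpectrum K) _ _)
  rw [this, Scheme.fromSpecStalk_closedPoint] at hz
  exact hz

include a in
theorem isSepClosed_residueField_of_weaklyEtale : IsSepClosed (P.residueField p) := by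
  haveI := isIso_fromSpecStalk_comp K a p
  obtain ⟨ψ, hψ⟩ := Spec.map_surjective (P.fromSpecStalk p ≫ a)
  haveI : IsIso (Spec.map ψ) := hψ.symm ▸ inferInstance
  have h' : IsIso (Scheme.Spec.map ψ.op) := inferInstanceAs (IsIso (Spec.map ψ))
  haveI hψ' : IsIso ψ := (isIso_op_iff ψ).1 (isIso_of_reflects_iso ψ.op Scheme.Spec)
  let r : K →+* P.residueField p := (P.residue p).hom.comp ψ.hom
  exact StrictCover.isSepClosed_of_ringEquiv (RingEquiv.ofBijective r ⟨r.injective,
    (IsLocalRing.residue_surjective).comp (ConcreteCategory.bijective_of_isIso ψ).2⟩)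

end Groth.L27.StalkBC
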