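import Groth.Agent.L27.EtSite.StrictLocal
import Groth.Agent.L27.LimCoh.HMaps
import Groth.Agent.L27.LimBC.Theta
import Mathlib.CategoryTheory.Abelian.Injective.Ext

/-! # Cohomology classes and sections of higher direct images given by cocycles -/

universe u

open CategoryTheory CategoryTheory.Limits AlgebraicGeometry Opposite CategoryTheory.Abelian HomologicalComplex

set_option backward.defeqAttrib.useBackward true
set_option backward.isDefEq.respectTransparency false
set_option backward.isDefEq.respectTransparency.types false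
set_option linter.style.haveILetI false
set_option linter.unusedSectionVars false

noncomputable section

namespace Groth.L27.StalkBC

open Groth.L27.LimCoh Groth.L27.LimBC

variable {X S T : Scheme.{u}}

/-- The section attached to a morphism out of the constant sheaf. -/
def secOf {X : Scheme.{u}} {F : EtCoh.Ab X} : (EtCoh.const X ℤ ⟶ F) ≃+ F.obj.obj (op (EtCoh.top X)) :=
  Ext.addEquiv₀.symm.trans (secEq F)

theorem secOf_comp {F G : EtCoh.Ab X} (a : EtCoh.const X ℤ ⟶ F) (φ : F ⟶ G) :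
    secOf (a ≫ φ) = φ.hom.app (op (EtCoh.top X)) (secOf a) := by
  show secEq G (Ext.mk₀ (a ≫ φ)) = φ.hom.app _ (secEq F (Ext.mk₀ a))
  rw [← secEq_map, EtSite.HF_map_apply, Ext.mk₀_comp_mk₀]

theorem secOf_transpose (f : X ⟶ S) [PreservesFiniteLimits (EtCoh.pull f)] (F : EtCoh.Ab X)
    (a : EtCoh.const S ℤ ⟶ (EtCoh.push f).obj F) :
    secOf ((EtCore.pullConst f ℤ).inv ≫ ((EtCoh.pullPushAdj f).homEquiv _ _).symm a) =
      F.obj.map (EtCore.bcTopIso f).inv.op (secOf a) := by
  show secEq F (Ext.mk₀ _) = F.obj.map _ ((secEq ((EtCoh.push f).obj F)) (Ext.mk₀ a))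
  exact (congrArg (secEq F) (HofPush_mk₀ f F a)).symm.trans (secEq_HofPush f F (Ext.mk₀ a))

/-- The transpose of a morphism out of the constant sheaf. -/
def trn (g : T ⟶ S) {M : EtCoh.Ab T} (z : EtCoh.const T ℤ ⟶ M) : EtCoh.const S ℤ ⟶ (EtCoh.push g).obj M :=
  (EtCoh.pullPushAdj g).homEquiv _ _ ((EtCore.pullConst g ℤ).hom ≫ z)

theorem trn_comp (g : T ⟶ S) {M N : EtCoh.Ab T} (z : EtCoh.const T ℤ ⟶ M) (φ : M ⟶ N) :
    trn g z ≫ (EtCoh.push g).map φ = trn g (z ≫ φ) := by
  rw [trn, trn, ← Adjunction.homEquiv_naturality_right, Category.assoc]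

theorem trn_zero (g : T ⟶ S) {M : EtCoh.Ab T} : trn g (0 : EtCoh.const T ℤ ⟶ M) = 0 := by
  rw [trn, comp_zero, Adjunction.homEquiv_unit, (EtCoh.push g).map_zero, comp_zero]

theorem trn_bijective (g : T ⟶ S) (M : EtCoh.Ab T) :
    Function.Bijective (trn g : (EtCoh.const T ℤ ⟶ M) → _) :=
  ((EtCoh.pullPushAdj g).homEquiv _ _).bijective.comp
    ((Iso.homFromEquiv (EtCore.pullConst g ℤ)).symm.bijective)

theorem secOf_trn (g : T ⟶ S) [PreservesFiniteLimits (EtCoh.pull g)] {M : EtCoh.Ab T}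
    (z : EtCoh.const T ℤ ⟶ M) :
    M.obj.map (EtCore.bcTopIso g).inv.op (secOf (trn g z)) = secOf z := by
  refine (secOf_transpose g M _).symm.trans (congrArg secOf ?_)
  rw [trn, Equiv.symm_apply_apply, Iso.inv_hom_id_assoc]

variable (g : T ⟶ S) {G : EtCoh.Ab T} (R : InjectiveResolution G) (q : ℕ)

/-- Cocycles with values in the constant sheaf. -/
def Cyc : Type _ := {z : EtCoh.const T ℤ ⟶ R.cocomplex.X q // z ≫ R.cocomplex.d q (q + 1) = 0}

variable {R q}

/-- The cohomology class of a cocycle. -/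
def Cyc.cls (z : Cyc R q) : EtCoh.H T G q := R.extMk z.1 (q + 1) rfl z.2

/-- The morphism to the cycles given by a cocycle. -/
def Cyc.lift (z : Cyc R q) :
    EtCoh.const S ℤ ⟶ (((EtCoh.push g).mapHomologicalComplex _).obj R.cocomplex).cycles q :=
  (((EtCoh.push g).mapHomologicalComplex _).obj R.cocomplex).liftCycles (trn g z.1) (q + 1) (CochainComplex.next ℕ q)
    ((trn_comp g z.1 (R.cocomplex.d q (q + 1))).trans ((congrArg (trn g) z.2).trans (trn_zero g)))

theorem Cyc.lift_i (z : Cyc R q) :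
    z.lift g ≫ (((EtCoh.push g).mapHomologicalComplex _).obj R.cocomplex).iCycles q = trn g z.1 :=
  liftCycles_i _ _ _ _ _

/-- The section of a higher direct image given by a cocycle. -/
def Cyc.out (z : Cyc R q) : EtCoh.const S ℤ ⟶ (EtCoh.Rpush g q).obj G :=
  z.lift g ≫ HomologicalComplex.homologyπ _ q ≫ (R.isoRightDerivedObj (EtCoh.push g) q).inv

variable (R q)

theorem cls_surjective : Function.Surjective (Cyc.cls : Cyc R q → EtCoh.H T G q) := fun x => by
  obtain ⟨f, hf, rfl⟩ := R.extMk_surjective x (q + 1) rfl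
  exact ⟨⟨f, hf⟩, rfl⟩

theorem out_surjective [Projective (EtCoh.const S ℤ)] :
    Function.Surjective (Cyc.out g : Cyc R q → (EtCoh.const S ℤ ⟶ (EtCoh.Rpush g q).obj G)) := fun a => by
  let K := ((EtCoh.push g).mapHomologicalComplex (ComplexShape.up ℕ)).obj R.cocomplex
  let a₀ : EtCoh.const S ℤ ⟶ K.cycles q :=
    Projective.factorThru (a ≫ (R.isoRightDerivedObj (EtCoh.push g) q).hom) (K.homologyπ q)
  have ha₀ : a₀ ≫ K.homologyπ q = a ≫ (R.isoRightDerivedObj (EtCoh.push g) q).hom :=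
    Projective.factorThru_comp _ _
  obtain ⟨z, hz⟩ := (trn_bijective g (R.cocomplex.X q)).2 (a₀ ≫ K.iCycles q)
  have hz' : z ≫ R.cocomplex.d q (q + 1) = 0 := by
    refine (trn_bijective g _).1 (((trn_comp g z _).symm.trans ?_).trans (trn_zero g).symm)
    show trn g z ≫ K.d q (q + 1) = 0
    rw [hz, Category.assoc, K.iCycles_d, comp_zero]
  refine ⟨⟨z, hz'⟩, ?_⟩
  have e : Cyc.lift g (⟨z, hz'⟩ : Cyc R q) = a₀ := by
    rw [← cancel_mono (K.iCycles q)]
    exact (Cyc.lift_i g _).trans hz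
  rw [Cyc.out, e, reassoc_of% ha₀, Iso.hom_inv_id, Category.comp_id]

variable {R q}

/-- Two cocycles are cohomologous. -/
def Cyc.Rel (z z' : Cyc R q) : Prop :=
  ∃ w : EtCoh.const T ℤ ⟶ R.cocomplex.X ((ComplexShape.up ℕ).prev q),
    w ≫ R.cocomplex.d ((ComplexShape.up ℕ).prev q) q = z.1 - z'.1

theorem cls_eq_iff (z z' : Cyc R q) : z.cls = z'.cls ↔ z.Rel z' := by
  rw [← sub_eq_zero, Cyc.cls, Cyc.cls, R.sub_extMk]
  obtain rfl | hq := Nat.eq_zero_or_pos q
  · have e : z.Rel z' ↔ z.1 - z'.1 = 0 := by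
      constructor
      · rintro ⟨w, hw⟩
        rw [← hw, R.cocomplex.shape _ _ (by simp), comp_zero]
      · exact fun h => ⟨0, zero_comp.trans h.symm⟩
    rw [e]
    refine ⟨fun h => ?_, fun h => by simp only [h, InjectiveResolution.extMk_zero]⟩
    rw [← R.extEquivCohomologyClass.apply_eq_iff_eq, InjectiveResolution.extEquivCohomologyClass_extMk,
      InjectiveResolution.extEquivCohomologyClass_zero, CochainComplex.HomComplex.CohomologyClass.mk_eq_zero_iff,
      CochainComplex.HomComplex.Cocycle.fromSingleMk_mem_coboundaries_iff _ _ _ _ _ (-1) (by omega)] at h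
    obtain ⟨w, hw⟩ := h
    rw [(CochainComplex.isZero_of_isStrictlyGE R.cochainComplex 0 (-1) (by omega)).eq_of_tgt w 0, zero_comp] at hw
    rw [← cancel_mono (R.cochainComplexXIso (0 : ℕ) 0 rfl).inv, zero_comp]
    exact hw.symm
  · obtain ⟨p, rfl⟩ : ∃ p, q = p + 1 := ⟨q - 1, by omega⟩
    rw [R.extMk_eq_zero_iff _ _ rfl _ p rfl, Cyc.Rel, CochainComplex.prev_nat_succ]

theorem out_eq_iff [Projective (EtCoh.const S ℤ)] (z z' : Cyc R q) : z.out g = z'.out g ↔ z.Rel z' := by
  let K := ((EtCoh.push g).mapHomologicalComplex (ComplexShape.up ℕ)).obj R.cocomplex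
  let p := (ComplexShape.up ℕ).prev q
  have hi : (z.lift g - z'.lift g) ≫ K.iCycles q = trn g z.1 - trn g z'.1 := by
    rw [Preadditive.sub_comp]
    exact congrArg₂ (· - ·) (z.lift_i g) (z'.lift_i g)
  have hsub : trn g z.1 - trn g z'.1 = trn g (z.1 - z'.1) := by
    simp only [trn, Adjunction.homEquiv_unit, Preadditive.comp_sub, Functor.map_sub]
  constructor
  · intro h
    have h0 : (z.lift g - z'.lift g) ≫ K.homologyπ q = 0 := by
      rw [Preadditive.sub_comp, sub_eq_zero, ← cancel_mono (R.isoRightDerivedObj (EtCoh.push g) q).inv,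
        Category.assoc, Category.assoc]
      exact h
    let SC := ShortComplex.mk (K.toCycles p q) (K.homologyπ q) (toCycles_comp_homologyπ _ _ _)
    have hSC : SC.Exact := SC.exact_of_g_is_cokernel (K.homologyIsCokernel p q rfl)
    let b := hSC.liftFromProjective (z.lift g - z'.lift g) h0
    have hb : b ≫ K.toCycles p q = z.lift g - z'.lift g := hSC.liftFromProjective_comp _ _
    obtain ⟨w, hw⟩ := (trn_bijective g (R.cocomplex.X p)).2 b
    refine ⟨w, (trn_bijective g _).1 ?_⟩
    rw [← trn_comp, hw, ← hsub, ← hi, ← hb, Category.assoc, K.toCycles_i]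
    rfl
  · rintro ⟨w, hw⟩
    have hb : trn g w ≫ K.toCycles p q = z.lift g - z'.lift g := by
      rw [← cancel_mono (K.iCycles q), hi, hsub, Category.assoc, K.toCycles_i, ← hw, ← trn_comp]
      rfl
    rw [← sub_eq_zero, Cyc.out, Cyc.out, ← Preadditive.sub_comp, ← hb, Category.assoc,
      toCycles_comp_homologyπ_assoc, zero_comp, comp_zero]

end Groth.L27.StalkBC
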